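import Cfsg.Agent.Uni.Sub
import Cfsg.Agent.Uni.SU
import Cfsg.Agent.AutPSL.Two

/-!
# Automorphisms of `SL_2(q)` and of `SU_2(q)`
-/

set_option autoImplicit false
set_option linter.unusedSectionVars false

namespace Cfsg.Agent.Phan

open Cfsg.Agent.Uni Matrix

/-- Automorphisms of `SL_2` over a finite field are semilinear conjugations. -/
theorem aut_SL2 {K : Type*} [Field K] [Finite K]
    (α : MulAut (Matrix.SpecialLinearGroup (Fin 2) K)) :
    ∃ (g : GL (Fin 2) K) (σ : K ≃+* K), ∀ A : Matrix.SpecialLinearGroup (Fin 2) K,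
      α A = AutPSL.conjSL g (AutPSL.mapSL σ A) := by
  obtain ⟨g, σ, h⟩ := AutPSL.aut_classify_two (AutPSL.quotAut α)
  refine ⟨g, σ, ?_⟩
  obtain ⟨γ, hγ⟩ : ∃ γ : MulAut (Matrix.SpecialLinearGroup (Fin 2) K),
    γ = AutPSL.conjSL g * AutPSL.mapSL σ := ⟨_, rfl⟩
  have hγ' : ∀ A, γ A = AutPSL.conjSL g (AutPSL.mapSL σ A) := by intro A; rw [hγ]; rfl
  -- the central cocycle
  have hcen : ∀ A, ∃ z ∈ Subgroup.center (Matrix.SpecialLinearGroup (Fin 2) K),
      α A = γ A * z := by
    intro A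
    have h1 : AutPSL.toPSL (α A) = AutPSL.toPSL (γ A) := by
      rw [hγ', ← AutPSL.cAut_toPSL, ← h, AutPSL.quotAut_toPSL]
    have h2 : (γ A)⁻¹ * α A ∈ Subgroup.center (Matrix.SpecialLinearGroup (Fin 2) K) :=
      QuotientGroup.eq.1 h1.symm
    exact ⟨_, h2, by group⟩
  have hz2 : ∀ z ∈ Subgroup.center (Matrix.SpecialLinearGroup (Fin 2) K), z * z = 1 ∧
      ((2 : K) = 0 → z = 1) := by
    intro z hz
    have h1 := Matrix.SpecialLinearGroup.scalar_eq_self_of_mem_center hz 0
    obtain ⟨c, hc⟩ : ∃ c, c = (z : Matrix (Fin 2) (Fin 2) K) 0 0 := ⟨_, rfl⟩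
    rw [← hc] at h1
    have h2 : c * c = 1 := by
      have := z.det_coe
      rw [← h1, Matrix.det_fin_two] at this
      simpa using this
    constructor
    · apply Subtype.ext
      rw [Matrix.SpecialLinearGroup.coe_mul, ← h1]
      ext i j
      fin_cases i <;> fin_cases j <;> simp [Matrix.mul_apply, h2]
    · intro h20
      have h3 : c = 1 := by
        have h4 : (c - 1) * (c - 1) = 0 := by linear_combination h2 + (1 - c) * h20
        exact sub_eq_zero.1 (mul_self_eq_zero.1 h4)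
      apply Subtype.ext
      rw [← h1, h3]
      ext i j
      fin_cases i <;> fin_cases j <;> simp
  intro A
  rw [← hγ']
  refine Matrix.SL2.transvection_induction (fun A => α A = γ A) ?_ ?_ A
  · intro i j hij c
    obtain ⟨z, hz, hz'⟩ := hcen (Matrix.SpecialLinearGroup.transvection hij c)
    by_cases h20 : (2 : K) = 0
    · rw [hz', (hz2 z hz).2 h20, mul_one]
    · obtain ⟨w, hw, hw'⟩ := hcen (Matrix.SpecialLinearGroup.transvection hij (c / 2))
      have h3 : Matrix.SpecialLinearGroup.transvection hij c =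
          Matrix.SpecialLinearGroup.transvection hij (c / 2) *
          Matrix.SpecialLinearGroup.transvection hij (c / 2) := by
        rw [← Matrix.SpecialLinearGroup.transvection_add]
        congr 1
        field_simp
        ring
      rw [h3, map_mul, map_mul, hw']
      have h4 := (Subgroup.mem_center_iff.1 hw) (γ (Matrix.SpecialLinearGroup.transvection hij
        (c / 2)))
      rw [mul_assoc, ← mul_assoc w, ← h4, mul_assoc _ w w, (hz2 w hw).1, mul_one]
  · intro A B hA hB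
    rw [map_mul, map_mul, hA, hB]

variable {F : Type*} [Field F] [Fintype F] {q : ℕ}

/-- Explicit isomorphism of `SU_2(q)` with `SL_2` over the fixed field of `x ↦ x ^ q`. -/
theorem exists_iso_SL2 (hF : Fintype.card F = q ^ 2) :
    ∃ (S : Subfield F) (P Q : Matrix (Fin 2) (Fin 2) F)
      (φ : Matrix.SpecialLinearGroup (Fin 2) S ≃* SU 2 F q), P * Q = 1 ∧ Q * P = 1 ∧
      (∀ A, ((φ A : Matrix.SpecialLinearGroup (Fin 2) F) : Matrix (Fin 2) (Fin 2) F) =
        P * (A : Matrix (Fin 2) (Fin 2) S).map S.subtype * Q) ∧ ∀ x : F, x ∈ S ↔ x ^ q = x := by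
  classical
  obtain ⟨S, hSdef⟩ : ∃ S : Subfield F, S = RingHom.eqLocusField (conjHom hF) (RingHom.id F) :=
    ⟨_, rfl⟩
  have hS : ∀ x : F, x ∈ S ↔ x ^ q = x := fun x => by rw [hSdef]; exact Iff.rfl
  obtain ⟨ι, hιdef⟩ : ∃ ι : S →+* F, ι = S.subtype := ⟨_, rfl⟩
  have hι1 : ∀ k, (ι k) ^ q = ι k := fun k => by rw [hιdef]; exact (hS _).1 k.2
  have hι2 : ∀ x : F, x ^ q = x → ∃ k, ι k = x := fun x hx =>
    ⟨⟨x, (hS x).2 hx⟩, by rw [hιdef]; rfl⟩
  have hinj : Function.Injective ι := ι.injective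
  have hq0 : q ≠ 0 := Cfsg.Agent.Uni.q_ne_zero hF
  obtain ⟨ε, hε0, hε⟩ := Cfsg.Agent.Uni.exists_skew hF
  obtain ⟨u, hu0, huu⟩ := Cfsg.Agent.Uni.exists_isotropic (F := F) (n := 2) hF le_rfl
  obtain ⟨v, hv⟩ := Cfsg.Agent.Uni.exists_hyp' hF hu0 huu
  obtain ⟨w, hw⟩ : ∃ w, w = (ε ^ q) • v := ⟨_, rfl⟩
  have hww : Cfsg.hermForm 2 F q w w = 0 := by
    rw [hw, Cfsg.Agent.Uni.hermForm_smul_left, Cfsg.Agent.Uni.hermForm_smul_right, hv.2.1]; simp
  have huw : Cfsg.hermForm 2 F q u w = ε := by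
    rw [hw, Cfsg.Agent.Uni.hermForm_smul_right, hv.2.2, mul_one, Cfsg.Agent.Uni.pow_q_pow_q hF]
  have hwu : Cfsg.hermForm 2 F q w u = -ε := by
    rw [← Cfsg.Agent.Uni.hermForm_symm hF, huw, hε]
  simp only [Cfsg.hermForm, Fin.sum_univ_two] at huu hww huw hwu
  let P : Matrix (Fin 2) (Fin 2) F := !![u 0, w 0; u 1, w 1]
  let J : Matrix (Fin 2) (Fin 2) F := !![0, ε; -ε, 0]
  have hPJ : P.transpose * P.map (Cfsg.Agent.Uni.conjHom hF) = J := by
    ext i j
    fin_cases i <;> fin_cases j <;>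
      simp [P, J, Matrix.mul_apply, Fin.sum_univ_two, huu, hww, huw, hwu]
  have hPu : IsUnit P := by
    rw [Matrix.isUnit_iff_isUnit_det, isUnit_iff_ne_zero]
    intro h0
    have := congrArg Matrix.det hPJ
    rw [Matrix.det_mul, Matrix.det_transpose, h0, zero_mul] at this
    simp [J, Matrix.det_fin_two] at this
    exact hε0 this
  obtain ⟨Pu, hPu'⟩ := hPu
  let Q : Matrix (Fin 2) (Fin 2) F := ((Pu⁻¹ : GL (Fin 2) F) : Matrix (Fin 2) (Fin 2) F)
  have hPQ : P * Q = 1 := by rw [← hPu']; exact Pu.mul_inv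
  have hQP : Q * P = 1 := by rw [← hPu']; exact Pu.inv_mul
  have hdet : ∀ A : Matrix (Fin 2) (Fin 2) F, (P * A * Q).det = A.det := by
    intro A
    have : P.det * Q.det = 1 := by rw [← Matrix.det_mul, hPQ, Matrix.det_one]
    rw [Matrix.det_mul, Matrix.det_mul]
    linear_combination A.det * this
  let σ := Cfsg.Agent.Uni.conjHom hF
  have hσmul : ∀ A B : Matrix (Fin 2) (Fin 2) F, (A * B).map σ = A.map σ * B.map σ :=
    fun A B => Matrix.map_mul
  have hQσ : P.map σ * Q.map σ = 1 := by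
    rw [← hσmul, hPQ]; exact Matrix.map_one _ (map_zero _) (map_one _)
  have hQTPT : Q.transpose * P.transpose = 1 := by
    rw [← Matrix.transpose_mul, hPQ, Matrix.transpose_one]
  have hpres : ∀ A : Matrix (Fin 2) (Fin 2) F, A.transpose * J * A.map σ = J →
      Cfsg.Agent.Uni.Pres q (P * A * Q) := by
    intro A hA
    rw [Cfsg.Agent.Uni.pres_iff_transpose_mul hF]
    change (P * A * Q).transpose * (P * A * Q).map σ = 1
    rw [hσmul, hσmul, Matrix.transpose_mul, Matrix.transpose_mul]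
    calc Q.transpose * (A.transpose * P.transpose) * (P.map σ * A.map σ * Q.map σ)
        = Q.transpose * (A.transpose * (P.transpose * P.map σ) * A.map σ) * Q.map σ := by
          simp only [Matrix.mul_assoc]
      _ = Q.transpose * (P.transpose * P.map σ) * Q.map σ := by rw [hPJ, hA]
      _ = (Q.transpose * P.transpose) * (P.map σ * Q.map σ) := by
          simp only [Matrix.mul_assoc]
      _ = 1 := by rw [hQTPT, hQσ, one_mul]
  have hpres' : ∀ M : Matrix (Fin 2) (Fin 2) F, Cfsg.Agent.Uni.Pres q M →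
      (Q * M * P).transpose * J * (Q * M * P).map σ = J := by
    intro M hM
    rw [Cfsg.Agent.Uni.pres_iff_transpose_mul hF] at hM
    change M.transpose * M.map σ = 1 at hM
    rw [hσmul, hσmul, Matrix.transpose_mul, Matrix.transpose_mul, ← hPJ]
    change P.transpose * (M.transpose * Q.transpose) * (P.transpose * P.map σ) *
      (Q.map σ * M.map σ * P.map σ) = P.transpose * P.map σ
    calc P.transpose * (M.transpose * Q.transpose) * (P.transpose * P.map σ) *
      (Q.map σ * M.map σ * P.map σ)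
        = P.transpose * (M.transpose * (Q.transpose * P.transpose) * (P.map σ * Q.map σ) *
            M.map σ) * P.map σ := by simp only [Matrix.mul_assoc]
      _ = P.transpose * P.map σ := by
          rw [hQTPT, hQσ, Matrix.mul_one, Matrix.mul_one, hM, Matrix.mul_one]
  have hfix : ∀ A : Matrix.SpecialLinearGroup (Fin 2) S,
      ((A : Matrix (Fin 2) (Fin 2) S).map ι).transpose * J *
        ((A : Matrix (Fin 2) (Fin 2) S).map ι).map σ = J := by
    intro A
    have hA : A.1 0 0 * A.1 1 1 - A.1 0 1 * A.1 1 0 = 1 := by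
      have := A.2
      rwa [Matrix.det_fin_two] at this
    have hA' : ι (A.1 0 0) * ι (A.1 1 1) - ι (A.1 0 1) * ι (A.1 1 0) = 1 := by
      rw [← map_mul, ← map_mul, ← map_sub, hA, map_one]
    ext i j
    fin_cases i <;> fin_cases j <;>
      simp [J, σ, Matrix.mul_apply, Fin.sum_univ_two, hι1]
    · ring
    · linear_combination ε * hA'
    · linear_combination (-ε) * hA'
    · ring
  let φ : Matrix.SpecialLinearGroup (Fin 2) S →* Cfsg.SU 2 F q :=
    MonoidHom.mk' (fun A => Cfsg.Agent.Uni.mkSU (P * (A : Matrix (Fin 2) (Fin 2) S).map ι * Q)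
      (hpres _ (hfix A)) (by
        rw [hdet, ← RingHom.mapMatrix_apply, ← RingHom.map_det, A.2, map_one])) (by
      intro A B
      apply Cfsg.Agent.Uni.SU_ext
      rw [Cfsg.Agent.Uni.SU_coe_mul]
      simp only [Cfsg.Agent.Uni.mkSU_coe]
      rw [Matrix.SpecialLinearGroup.coe_mul, Matrix.map_mul]
      calc P * ((A : Matrix (Fin 2) (Fin 2) S).map ι * (B : Matrix (Fin 2) (Fin 2) S).map ι) * Q
          = P * (A : Matrix (Fin 2) (Fin 2) S).map ι * (Q * P) *
              (B : Matrix (Fin 2) (Fin 2) S).map ι * Q := by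
            rw [hQP, Matrix.mul_one]; simp only [Matrix.mul_assoc]
        _ = _ := by simp only [Matrix.mul_assoc])
  have hφ : ∀ A, ((φ A : Matrix.SpecialLinearGroup (Fin 2) F) : Matrix (Fin 2) (Fin 2) F) =
      P * (A : Matrix (Fin 2) (Fin 2) S).map ι * Q := fun A => rfl
  refine ⟨S, P, Q, MulEquiv.ofBijective φ ⟨?_, ?_⟩, hPQ, hQP, fun A => by
    rw [← hιdef]; exact hφ A, hS⟩
  · intro A B hAB
    have h1 : P * (A : Matrix (Fin 2) (Fin 2) S).map ι * Q =
        P * (B : Matrix (Fin 2) (Fin 2) S).map ι * Q := by rw [← hφ, ← hφ, hAB]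
    have h2 := congrArg (fun X => Q * X * P) h1
    have h3 : ∀ X : Matrix (Fin 2) (Fin 2) F, Q * (P * X * Q) * P = X := by
      intro X
      calc Q * (P * X * Q) * P = (Q * P) * X * (Q * P) := by simp only [Matrix.mul_assoc]
        _ = X := by rw [hQP, Matrix.one_mul, Matrix.mul_one]
    simp only [h3] at h2
    apply Subtype.ext
    ext i j
    exact congrArg Subtype.val (hinj (congrFun (congrFun h2 i) j))
  · intro g
    obtain ⟨M, hM⟩ : ∃ M : Matrix (Fin 2) (Fin 2) F,
      M = ((g : Matrix.SpecialLinearGroup (Fin 2) F) : Matrix (Fin 2) (Fin 2) F) := ⟨_, rfl⟩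
    have hMp : Cfsg.Agent.Uni.Pres q M := by rw [hM]; exact Cfsg.Agent.Uni.SU_pres g
    have hMd : M.det = 1 := by rw [hM]; exact Matrix.SpecialLinearGroup.det_coe _
    obtain ⟨A, hA⟩ : ∃ A : Matrix (Fin 2) (Fin 2) F, A = Q * M * P := ⟨_, rfl⟩
    have hAd : A.det = 1 := by
      have h1 := hdet A
      rw [hA] at h1
      have h3 : P * (Q * M * P) * Q = M := by
        calc P * (Q * M * P) * Q = (P * Q) * M * (P * Q) := by simp only [Matrix.mul_assoc]
          _ = M := by rw [hPQ, Matrix.one_mul, Matrix.mul_one]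
      rw [h3, ← hA] at h1
      rw [← h1, hMd]
    have hAJ := hpres' M hMp
    rw [← hA] at hAJ
    rw [Matrix.det_fin_two] at hAd
    have e00 := congrFun (congrFun hAJ 0) 0
    have e01 := congrFun (congrFun hAJ 0) 1
    have e10 := congrFun (congrFun hAJ 1) 0
    have e11 := congrFun (congrFun hAJ 1) 1
    simp [J, σ, Matrix.mul_apply, Fin.sum_univ_two] at e00 e01 e10 e11
    have hfixA : ∀ i j, (A i j) ^ q = A i j := by
      have f00 : A 0 0 ^ q = A 0 0 := by
        apply mul_left_cancel₀ hε0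
        linear_combination (-(ε * A 0 0 ^ q)) * hAd + (-(A 0 0)) * e10 + (A 0 1) * e00
      have f01 : A 0 1 ^ q = A 0 1 := by
        apply mul_left_cancel₀ hε0
        linear_combination (-(ε * A 0 1 ^ q)) * hAd + (-(A 0 0)) * e11 + (A 0 1) * e01
      have f10 : A 1 0 ^ q = A 1 0 := by
        apply mul_left_cancel₀ hε0
        linear_combination (-(ε * A 1 0 ^ q)) * hAd + (A 1 1) * e00 + (-(A 1 0)) * e10
      have f11 : A 1 1 ^ q = A 1 1 := by
        apply mul_left_cancel₀ hε0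
        linear_combination (-(ε * A 1 1 ^ q)) * hAd + (A 1 1) * e01 + (-(A 1 0)) * e11
      intro i j
      fin_cases i <;> fin_cases j
      exacts [f00, f01, f10, f11]
    choose a ha using fun i j => hι2 _ (hfixA i j)
    have hadet : (Matrix.of a).det = 1 := by
      apply hinj
      rw [Matrix.det_fin_two, map_sub, map_mul, map_mul, map_one]
      simp only [Matrix.of_apply, ha]
      exact hAd
    obtain ⟨B, hB⟩ : ∃ B : Matrix.SpecialLinearGroup (Fin 2) S,
      (B : Matrix (Fin 2) (Fin 2) S) = Matrix.of a := ⟨⟨Matrix.of a, hadet⟩, rfl⟩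
    refine ⟨B, ?_⟩
    apply Cfsg.Agent.Uni.SU_ext
    rw [hφ, ← hM]
    have h4 : (B : Matrix (Fin 2) (Fin 2) S).map ι = A := by
      rw [hB]
      ext i j
      exact ha i j
    rw [h4, hA]
    calc P * (Q * M * P) * Q = (P * Q) * M * (P * Q) := by simp only [Matrix.mul_assoc]
      _ = M := by rw [hPQ, Matrix.one_mul, Matrix.mul_one]

/-- Every automorphism of a finite field is a power of Frobenius, hence extends. -/
theorem exists_extend_aut (S : Subfield F) (σ : S ≃+* S) :
    ∃ τ : F ≃+* F, ∀ x : S, τ x = (σ x : F) := by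
  obtain ⟨p, hp⟩ := CharP.exists F
  have hpp : Fact p.Prime := ⟨CharP.char_is_prime F p⟩
  have hS : CharP S p := by
    refine ⟨fun x => ?_⟩
    rw [← CharP.cast_eq_zero_iff F p x]
    constructor
    · intro h
      have := congrArg (fun y : S => (y : F)) h
      simpa using this
    · intro h
      apply Subtype.ext
      simpa using h
  let _ : Algebra (ZMod p) S := ZMod.algebra S p
  have hfin : Finite S := inferInstance
  let σ' : S ≃ₐ[ZMod p] S := AlgEquiv.ofRingEquiv (f := σ) (fun r => by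
    have : ((σ : S →+* S).comp (algebraMap (ZMod p) S)) = algebraMap (ZMod p) S :=
      Subsingleton.elim _ _
    exact congrArg (fun f : ZMod p →+* S => f r) this)
  obtain ⟨k, hk⟩ := (FiniteField.bijective_frobeniusAlgEquivOfAlgebraic_pow (ZMod p) S).2 σ'
  have hpow : ∀ (m : ℕ) (x : S),
      ((FiniteField.frobeniusAlgEquivOfAlgebraic (ZMod p) S) ^ m) x = x ^ (p ^ m) := by
    intro m
    induction m with
    | zero => intro x; simp
    | succ m ih =>
      intro x
      rw [pow_succ', AlgEquiv.mul_apply, ih]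
      change (x ^ p ^ m) ^ Fintype.card (ZMod p) = _
      rw [ZMod.card, ← pow_mul, pow_succ]
  refine ⟨iterateFrobeniusEquiv F p k, fun x => ?_⟩
  have h1 : σ x = x ^ (p ^ (k : ℕ)) := by
    have := congrArg (fun f : S ≃ₐ[ZMod p] S => f x) hk
    simp only at this
    rw [hpow] at this
    exact this.symm
  rw [h1, iterateFrobeniusEquiv_def]
  simp

/-- Automorphisms of `SU_2(q)` are semilinear conjugations. -/
theorem aut_SU2 (hF : Fintype.card F = q ^ 2) (β : SU 2 F q ≃* SU 2 F q) :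
    ∃ (M M' : Matrix (Fin 2) (Fin 2) F) (τ : F ≃+* F), M * M' = 1 ∧ M' * M = 1 ∧
      ∀ x : SU 2 F q, ((β x : Matrix.SpecialLinearGroup (Fin 2) F) : Matrix (Fin 2) (Fin 2) F) =
        M * (((x : Matrix.SpecialLinearGroup (Fin 2) F) : Matrix (Fin 2) (Fin 2) F).map τ) * M' := by
  obtain ⟨S, P, Q, φ, hPQ, hQP, hφ, -⟩ := exists_iso_SL2 hF
  obtain ⟨g, σ, hg⟩ := aut_SL2 ((φ.trans β).trans φ.symm)
  obtain ⟨τ, hτ⟩ := exists_extend_aut S σ
  obtain ⟨G0, hG0⟩ : ∃ G0 : Matrix (Fin 2) (Fin 2) F,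
    G0 = (g : Matrix (Fin 2) (Fin 2) S).map S.subtype := ⟨_, rfl⟩
  obtain ⟨G1, hG1⟩ : ∃ G1 : Matrix (Fin 2) (Fin 2) F,
    G1 = (((g⁻¹ : GL (Fin 2) S)) : Matrix (Fin 2) (Fin 2) S).map S.subtype := ⟨_, rfl⟩
  have hG01 : G0 * G1 = 1 := by
    rw [hG0, hG1, ← Matrix.map_mul, Units.mul_inv]
    exact Matrix.map_one _ (map_zero _) (map_one _)
  have hG10 : G1 * G0 = 1 := by
    rw [hG0, hG1, ← Matrix.map_mul, Units.inv_mul]
    exact Matrix.map_one _ (map_zero _) (map_one _)
  have hτmul : ∀ A B : Matrix (Fin 2) (Fin 2) F, (A * B).map τ = A.map τ * B.map τ :=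
    fun A B => Matrix.map_mul (f := (τ : F →+* F))
  have hτone : (1 : Matrix (Fin 2) (Fin 2) F).map τ = 1 :=
    Matrix.map_one _ (map_zero _) (map_one _)
  have hPQτ : P.map τ * Q.map τ = 1 := by rw [← hτmul, hPQ, hτone]
  have hQPτ : Q.map τ * P.map τ = 1 := by rw [← hτmul, hQP, hτone]
  refine ⟨P * G0 * Q.map τ, P.map τ * G1 * Q, τ, ?_, ?_, ?_⟩
  · calc P * G0 * Q.map τ * (P.map τ * G1 * Q)
        = P * G0 * (Q.map τ * P.map τ) * G1 * Q := by simp only [Matrix.mul_assoc]
      _ = P * (G0 * G1) * Q := by rw [hQPτ, Matrix.mul_one]; simp only [Matrix.mul_assoc]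
      _ = 1 := by rw [hG01, Matrix.mul_one, hPQ]
  · calc P.map τ * G1 * Q * (P * G0 * Q.map τ)
        = P.map τ * G1 * (Q * P) * G0 * Q.map τ := by simp only [Matrix.mul_assoc]
      _ = P.map τ * (G1 * G0) * Q.map τ := by
          rw [hQP, Matrix.mul_one]; simp only [Matrix.mul_assoc]
      _ = 1 := by rw [hG10, Matrix.mul_one, hPQτ]
  · intro x
    obtain ⟨A, rfl⟩ := φ.surjective x
    have h1 : β (φ A) = φ (AutPSL.conjSL g (AutPSL.mapSL σ A)) := by
      rw [← hg A]; simp
    rw [h1, hφ, hφ, AutPSL.coe_conjSL, AutPSL.coe_mapSL, Matrix.map_mul, Matrix.map_mul, ← hG0,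
      ← hG1, hτmul, hτmul]
    have h2 : ((A : Matrix (Fin 2) (Fin 2) S).map S.subtype).map τ =
        ((A : Matrix (Fin 2) (Fin 2) S).map σ).map S.subtype := by
      ext i j
      exact hτ _
    rw [h2]
    calc P * (G0 * ((A : Matrix (Fin 2) (Fin 2) S).map σ).map S.subtype * G1) * Q
        = P * G0 * 1 * ((A : Matrix (Fin 2) (Fin 2) S).map σ).map S.subtype * 1 * G1 * Q := by
          simp only [Matrix.mul_assoc, Matrix.one_mul]
      _ = _ := by
          rw [← hQPτ]
          simp only [Matrix.mul_assoc]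

/-- Shape of the elements of `SU_2(q)`. -/
theorem SU2_shape (hF : Fintype.card F = q ^ 2) (x : SU 2 F q) :
    (x : Matrix.SpecialLinearGroup (Fin 2) F).1 1 1 = (x : Matrix.SpecialLinearGroup (Fin 2) F).1 0 0 ^ q ∧
    (x : Matrix.SpecialLinearGroup (Fin 2) F).1 1 0 = -(x : Matrix.SpecialLinearGroup (Fin 2) F).1 0 1 ^ q := by
  obtain ⟨M, hM⟩ : ∃ M, M = (x : Matrix.SpecialLinearGroup (Fin 2) F).1 := ⟨_, rfl⟩
  have hd : M.det = 1 := by rw [hM]; exact x.1.2
  rw [Matrix.det_fin_two] at hd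
  have hp : Pres q M := by rw [hM]; exact SU_pres x
  rw [pres_iff_transpose_mul hF] at hp
  have e00 := congrFun (congrFun hp 0) 0
  have e10 := congrFun (congrFun hp 1) 0
  have e01 := congrFun (congrFun hp 0) 1
  have e11 := congrFun (congrFun hp 1) 1
  simp [Matrix.mul_apply, Fin.sum_univ_two] at e00 e10 e01 e11
  rw [← hM]
  constructor
  · linear_combination (M 0 0 ^ q) * hd - (M 1 1) * e00 + (M 1 0) * e10
  · linear_combination -(M 0 1 ^ q) * hd + (M 1 1) * e01 - (M 1 0) * e11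

/-- The conjugation as a ring automorphism. -/
def conjE (hF : Fintype.card F = q ^ 2) : F ≃+* F :=
  { conjHom hF with
    invFun := conjHom hF
    left_inv := fun x => pow_q_pow_q hF x
    right_inv := fun x => pow_q_pow_q hF x }

theorem conjE_apply (hF : Fintype.card F = q ^ 2) (x : F) : conjE hF x = x ^ q := rfl

/-- Automorphisms of `SU_2(q)` preserving the diagonal torus. -/
theorem aut_SU2_diag (hF : Fintype.card F = q ^ 2) (β : SU 2 F q ≃* SU 2 F q)
    (hβ : ∀ x : SU 2 F q, (x : Matrix.SpecialLinearGroup (Fin 2) F).1 0 1 = 0 →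
      (x : Matrix.SpecialLinearGroup (Fin 2) F).1 1 0 = 0 →
      (β x : Matrix.SpecialLinearGroup (Fin 2) F).1 0 1 = 0 ∧
      (β x : Matrix.SpecialLinearGroup (Fin 2) F).1 1 0 = 0) :
    ∃ (c : F) (τ : F ≃+* F), c ^ (q + 1) = 1 ∧ ∀ x : SU 2 F q,
      (β x : Matrix.SpecialLinearGroup (Fin 2) F).1 0 0 =
        τ ((x : Matrix.SpecialLinearGroup (Fin 2) F).1 0 0) ∧
      (β x : Matrix.SpecialLinearGroup (Fin 2) F).1 0 1 =
        c * τ ((x : Matrix.SpecialLinearGroup (Fin 2) F).1 0 1) ∧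
      (β x : Matrix.SpecialLinearGroup (Fin 2) F).1 1 0 =
        c⁻¹ * τ ((x : Matrix.SpecialLinearGroup (Fin 2) F).1 1 0) ∧
      (β x : Matrix.SpecialLinearGroup (Fin 2) F).1 1 1 =
        τ ((x : Matrix.SpecialLinearGroup (Fin 2) F).1 1 1) := by
  obtain ⟨M, M', τ, hMM, hMM', hx⟩ := aut_SU2 hF β
  -- the shape without the norm condition suffices
  suffices h : ∃ (c : F) (τ : F ≃+* F), c ≠ 0 ∧ ∀ x : SU 2 F q,
      (β x : Matrix.SpecialLinearGroup (Fin 2) F).1 0 0 =
        τ ((x : Matrix.SpecialLinearGroup (Fin 2) F).1 0 0) ∧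
      (β x : Matrix.SpecialLinearGroup (Fin 2) F).1 0 1 =
        c * τ ((x : Matrix.SpecialLinearGroup (Fin 2) F).1 0 1) ∧
      (β x : Matrix.SpecialLinearGroup (Fin 2) F).1 1 0 =
        c⁻¹ * τ ((x : Matrix.SpecialLinearGroup (Fin 2) F).1 1 0) ∧
      (β x : Matrix.SpecialLinearGroup (Fin 2) F).1 1 1 =
        τ ((x : Matrix.SpecialLinearGroup (Fin 2) F).1 1 1) by
    obtain ⟨c, τ, hc, h⟩ := h
    refine ⟨c, τ, ?_, h⟩
    obtain ⟨x, hxm⟩ := exists_SU_swap (F := F) (q := q) hF (0 : Fin 2) 1 (by decide)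
    have h01 : (x : Matrix.SpecialLinearGroup (Fin 2) F).1 0 1 = -1 := by
      rw [hxm, Matrix.diagonal_mul, Function.update_self, PEquiv.toMatrix_apply]
      simp
    have h1 := (h x).2.1
    have h2 := (h x).2.2.1
    have h3 := (SU2_shape hF x).2
    have h4 := (SU2_shape hF (β x)).2
    rw [h3, h01] at h2
    rw [h4, h1, h01, neg_pow_q hF, one_pow, map_neg, map_neg, map_neg, map_one] at h2
    have h5 : c ^ q = c⁻¹ := by
      have h6 : (c * -1) ^ q = -(c ^ q) := by rw [mul_neg, mul_one, neg_pow_q hF]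
      rw [h6] at h2
      linear_combination h2
    rw [pow_succ, h5, inv_mul_cancel₀ hc]
  obtain ⟨l, hl, hl2⟩ := exists_norm_one_sq_ne hF
  have hl0 : l ≠ 0 := by
    rintro rfl
    rw [zero_pow (by omega)] at hl
    exact zero_ne_one hl
  obtain ⟨D, hD⟩ := exists_SU_diag (F := F) (q := q) (0 : Fin 2) 1 (by decide) hl
  have hD01 : (D : Matrix.SpecialLinearGroup (Fin 2) F).1 0 1 = 0 := by
    rw [hD]; rfl
  have hD10 : (D : Matrix.SpecialLinearGroup (Fin 2) F).1 1 0 = 0 := by
    rw [hD]; rfl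
  have hβD := hβ D hD01 hD10
  have hDM : (β D : Matrix.SpecialLinearGroup (Fin 2) F).1 * M =
      M * (((D : Matrix.SpecialLinearGroup (Fin 2) F) : Matrix (Fin 2) (Fin 2) F).map τ) := by
    have := hx D
    change (β D : Matrix.SpecialLinearGroup (Fin 2) F).1 = _ at this
    rw [this, Matrix.mul_assoc, hMM', Matrix.mul_one]
  obtain ⟨d0, hd0⟩ : ∃ d0, d0 = (β D : Matrix.SpecialLinearGroup (Fin 2) F).1 0 0 := ⟨_, rfl⟩
  obtain ⟨d1, hd1⟩ : ∃ d1, d1 = (β D : Matrix.SpecialLinearGroup (Fin 2) F).1 1 1 := ⟨_, rfl⟩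
  have e00 := congrFun (congrFun hDM 0) 0
  have e01 := congrFun (congrFun hDM 0) 1
  have e10 := congrFun (congrFun hDM 1) 0
  have e11 := congrFun (congrFun hDM 1) 1
  rw [Matrix.mul_apply, Matrix.mul_apply, Fin.sum_univ_two, Fin.sum_univ_two, hD] at e00 e01 e10 e11
  rw [hβD.1, ← hd0] at e00 e01
  rw [hβD.2, ← hd1] at e10 e11
  simp [Matrix.map_apply] at e00 e01 e10 e11
  have hdetM : M 0 0 * M 1 1 - M 0 1 * M 1 0 ≠ 0 := by
    have := congrArg Matrix.det hMM
    rw [Matrix.det_mul, Matrix.det_one, Matrix.det_fin_two] at this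
    intro h0
    rw [h0, zero_mul] at this
    exact zero_ne_one this
  have m00 := congrFun (congrFun hMM 0) 0
  have m01 := congrFun (congrFun hMM 0) 1
  have m10 := congrFun (congrFun hMM 1) 0
  have m11 := congrFun (congrFun hMM 1) 1
  rw [Matrix.mul_apply, Fin.sum_univ_two] at m00 m01 m10 m11
  simp at m00 m01 m10 m11
  have hτl : τ l ≠ (τ l)⁻¹ := by
    intro h
    apply hl2
    have h1 : τ (l ^ 2) = 1 := by
      rw [map_pow, sq]
      nth_rewrite 2 [h]
      exact mul_inv_cancel₀ (by simpa using hl0)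
    exact τ.injective (h1.trans (map_one τ).symm)
  have hτl0 : τ l ≠ 0 := by simpa using hl0
  have hent : ∀ (x : SU 2 F q) (i j : Fin 2),
      (β x : Matrix.SpecialLinearGroup (Fin 2) F).1 i j =
        (M i 0 * τ ((x : Matrix.SpecialLinearGroup (Fin 2) F).1 0 0) +
          M i 1 * τ ((x : Matrix.SpecialLinearGroup (Fin 2) F).1 1 0)) * M' 0 j +
        (M i 0 * τ ((x : Matrix.SpecialLinearGroup (Fin 2) F).1 0 1) +
          M i 1 * τ ((x : Matrix.SpecialLinearGroup (Fin 2) F).1 1 1)) * M' 1 j := by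
    intro x i j
    have := congrFun (congrFun (hx x) i) j
    rw [Matrix.mul_apply, Fin.sum_univ_two, Matrix.mul_apply, Matrix.mul_apply, Fin.sum_univ_two,
      Fin.sum_univ_two] at this
    exact this
  by_cases h00 : M 0 0 = 0
  · -- antidiagonal
    have h01 : M 0 1 ≠ 0 := by
      intro h
      apply hdetM
      rw [h00, h]; ring
    have h10 : M 1 0 ≠ 0 := by
      intro h
      apply hdetM
      rw [h00, h]; ring
    have hd1' : d1 = τ l := by
      apply mul_right_cancel₀ h10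
      linear_combination e10
    have h11 : M 1 1 = 0 := by
      have : (τ l - (τ l)⁻¹) * M 1 1 = 0 := by rw [hd1'] at e11; linear_combination e11
      exact (mul_eq_zero.1 this).resolve_left (sub_ne_zero.2 hτl)
    have n00 : M' 0 0 = 0 := by
      rw [h11, zero_mul, add_zero] at m10
      exact (mul_eq_zero.1 m10).resolve_left h10
    have n11 : M' 1 1 = 0 := by
      rw [h00, zero_mul, zero_add] at m01
      exact (mul_eq_zero.1 m01).resolve_left h01
    rw [h00, zero_mul, zero_add] at m00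
    rw [h11, zero_mul, add_zero] at m11
    have hc : (-(M 0 1 * M' 0 1)) * (-(M 1 0 * M' 1 0)) = 1 := by
      linear_combination (M 1 0 * M' 0 1) * m00 + m11
    have hc0 : -(M 0 1 * M' 0 1) ≠ 0 := left_ne_zero_of_mul_eq_one hc
    have hcinv : (-(M 0 1 * M' 0 1))⁻¹ = -(M 1 0 * M' 1 0) := inv_eq_of_mul_eq_one_right hc
    refine ⟨-(M 0 1 * M' 0 1), (conjE hF).trans τ, hc0, fun x => ?_⟩
    obtain ⟨s1, s2⟩ := SU2_shape hF x
    have s3 : (x : Matrix.SpecialLinearGroup (Fin 2) F).1 0 1 =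
        -(x : Matrix.SpecialLinearGroup (Fin 2) F).1 1 0 ^ q := by
      rw [s2, neg_pow_q hF, pow_q_pow_q hF, neg_neg]
    have s4 : (x : Matrix.SpecialLinearGroup (Fin 2) F).1 0 0 =
        (x : Matrix.SpecialLinearGroup (Fin 2) F).1 1 1 ^ q := by
      rw [s1, pow_q_pow_q hF]
    rw [hcinv]
    simp only [RingEquiv.trans_apply, conjE_apply]
    refine ⟨?_, ?_, ?_, ?_⟩
    · rw [hent, h00, n00, s1]
      linear_combination τ ((x : Matrix.SpecialLinearGroup (Fin 2) F).1 0 0 ^ q) * m00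
    · rw [hent, h00, n11, s2, map_neg]
      ring
    · rw [hent, h11, n00, s3, map_neg]
      ring
    · rw [hent, h11, n11, ← s4]
      linear_combination τ ((x : Matrix.SpecialLinearGroup (Fin 2) F).1 0 0) * m11
  · have hd0' : d0 = τ l := by
      apply mul_right_cancel₀ h00
      linear_combination e00
    have h01 : M 0 1 = 0 := by
      have : (τ l - (τ l)⁻¹) * M 0 1 = 0 := by rw [hd0'] at e01; linear_combination e01
      exact (mul_eq_zero.1 this).resolve_left (sub_ne_zero.2 hτl)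
    have h11 : M 1 1 ≠ 0 := by
      intro h
      apply hdetM
      rw [h01, h]; ring
    have hd1' : d1 = (τ l)⁻¹ := by
      apply mul_right_cancel₀ h11
      linear_combination e11
    have h10 : M 1 0 = 0 := by
      have : (τ l - (τ l)⁻¹) * M 1 0 = 0 := by rw [hd1'] at e10; linear_combination -e10
      exact (mul_eq_zero.1 this).resolve_left (sub_ne_zero.2 hτl)
    have n01 : M' 0 1 = 0 := by
      rw [h01, zero_mul, add_zero] at m01
      exact (mul_eq_zero.1 m01).resolve_left h00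
    have n10 : M' 1 0 = 0 := by
      rw [h10, zero_mul, zero_add] at m10
      exact (mul_eq_zero.1 m10).resolve_left h11
    rw [h01, zero_mul, add_zero] at m00
    rw [h10, zero_mul, zero_add] at m11
    have hc : (M 0 0 * M' 1 1) * (M 1 1 * M' 0 0) = 1 := by
      linear_combination (M 1 1 * M' 1 1) * m00 + m11
    have hc0 : M 0 0 * M' 1 1 ≠ 0 := left_ne_zero_of_mul_eq_one hc
    have hcinv : (M 0 0 * M' 1 1)⁻¹ = M 1 1 * M' 0 0 := inv_eq_of_mul_eq_one_right hc
    refine ⟨M 0 0 * M' 1 1, τ, hc0, fun x => ?_⟩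
    rw [hcinv]
    refine ⟨?_, ?_, ?_, ?_⟩
    · rw [hent, h01, n10]
      linear_combination τ ((x : Matrix.SpecialLinearGroup (Fin 2) F).1 0 0) * m00
    · rw [hent, h01, n01]
      ring
    · rw [hent, h10, n10]
      ring
    · rw [hent, h10, n01]
      linear_combination τ ((x : Matrix.SpecialLinearGroup (Fin 2) F).1 1 1) * m11

end Cfsg.Agent.Phan
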