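import Cfsg.Agent.Phan.Geo
import Cfsg.Agent.Uni.Eich

/-!
# Coordinate subspaces and coordinate subgroups of `SU`
-/

set_option autoImplicit false
set_option linter.unusedSectionVars false

namespace Cfsg.Agent.Phan

open Cfsg.Agent.Uni Module

variable {F : Type*} [Field F] [Fintype F] {q : ℕ} {n : ℕ}

/-- standard basis vectors -/
abbrev ee (F : Type*) [Field F] {n : ℕ} (i : Fin n) : Fin n → F := Pi.single i 1

/-- orthonormal families indexed by a set of coordinates -/
def ONC (q : ℕ) (C : Finset (Fin n)) (x : Fin n → Fin n → F) : Prop :=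
  ∀ i ∈ C, ∀ j ∈ C, hermForm n F q (x i) (x j) = if i = j then 1 else 0

theorem ONC.exists_extend (hF : Fintype.card F = q ^ 2) {C : Finset (Fin n)}
    {x : Fin n → Fin n → F} (hx : ONC q C x) (hC : C.card < n) :
    ∃ u : Fin n → F, hermForm n F q u u = 1 ∧ ∀ i ∈ C, hermForm n F q u (x i) = 0 := by
  have hv : IsON q (fun k : Fin C.card => x (C.equivFin.symm k)) := by
    intro i j
    rw [hx _ (C.equivFin.symm i).2 _ (C.equivFin.symm j).2]
    by_cases hij : i = j
    · rw [if_pos (by rw [hij]), if_pos hij]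
    · rw [if_neg, if_neg hij]
      intro h
      exact hij (C.equivFin.symm.injective (Subtype.ext h))
  obtain ⟨u, hu, hu'⟩ := hv.exists_extend hF hC
  refine ⟨u, hu, fun i hi => ?_⟩
  have := hu' (C.equivFin ⟨i, hi⟩)
  simpa using this

theorem ONC.exists_complete (hF : Fintype.card F = q ^ 2) {C : Finset (Fin n)}
    {x : Fin n → Fin n → F} (hx : ONC q C x) :
    ∃ b : Fin n → Fin n → F, IsON q b ∧ ∀ i ∈ C, b i = x i := by
  classical
  induction hd : n - C.card generalizing C x with
  | zero =>
    have hC : C = Finset.univ := by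
      apply Finset.eq_univ_of_card
      have := Finset.card_le_univ C
      rw [Fintype.card_fin] at this ⊢
      omega
    subst hC
    exact ⟨x, fun i j => hx i (Finset.mem_univ i) j (Finset.mem_univ j), fun _ _ => rfl⟩
  | succ d ih =>
    obtain ⟨u, hu, huv⟩ := hx.exists_extend hF (by omega)
    obtain ⟨i0, hi0⟩ : ∃ i0, i0 ∉ C := by
      by_contra hcon
      push Not at hcon
      have : C = Finset.univ := Finset.eq_univ_iff_forall.2 hcon
      rw [this, Finset.card_univ, Fintype.card_fin] at hd
      omega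
    have hne : ∀ i ∈ C, i ≠ i0 := fun i hi h => hi0 (h ▸ hi)
    have hx' : ONC q (insert i0 C) (Function.update x i0 u) := by
      intro i hi j hj
      rw [Finset.mem_insert] at hi hj
      rcases hi with rfl | hi <;> rcases hj with rfl | hj
      · rw [Function.update_self, hu, if_pos rfl]
      · rw [Function.update_self, Function.update_of_ne (hne j hj), huv j hj,
          if_neg (hne j hj).symm]
      · rw [Function.update_self, Function.update_of_ne (hne i hi), form_comm hF (huv i hi),
          if_neg (hne i hi)]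
      · rw [Function.update_of_ne (hne i hi), Function.update_of_ne (hne j hj), hx i hi j hj]
    obtain ⟨b, hb, hbx⟩ := ih hx' (by rw [Finset.card_insert_of_notMem hi0]; omega)
    refine ⟨b, hb, fun i hi => ?_⟩
    rw [hbx i (Finset.mem_insert_of_mem hi), Function.update_of_ne (hne i hi)]

/-- Orthonormal families that are not full are images of the standard one under `SU`. -/
theorem ONC.exists_SU (hF : Fintype.card F = q ^ 2) {C : Finset (Fin n)}
    {x : Fin n → Fin n → F} (hx : ONC q C x) {i0 : Fin n} (hi0 : i0 ∉ C) :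
    ∃ g : SU n F q, ∀ i ∈ C, act g (ee F i) = x i := by
  classical
  obtain ⟨b, hb, hbx⟩ := hx.exists_complete hF
  obtain ⟨M, hM⟩ : ∃ M : Matrix (Fin n) (Fin n) F, M = Matrix.of fun r i => b i r := ⟨_, rfl⟩
  have hpres : Pres q M := by rw [hM]; exact (preserves_iff hF _).2 hb
  have hdet := hpres.det_norm hF
  have hd0 : M.det ≠ 0 := by
    intro h
    rw [h, zero_pow (by omega)] at hdet
    exact zero_ne_one hdet
  obtain ⟨b', hb'⟩ : ∃ b' : Fin n → Fin n → F, b' = Function.update b i0 ((M.det)⁻¹ • b i0) :=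
    ⟨_, rfl⟩
  have hON : IsON q b' := by
    have hdd : (M.det)⁻¹ * ((M.det)⁻¹) ^ q = 1 := by
      rw [← pow_succ', inv_pow, hdet, inv_one]
    intro i j
    rw [hb']
    by_cases hi : i = i0 <;> by_cases hj : j = i0
    · subst hi; subst hj
      rw [Function.update_self, hermForm_smul_left, hermForm_smul_right, hb _ _, if_pos rfl,
        mul_one, hdd]
    · subst hi
      rw [Function.update_self, Function.update_of_ne hj, hermForm_smul_left, hb i j]
      rw [if_neg (Ne.symm hj), mul_zero]
    · subst hj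
      rw [Function.update_self, Function.update_of_ne hi, hermForm_smul_right, hb i j]
      rw [if_neg hi, mul_zero]
    · rw [Function.update_of_ne hi, Function.update_of_ne hj, hb i j]
  obtain ⟨M', hM'⟩ : ∃ M' : Matrix (Fin n) (Fin n) F, M' = Matrix.of fun r i => b' i r := ⟨_, rfl⟩
  have hpres' : Pres q M' := by rw [hM']; exact (preserves_iff hF _).2 hON
  have hMM : M' = M.updateCol i0 ((M.det)⁻¹ • fun r => M r i0) := by
    ext r i
    rw [hM', Matrix.of_apply, hb']
    by_cases hi : i = i0
    · subst hi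
      rw [Function.update_self, Matrix.updateCol_self, hM]
      rfl
    · rw [Function.update_of_ne hi, Matrix.updateCol_ne hi, hM]
      rfl
  have hdet' : M'.det = 1 := by
    rw [hMM, Matrix.det_updateCol_smul]
    have : M.updateCol i0 (fun r => M r i0) = M := by
      ext r i
      by_cases hi : i = i0
      · subst hi; rw [Matrix.updateCol_self]
      · rw [Matrix.updateCol_ne hi]
    rw [this, inv_mul_cancel₀ hd0]
  refine ⟨mkSU M' hpres' hdet', fun i hi => ?_⟩
  rw [act_def, mkSU_coe, mulVec_single_one', ← hbx i hi, hM', hb',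
    show (fun r => Matrix.of (fun r i => Function.update b i0 ((M.det)⁻¹ • b i0) i r) r i) =
      Function.update b i0 ((M.det)⁻¹ • b i0) i from rfl, Function.update_of_ne]
  rintro rfl
  exact hi0 hi

/-! ### Coordinate subspaces -/

/-- Vectors supported on `S`. -/
def WS (F : Type*) [Field F] (S : Finset (Fin n)) : Submodule F (Fin n → F) where
  carrier := {x | ∀ i, i ∉ S → x i = 0}
  add_mem' {a b} ha hb i hi := by rw [Pi.add_apply, ha i hi, hb i hi, add_zero]
  zero_mem' _ _ := rfl
  smul_mem' c x hx i hi := by rw [Pi.smul_apply, hx i hi, smul_zero]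

theorem mem_WS {S : Finset (Fin n)} {x : Fin n → F} : x ∈ WS F S ↔ ∀ i, i ∉ S → x i = 0 := Iff.rfl

theorem ee_mem_WS {S : Finset (Fin n)} {i : Fin n} (hi : i ∈ S) : ee F i ∈ WS F S := by
  intro j hj
  change (Pi.single i (1 : F) : Fin n → F) j = 0
  rw [Pi.single_apply, if_neg]
  rintro rfl
  exact hj hi

theorem WS_mono {S T : Finset (Fin n)} (h : S ⊆ T) : WS F S ≤ WS F T :=
  fun _ hx i hi => hx i (fun hi' => hi (h hi'))

theorem form_ee (hF : Fintype.card F = q ^ 2) (x : Fin n → F) (i : Fin n) :
    hermForm n F q x (ee F i) = x i := hermForm_single_right' hF x i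

theorem form_ee_ee (hF : Fintype.card F = q ^ 2) (i j : Fin n) :
    hermForm n F q (ee F i) (ee F j) = if i = j then 1 else 0 := IsON.single hF i j

theorem un_ee (hF : Fintype.card F = q ^ 2) {S : Finset (Fin n)} {i : Fin n} (hi : i ∈ S) :
    Un q (WS F S) (ee F i) := ⟨ee_mem_WS hi, by rw [form_ee_ee hF, if_pos rfl]⟩

theorem pp_WS (hF : Fintype.card F = q ^ 2) (S : Finset (Fin n)) (i : Fin n) :
    pp q (WS F S) (ee F i) = WS F (S.erase i) := by
  ext x
  rw [mem_pp hF, form_ee hF, mem_WS, mem_WS]
  constructor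
  · rintro ⟨h1, h2⟩ j hj
    by_cases hji : j = i
    · rw [hji]; exact h2
    · exact h1 j (fun h => hj (Finset.mem_erase.2 ⟨hji, h⟩))
  · intro h
    exact ⟨fun j hj => h j (fun h' => hj (Finset.mem_of_mem_erase h')),
      h i (Finset.notMem_erase i S)⟩

theorem nd_finrank_WS (hF : Fintype.card F = q ^ 2) (S : Finset (Fin n)) :
    ND q (WS F S) ∧ finrank F (WS F S) = S.card := by
  classical
  have key : ∀ T : Finset (Fin n), ND q (WS F Tᶜ) ∧ finrank F (WS F Tᶜ) + T.card = n := by
    intro T
    induction T using Finset.induction_on with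
    | empty =>
      have : WS F ((∅ : Finset (Fin n))ᶜ) = ⊤ := by
        rw [eq_top_iff]
        intro x _ i hi
        exact absurd (by simp) hi
      rw [this]
      refine ⟨nd_top hF, ?_⟩
      simp
    | insert i T hi ih =>
      have h1 : (insert i T)ᶜ = (Tᶜ).erase i := by
        ext j
        simp
      have hi' : i ∈ Tᶜ := by simpa using hi
      rw [h1, ← pp_WS hF]
      have hun : Un q (WS F Tᶜ) (ee F i) := un_ee hF hi'
      refine ⟨nd_pp hF ih.1 hun, ?_⟩
      have := finrank_pp hF hun
      rw [Finset.card_insert_of_notMem hi]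
      omega
  have h := key Sᶜ
  rw [compl_compl] at h
  refine ⟨h.1, ?_⟩
  have h2 := h.2
  have h3 := Finset.card_compl_add_card S
  rw [Fintype.card_fin] at h3
  omega

theorem nd_WS (hF : Fintype.card F = q ^ 2) (S : Finset (Fin n)) : ND q (WS F S) :=
  (nd_finrank_WS hF S).1

theorem finrank_WS (hF : Fintype.card F = q ^ 2) (S : Finset (Fin n)) :
    finrank F (WS F S) = S.card := (nd_finrank_WS hF S).2

/-! ### Coordinate subgroups -/

/-- Elements of `SU` fixing the basis vectors outside `S`. -/
def HH (F : Type*) [Field F] [Fintype F] (q : ℕ) (S : Finset (Fin n)) : Subgroup (SU n F q) where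
  carrier := {g | ∀ i, i ∉ S → act g (ee F i) = ee F i}
  mul_mem' {a b} ha hb i hi := by rw [act_mul, hb i hi, ha i hi]
  one_mem' i _ := act_one _
  inv_mem' {a} ha i hi := by
    conv_lhs => rw [← ha i hi]
    rw [act_inv_act]

theorem mem_HH {S : Finset (Fin n)} {g : SU n F q} :
    g ∈ HH F q S ↔ ∀ i, i ∉ S → act g (ee F i) = ee F i := Iff.rfl

theorem HH_mono {S T : Finset (Fin n)} (h : S ⊆ T) : HH F q S ≤ HH F q T :=
  fun _ hg i hi => hg i (fun h' => hi (h h'))

theorem mem_HH_univ (g : SU n F q) : g ∈ HH F q (Finset.univ : Finset (Fin n)) :=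
  fun i hi => absurd (Finset.mem_univ i) hi

theorem act_mem_WS (hF : Fintype.card F = q ^ 2) {S : Finset (Fin n)} {g : SU n F q}
    (hg : g ∈ HH F q S) {x : Fin n → F} (hx : x ∈ WS F S) : act g x ∈ WS F S := by
  intro i hi
  rw [← form_ee hF (act g x) i, ← hg i hi, act_form, form_ee hF]
  exact hx i hi

theorem act_un (hF : Fintype.card F = q ^ 2) {S : Finset (Fin n)} {g : SU n F q}
    (hg : g ∈ HH F q S) {x : Fin n → F} (hx : Un q (WS F S) x) : Un q (WS F S) (act g x) :=
  ⟨act_mem_WS hF hg hx.1, by rw [act_form]; exact hx.2⟩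

theorem sum_ee (x : Fin n → F) : x = ∑ i, x i • ee F i := by
  funext j
  rw [Finset.sum_apply, Finset.sum_eq_single j]
  · simp
  · intro i _ hij
    change x i • (Pi.single i (1 : F) : Fin n → F) j = 0
    rw [Pi.single_apply, if_neg hij.symm, smul_zero]
  · intro h; exact absurd (Finset.mem_univ j) h

theorem act_sum {ι : Type*} (s : Finset ι) (f : ι → Fin n → F) (g : SU n F q) :
    act g (∑ i ∈ s, f i) = ∑ i ∈ s, act g (f i) := by
  classical
  induction s using Finset.induction_on with
  | empty => rw [Finset.sum_empty, Finset.sum_empty, act_zero]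
  | insert i s hi ih => rw [Finset.sum_insert hi, Finset.sum_insert hi, act_add, ih]

/-- Elements supported on `S` fix the vectors supported off `S`. -/
theorem act_eq_self {S T : Finset (Fin n)} (hST : Disjoint S T) {g : SU n F q}
    (hg : g ∈ HH F q S) {x : Fin n → F} (hx : x ∈ WS F T) : act g x = x := by
  conv_lhs => rw [sum_ee x]
  conv_rhs => rw [sum_ee x]
  rw [act_sum]
  refine Finset.sum_congr rfl fun i _ => ?_
  rw [act_smul]
  by_cases hi : i ∈ S
  · have : x i = 0 := hx i (fun h => (Finset.disjoint_left.1 hST hi h))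
    rw [this, zero_smul, zero_smul]
  · rw [hg i hi]

theorem act_ext_ee {g h : SU n F q} (H : ∀ i, act g (ee F i) = act h (ee F i)) : g = h := by
  apply act_ext
  intro x
  rw [sum_ee x, act_sum, act_sum]
  exact Finset.sum_congr rfl fun i _ => by rw [act_smul, act_smul, H i]

/-- Disjoint supports: the elements commute. -/
theorem commute_of_disjoint (hF : Fintype.card F = q ^ 2) {S T : Finset (Fin n)}
    (hST : Disjoint S T) {g h : SU n F q} (hg : g ∈ HH F q S) (hh : h ∈ HH F q T) :
    g * h = h * g := by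
  apply act_ext_ee
  intro i
  rw [act_mul, act_mul]
  by_cases hi : i ∈ S
  · have hiT : i ∉ T := fun h => Finset.disjoint_left.1 hST hi h
    rw [hh i hiT, act_eq_self hST.symm hh (act_mem_WS hF hg (ee_mem_WS hi))]
  · rw [hg i hi]
    by_cases hiT : i ∈ T
    · rw [act_eq_self hST hg (act_mem_WS hF hh (ee_mem_WS hiT))]
    · rw [hh i hiT, hg i hi]

/-- Transitivity on orthonormal families. -/
theorem exists_HH (hF : Fintype.card F = q ^ 2) {S C : Finset (Fin n)} (hCS : C ⊆ S)
    {i0 : Fin n} (hi0 : i0 ∈ S) (hi0' : i0 ∉ C) {x : Fin n → Fin n → F} (hx : ONC q C x)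
    (hxS : ∀ i ∈ C, x i ∈ WS F S) : ∃ g ∈ HH F q S, ∀ i ∈ C, act g (ee F i) = x i := by
  classical
  have hON : ONC q (Sᶜ ∪ C) (fun i => if i ∈ S then x i else ee F i) := by
    intro i hi j hj
    simp only
    by_cases hiS : i ∈ S <;> by_cases hjS : j ∈ S
    · rw [if_pos hiS, if_pos hjS]
      refine hx i ?_ j ?_
      · rcases Finset.mem_union.1 hi with h | h
        · exact absurd hiS (Finset.mem_compl.1 h)
        · exact h
      · rcases Finset.mem_union.1 hj with h | h
        · exact absurd hjS (Finset.mem_compl.1 h)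
        · exact h
    · rw [if_pos hiS, if_neg hjS, form_ee hF, if_neg]
      · refine hxS i ?_ j hjS
        rcases Finset.mem_union.1 hi with h | h
        · exact absurd hiS (Finset.mem_compl.1 h)
        · exact h
      · rintro rfl
        exact hjS hiS
    · rw [if_neg hiS, if_pos hjS, if_neg]
      · apply form_comm hF
        rw [form_ee hF]
        refine hxS j ?_ i hiS
        rcases Finset.mem_union.1 hj with h | h
        · exact absurd hjS (Finset.mem_compl.1 h)
        · exact h
      · rintro rfl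
        exact hiS hjS
    · rw [if_neg hiS, if_neg hjS, form_ee_ee hF]
  obtain ⟨g, hg⟩ := hON.exists_SU hF (i0 := i0) (by
    rw [Finset.mem_union, Finset.mem_compl]
    rintro (h | h)
    · exact h hi0
    · exact hi0' h)
  refine ⟨g, ?_, ?_⟩
  · intro i hi
    have := hg i (Finset.mem_union_left _ (Finset.mem_compl.2 hi))
    rw [this, if_neg hi]
  · intro i hi
    have := hg i (Finset.mem_union_right _ hi)
    rw [this, if_pos (hCS hi)]

theorem exists_HH1 (hF : Fintype.card F = q ^ 2) {S : Finset (Fin n)} {a i0 : Fin n}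
    (ha : a ∈ S) (hi0 : i0 ∈ S) (hai : i0 ≠ a) {v : Fin n → F} (hv : Un q (WS F S) v) :
    ∃ g ∈ HH F q S, act g (ee F a) = v := by
  obtain ⟨g, hg, hg'⟩ := exists_HH hF (C := {a}) (by simpa using ha) hi0 (by simpa using hai)
    (x := fun _ => v) (by
      intro i hi j hj
      rw [Finset.mem_singleton] at hi hj
      rw [hi, hj, if_pos rfl]
      exact hv.2) (fun _ _ => hv.1)
  exact ⟨g, hg, hg' a (Finset.mem_singleton_self a)⟩

theorem exists_HH2 (hF : Fintype.card F = q ^ 2) {S : Finset (Fin n)} {a b i0 : Fin n}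
    (ha : a ∈ S) (hb : b ∈ S) (hab : a ≠ b) (hi0 : i0 ∈ S) (hai : i0 ≠ a) (hbi : i0 ≠ b)
    {v w : Fin n → F} (hv : Un q (WS F S) v) (hw : Un q (WS F S) w)
    (hvw : hermForm n F q v w = 0) :
    ∃ g ∈ HH F q S, act g (ee F a) = v ∧ act g (ee F b) = w := by
  classical
  have hwv := form_comm hF hvw
  obtain ⟨g, hg, hg'⟩ := exists_HH hF (S := S) (C := {a, b}) (by
      intro i hi
      simp only [Finset.mem_insert, Finset.mem_singleton] at hi
      rcases hi with rfl | rfl
      · exact ha
      · exact hb) hi0 (by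
      simp only [Finset.mem_insert, Finset.mem_singleton, not_or]
      exact ⟨hai, hbi⟩)
    (x := fun i => if i = a then v else w) (by
      intro i hi j hj
      simp only [Finset.mem_insert, Finset.mem_singleton] at hi hj
      rcases hi with rfl | rfl <;> rcases hj with rfl | rfl <;>
        simp [hab, hab.symm, hv.2, hw.2, hvw, hwv]) (by
      intro i _
      beta_reduce
      split_ifs
      · exact hv.1
      · exact hw.1)
  refine ⟨g, hg, ?_, ?_⟩
  · rw [hg' a (by simp), if_pos rfl]
  · rw [hg' b (by simp), if_neg hab.symm]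

theorem exists_HH3 (hF : Fintype.card F = q ^ 2) {S : Finset (Fin n)} {a b c i0 : Fin n}
    (ha : a ∈ S) (hb : b ∈ S) (hc : c ∈ S) (hab : a ≠ b) (hac : a ≠ c) (hbc : b ≠ c)
    (hi0 : i0 ∈ S) (hai : i0 ≠ a) (hbi : i0 ≠ b) (hci : i0 ≠ c)
    {u v w : Fin n → F} (hu : Un q (WS F S) u) (hv : Un q (WS F S) v) (hw : Un q (WS F S) w)
    (huv : hermForm n F q u v = 0) (huw : hermForm n F q u w = 0)
    (hvw : hermForm n F q v w = 0) :
    ∃ g ∈ HH F q S, act g (ee F a) = u ∧ act g (ee F b) = v ∧ act g (ee F c) = w := by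
  classical
  have hwv := form_comm hF hvw
  have hwu := form_comm hF huw
  have hvu := form_comm hF huv
  obtain ⟨g, hg, hg'⟩ := exists_HH hF (S := S) (C := {a, b, c}) (by
      intro i hi
      simp only [Finset.mem_insert, Finset.mem_singleton] at hi
      rcases hi with rfl | rfl | rfl
      · exact ha
      · exact hb
      · exact hc) hi0 (by
      simp only [Finset.mem_insert, Finset.mem_singleton, not_or]
      exact ⟨hai, hbi, hci⟩)
    (x := fun i => if i = a then u else if i = b then v else w) (by
      intro i hi j hj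
      simp only [Finset.mem_insert, Finset.mem_singleton] at hi hj
      rcases hi with rfl | rfl | rfl <;> rcases hj with rfl | rfl | rfl <;>
        simp [hab, hab.symm, hac, hac.symm, hbc, hbc.symm, hu.2, hv.2, hw.2, hvw, hwv, huv, hvu,
          huw, hwu]) (by
      intro i _
      beta_reduce
      split_ifs
      · exact hu.1
      · exact hv.1
      · exact hw.1)
  refine ⟨g, hg, ?_, ?_, ?_⟩
  · rw [hg' a (by simp), if_pos rfl]
  · rw [hg' b (by simp), if_neg hab.symm, if_pos rfl]
  · rw [hg' c (by simp), if_neg hac.symm, if_neg hbc.symm]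

end Cfsg.Agent.Phan
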