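import Cfsg.Agent.Phan.Cov
import Cfsg.Agent.Phan.Grp

/-!
# The completion step: gluing homomorphisms of two coordinate subgroups of `SU`
-/

set_option autoImplicit false
set_option linter.unusedSectionVars false

namespace Cfsg.Agent.Phan

open Cfsg.Agent.Uni Module

variable {F : Type*} [Field F] [Fintype F] {q : ℕ} {n : ℕ}

/-- Generation of a coordinate subgroup by two smaller ones. -/
theorem HH_gen (hF : Fintype.card F = q ^ 2) (hq : 3 ≤ q) {S : Finset (Fin n)} {a b z : Fin n}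
    (ha : a ∈ S) (hb : b ∈ S) (hz : z ∈ S) (hab : a ≠ b) (haz : a ≠ z) (hbz : b ≠ z) :
    HH F q S = HH F q (S.erase a) ⊔ HH F q (S.erase z) := by
  classical
  have hle : HH F q (S.erase a) ⊔ HH F q (S.erase z) ≤ HH F q S :=
    sup_le (HH_mono (Finset.erase_subset _ _)) (HH_mono (Finset.erase_subset _ _))
  refine le_antisymm ?_ hle
  have h3 : 3 ≤ S.card := by
    rw [← Finset.card_erase_add_one ha, ← Finset.card_erase_add_one
      (Finset.mem_erase.2 ⟨hab.symm, hb⟩), ← Finset.card_erase_add_one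
      (Finset.mem_erase.2 ⟨hbz.symm, Finset.mem_erase.2 ⟨haz.symm, hz⟩⟩)]
    omega
  have hconn := conn_of_three hF hq (nd_WS hF S) (by rw [finrank_WS hF]; exact h3)
  obtain ⟨β, hβ, hβa⟩ := exists_HH1 hF (S := {a, b}) (a := a) (i0 := b) (by simp) (by simp)
    hab.symm (un_ee hF (by simp : b ∈ ({a, b} : Finset (Fin n))))
  have hβz : β ∈ HH F q (S.erase z) := by
    refine HH_mono ?_ hβ
    intro i hi
    simp only [Finset.mem_insert, Finset.mem_singleton] at hi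
    rcases hi with rfl | rfl
    · exact Finset.mem_erase.2 ⟨haz, ha⟩
    · exact Finset.mem_erase.2 ⟨hbz, hb⟩
  have key : ∀ x, Un q (WS F S) x →
      ∃ m ∈ HH F q (S.erase a) ⊔ HH F q (S.erase z), act m (ee F a) = x := by
    intro x hx
    have hpath := hconn (ee F a) x (un_ee hF ha) hx
    clear hx
    induction hpath with
    | refl => exact ⟨1, one_mem _, act_one _⟩
    | @tail x x' _ h1 ih =>
      obtain ⟨m, hm, hmx⟩ := ih
      have hmi : m⁻¹ ∈ HH F q S := inv_mem (hle hm)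
      have hx' : Un q (WS F (S.erase a)) (act m⁻¹ x') := by
        rw [← pp_WS hF]
        have h2 := act_un hF hmi h1.2.1
        refine ⟨(mem_pp hF).2 ⟨h2.1, ?_⟩, h2.2⟩
        rw [act_form_left, inv_inv, hmx]
        exact form_comm hF h1.2.2
      obtain ⟨α, hα, hαb⟩ := exists_HH1 hF (a := b) (i0 := z)
        (Finset.mem_erase.2 ⟨hab.symm, hb⟩) (Finset.mem_erase.2 ⟨haz.symm, hz⟩) hbz.symm hx'
      refine ⟨m * α * β, mul_mem (mul_mem hm (Subgroup.mem_sup_left hα))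
        (Subgroup.mem_sup_right hβz), ?_⟩
      rw [act_mul, act_mul, hβa, hαb, act_act_inv]
  intro g hg
  obtain ⟨m, hm, hmg⟩ := key (act g (ee F a)) (act_un hF hg (un_ee hF ha))
  have h1 : m⁻¹ * g ∈ HH F q (S.erase a) := by
    intro i hi
    by_cases hia : i = a
    · subst hia
      rw [act_mul, ← hmg, act_inv_act]
    · have hiS : i ∉ S := fun h => hi (Finset.mem_erase.2 ⟨hia, h⟩)
      exact (mul_mem (inv_mem (hle hm)) hg : m⁻¹ * g ∈ HH F q S) i hiS
  have h2 : g = m * (m⁻¹ * g) := by group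
  rw [h2]
  exact mul_mem hm (Subgroup.mem_sup_left h1)

section Step

variable {G : Type*} [Group G] {S : Finset (Fin n)} {a z : Fin n}

/-- graph of a homomorphism on a coordinate subgroup -/
def gr (S : Finset (Fin n)) (a : Fin n) (Φ : HH F q (S.erase a) →* G) :
    HH F q (S.erase a) →* HH F q S × G :=
  (Subgroup.inclusion (HH_mono (Finset.erase_subset a S))).prod Φ

theorem gr_fst (Φ : HH F q (S.erase a) →* G) (g : HH F q (S.erase a)) :
    (((gr S a Φ g).1 : HH F q S) : SU n F q) = g := rfl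

theorem gr_snd (Φ : HH F q (S.erase a) →* G) (g : HH F q (S.erase a)) :
    (gr S a Φ g).2 = Φ g := rfl

variable (ΦA : HH F q (S.erase a) →* G) (ΦB : HH F q (S.erase z) →* G)

/-- The points of the covering. -/
abbrev YY := (HH F q S × G) ⧸ (gr S a ΦA).range

/-- projection -/
def prY (y : YY ΦA) : Fin n → F :=
  Quotient.liftOn' y (fun γ => act (γ.1 : SU n F q) (ee F a)) (by
    intro γ γ' h
    rw [QuotientGroup.leftRel_apply] at h
    obtain ⟨k, hk⟩ := h
    have h1 : act (((γ⁻¹ * γ').1 : HH F q S) : SU n F q) (ee F a) = ee F a := by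
      rw [← hk, gr_fst]
      exact k.2 a (Finset.notMem_erase a S)
    have h2 : ((γ'.1 : HH F q S) : SU n F q) =
        (γ.1 : SU n F q) * (((γ⁻¹ * γ').1 : HH F q S) : SU n F q) := by
      simp
    change act (γ.1 : SU n F q) (ee F a) = act (γ'.1 : SU n F q) (ee F a)
    rw [h2, act_mul, h1])

theorem prY_mk (γ : HH F q S × G) : prY ΦA (QuotientGroup.mk γ) = act (γ.1 : SU n F q) (ee F a) :=
  rfl

/-- adjacency -/
def RY (y y' : YY ΦA) : Prop :=
  ∃ (γ : HH F q S × G) (β β' : HH F q (S.erase z)),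
    hermForm n F q (act (β : SU n F q) (ee F a)) (act (β' : SU n F q) (ee F a)) = 0 ∧
    y = QuotientGroup.mk (γ * gr S z ΦB β) ∧ y' = QuotientGroup.mk (γ * gr S z ΦB β')

theorem RY.symm (hF : Fintype.card F = q ^ 2) {y y' : YY ΦA} (h : RY ΦA ΦB y y') :
    RY ΦA ΦB y' y := by
  obtain ⟨γ, β, β', h1, h2, h3⟩ := h
  exact ⟨γ, β', β, form_comm hF h1, h3, h2⟩

variable (hagree : ∀ (g : SU n F q) (hA : g ∈ HH F q (S.erase a)) (hB : g ∈ HH F q (S.erase z)),
    ΦA ⟨g, hA⟩ = ΦB ⟨g, hB⟩)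

include hagree in
theorem mk_eq_of_act (_hF : Fintype.card F = q ^ 2) {γ : HH F q S × G}
    {β β' : HH F q (S.erase z)}
    (h : act (β : SU n F q) (ee F a) = act (β' : SU n F q) (ee F a)) :
    (QuotientGroup.mk (γ * gr S z ΦB β) : YY ΦA) = QuotientGroup.mk (γ * gr S z ΦB β') := by
  rw [QuotientGroup.eq]
  have hk : ((β⁻¹ * β' : HH F q (S.erase z)) : SU n F q) ∈ HH F q (S.erase a) := by
    intro i hi
    by_cases hia : i = a
    · subst hia
      rw [Subgroup.coe_mul, act_mul, ← h, Subgroup.coe_inv, act_inv_act]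
    · have hiS : i ∉ S := fun h => hi (Finset.mem_erase.2 ⟨hia, h⟩)
      exact (β⁻¹ * β').2 i (fun h => hiS (Finset.mem_of_mem_erase h))
  refine ⟨⟨_, hk⟩, ?_⟩
  have h1 : (γ * gr S z ΦB β)⁻¹ * (γ * gr S z ΦB β') = gr S z ΦB (β⁻¹ * β') := by
    rw [map_mul, map_inv]; group
  rw [h1]
  apply Prod.ext
  · apply Subtype.ext
    rfl
  · rw [gr_snd, gr_snd, hagree _ hk (β⁻¹ * β').2]

variable (b c : Fin n) (ha : a ∈ S) (hb : b ∈ S) (hc : c ∈ S) (hz : z ∈ S) (hab : a ≠ b)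
  (hac : a ≠ c) (haz : a ≠ z) (hbc : b ≠ c) (hbz : b ≠ z) (hcz : c ≠ z)

include hagree ha hb hc hab hac haz hbc hbz hcz in
/-- Normal form of an edge. -/
theorem RY.normal (hF : Fintype.card F = q ^ 2) {β1 : HH F q (S.erase z)}
    (hβ1 : act (β1 : SU n F q) (ee F a) = ee F b) {y y' : YY ΦA} (h : RY ΦA ΦB y y') :
    ∃ γ : HH F q S × G, y = QuotientGroup.mk γ ∧
      y' = QuotientGroup.mk (γ * gr S z ΦB β1) := by
  obtain ⟨γ, β, β', h1, rfl, rfl⟩ := h
  have haz' : a ∈ S.erase z := Finset.mem_erase.2 ⟨haz, ha⟩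
  have hbz' : b ∈ S.erase z := Finset.mem_erase.2 ⟨hbz, hb⟩
  have hcz' : c ∈ S.erase z := Finset.mem_erase.2 ⟨hcz, hc⟩
  obtain ⟨δ, hδ, hδa, hδb⟩ := exists_HH2 hF haz' hbz' hab hcz' hac.symm hbc.symm
    (act_un hF β.2 (un_ee hF haz')) (act_un hF β'.2 (un_ee hF haz')) h1
  refine ⟨γ * gr S z ΦB ⟨δ, hδ⟩, ?_, ?_⟩
  · exact mk_eq_of_act ΦA ΦB hagree hF hδa.symm
  · rw [mul_assoc, ← map_mul]
    apply mk_eq_of_act ΦA ΦB hagree hF
    rw [Subgroup.coe_mul, act_mul, hβ1]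
    exact hδb.symm

variable (hcomm : ∀ (g : SU n F q) (hgB : g ∈ HH F q (S.erase z)) (_ : g ∈ HH F q {a, b})
    (h : SU n F q) (hhA : h ∈ HH F q (S.erase a)) (_ : h ∈ HH F q ((S.erase a).erase b)),
    ΦB ⟨g, hgB⟩ * ΦA ⟨h, hhA⟩ = ΦA ⟨h, hhA⟩ * ΦB ⟨g, hgB⟩)

include hcomm in
theorem gr_comm (hF : Fintype.card F = q ^ 2) (g : HH F q (S.erase z))
    (hg : (g : SU n F q) ∈ HH F q {a, b}) (h : HH F q (S.erase a))
    (hh : (h : SU n F q) ∈ HH F q ((S.erase a).erase b)) :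
    gr S z ΦB g * gr S a ΦA h = gr S a ΦA h * gr S z ΦB g := by
  have hdisj : Disjoint ({a, b} : Finset (Fin n)) ((S.erase a).erase b) := by
    rw [Finset.disjoint_left]
    intro i hi hi'
    simp only [Finset.mem_insert, Finset.mem_singleton] at hi
    simp only [Finset.mem_erase] at hi'
    rcases hi with rfl | rfl
    · exact hi'.2.1 rfl
    · exact hi'.1 rfl
  apply Prod.ext
  · apply Subtype.ext
    exact commute_of_disjoint hF hdisj hg hh
  · exact hcomm _ g.2 hg _ h.2 hh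

include hagree ha hb hc hab hac haz hbc hbz hcz hcomm in
/-- Edges are determined by the origin and the image of the end. -/
theorem RY.unique (hF : Fintype.card F = q ^ 2) {y y' y'' : YY ΦA} (h : RY ΦA ΦB y y')
    (h' : RY ΦA ΦB y y'') (hp : prY ΦA y' = prY ΦA y'') : y' = y'' := by
  classical
  obtain ⟨β1, hβ1, hβ1a⟩ := exists_HH1 hF (S := {a, b}) (a := a) (i0 := b) (by simp) (by simp)
    hab.symm (un_ee hF (by simp : b ∈ ({a, b} : Finset (Fin n))))
  have hβz : β1 ∈ HH F q (S.erase z) := by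
    refine HH_mono ?_ hβ1
    intro i hi
    simp only [Finset.mem_insert, Finset.mem_singleton] at hi
    rcases hi with rfl | rfl
    · exact Finset.mem_erase.2 ⟨haz, ha⟩
    · exact Finset.mem_erase.2 ⟨hbz, hb⟩
  obtain ⟨γ, h1, h2⟩ := h.normal ΦA ΦB hagree b c ha hb hc hab hac haz hbc hbz hcz hF
    (β1 := ⟨β1, hβz⟩) hβ1a
  obtain ⟨γ', h1', h2'⟩ := h'.normal ΦA ΦB hagree b c ha hb hc hab hac haz hbc hbz hcz hF
    (β1 := ⟨β1, hβz⟩) hβ1a
  rw [h1, QuotientGroup.eq] at h1'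
  obtain ⟨k, hk⟩ := h1'
  have hγ' : γ' = γ * gr S a ΦA k := by rw [hk]; group
  rw [h2, h2', prY_mk, prY_mk] at hp
  have hkb : act (k : SU n F q) (ee F b) = ee F b := by
    have e1 : act (((γ * gr S z ΦB ⟨β1, hβz⟩).1 : HH F q S) : SU n F q) (ee F a) =
        act (γ.1 : SU n F q) (ee F b) := by
      rw [Prod.fst_mul, Subgroup.coe_mul, act_mul, gr_fst]
      exact congrArg _ hβ1a
    have e2 : act (((γ' * gr S z ΦB ⟨β1, hβz⟩).1 : HH F q S) : SU n F q) (ee F a) =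
        act (γ.1 : SU n F q) (act (k : SU n F q) (ee F b)) := by
      rw [hγ', Prod.fst_mul, Subgroup.coe_mul, act_mul, gr_fst, Prod.fst_mul, Subgroup.coe_mul,
        act_mul, gr_fst]
      exact congrArg (fun v => act (γ.1 : SU n F q) (act (k : SU n F q) v)) hβ1a
    rw [e1, e2] at hp
    exact (act_inj.1 hp).symm
  have hkab : (k : SU n F q) ∈ HH F q ((S.erase a).erase b) := by
    intro i hi
    by_cases hib : i = b
    · subst hib; exact hkb
    · exact k.2 i (fun h => hi (Finset.mem_erase.2 ⟨hib, h⟩))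
  rw [h2, h2', hγ', mul_assoc, ← gr_comm ΦA ΦB b hcomm hF ⟨β1, hβz⟩ hβ1 k hkab, ← mul_assoc,
    QuotientGroup.eq]
  exact ⟨k, by group⟩

include hagree ha hb hc hz hab hac haz hbc hbz hcz hcomm in
theorem RY.exists (hF : Fintype.card F = q ^ 2) (y : YY ΦA) {w : Fin n → F}
    (hw : Un q (WS F S) w) (hwy : hermForm n F q w (prY ΦA y) = 0) :
    ∃ y', RY ΦA ΦB y y' ∧ prY ΦA y' = w := by
  classical
  obtain ⟨β1, hβ1, hβ1a⟩ := exists_HH1 hF (S := {a, b}) (a := a) (i0 := b) (by simp) (by simp)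
    hab.symm (un_ee hF (by simp : b ∈ ({a, b} : Finset (Fin n))))
  have hβz : β1 ∈ HH F q (S.erase z) := by
    refine HH_mono ?_ hβ1
    intro i hi
    simp only [Finset.mem_insert, Finset.mem_singleton] at hi
    rcases hi with rfl | rfl
    · exact Finset.mem_erase.2 ⟨haz, ha⟩
    · exact Finset.mem_erase.2 ⟨hbz, hb⟩
  obtain ⟨γ, rfl⟩ := QuotientGroup.mk_surjective y
  rw [prY_mk] at hwy
  have hγi : ((γ.1 : SU n F q))⁻¹ ∈ HH F q S := inv_mem γ.1.2
  have hw' : Un q (WS F (S.erase a)) (act ((γ.1 : SU n F q))⁻¹ w) := by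
    rw [← pp_WS hF]
    have h2 := act_un hF hγi hw
    refine ⟨(mem_pp hF).2 ⟨h2.1, ?_⟩, h2.2⟩
    rw [act_form_left, inv_inv, hwy]
  obtain ⟨k, hk, hkb⟩ := exists_HH1 hF (a := b) (i0 := c)
    (Finset.mem_erase.2 ⟨hab.symm, hb⟩) (Finset.mem_erase.2 ⟨hac.symm, hc⟩) hbc.symm hw'
  refine ⟨QuotientGroup.mk (γ * gr S a ΦA ⟨k, hk⟩ * gr S z ΦB ⟨β1, hβz⟩),
    ⟨γ * gr S a ΦA ⟨k, hk⟩, 1, ⟨β1, hβz⟩, ?_, ?_, rfl⟩, ?_⟩
  · change hermForm n F q (act (1 : SU n F q) (ee F a)) (act β1 (ee F a)) = 0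
    rw [act_one, hβ1a, form_ee_ee hF, if_neg hab]
  · rw [map_one, mul_one, QuotientGroup.eq]
    exact ⟨⟨k, hk⟩, by group⟩
  · rw [prY_mk, Prod.fst_mul, Subgroup.coe_mul, act_mul, gr_fst, Prod.fst_mul, Subgroup.coe_mul,
      act_mul, gr_fst]
    change act (γ.1 : SU n F q) (act k (act β1 (ee F a))) = w
    rw [hβ1a, hkb, act_act_inv]

/-- neighbours by choice -/
noncomputable def nbY (y : YY ΦA) (w : Fin n → F) : YY ΦA := by
  classical
  exact if h : ∃ y', RY ΦA ΦB y y' ∧ prY ΦA y' = w then h.choose else y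

theorem nbY_spec {y : YY ΦA} {w : Fin n → F} (h : ∃ y', RY ΦA ΦB y y' ∧ prY ΦA y' = w) :
    RY ΦA ΦB y (nbY ΦA ΦB y w) ∧ prY ΦA (nbY ΦA ΦB y w) = w := by
  unfold nbY
  rw [dif_pos h]
  exact h.choose_spec

include hagree ha hb hc hab hac haz hbc hbz hcz hcomm in
theorem nbY_eq (hF : Fintype.card F = q ^ 2) {y y' : YY ΦA} {w : Fin n → F}
    (h : RY ΦA ΦB y y') (hw : prY ΦA y' = w) : nbY ΦA ΦB y w = y' := by
  have h1 := nbY_spec ΦA ΦB ⟨y', h, hw⟩
  exact RY.unique ΦA ΦB hagree b c ha hb hc hab hac haz hbc hbz hcz hcomm hF h1.1 h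
    (h1.2.trans hw.symm)

include ha hb hc hz hab hac haz hbc hbz hcz in
/-- Every orthonormal triple starting at `y` is a translate of the standard one. -/
theorem exists_frame (hF : Fintype.card F = q ^ 2) (y : YY ΦA) {u w : Fin n → F}
    (hu : Un q (WS F S) u) (hw : Un q (WS F S) w)
    (huy : hermForm n F q u (prY ΦA y) = 0) (hwy : hermForm n F q w (prY ΦA y) = 0)
    (hwu : hermForm n F q w u = 0) :
    ∃ γ : HH F q S × G, y = QuotientGroup.mk γ ∧ act (γ.1 : SU n F q) (ee F b) = u ∧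
      act (γ.1 : SU n F q) (ee F c) = w := by
  obtain ⟨γ, rfl⟩ := QuotientGroup.mk_surjective y
  rw [prY_mk] at huy hwy
  obtain ⟨δ, hδ, hδa, hδb, hδc⟩ := exists_HH3 hF ha hb hc hab hac hbc hz haz.symm hbz.symm
    hcz.symm (act_un hF γ.1.2 (un_ee hF ha)) hu hw (form_comm hF huy) (form_comm hF hwy)
    (form_comm hF hwu)
  have hk : ((γ.1 : SU n F q))⁻¹ * δ ∈ HH F q (S.erase a) := by
    intro i hi
    by_cases hia : i = a
    · subst hia
      rw [act_mul, hδa, act_inv_act]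
    · have hiS : i ∉ S := fun h => hi (Finset.mem_erase.2 ⟨hia, h⟩)
      exact (mul_mem (inv_mem γ.1.2) hδ : ((γ.1 : SU n F q))⁻¹ * δ ∈ HH F q S) i hiS
  refine ⟨γ * gr S a ΦA ⟨_, hk⟩, ?_, ?_, ?_⟩
  · rw [QuotientGroup.eq]
    exact ⟨⟨_, hk⟩, by group⟩
  · rw [Prod.fst_mul, Subgroup.coe_mul, gr_fst, mul_inv_cancel_left, hδb]
  · rw [Prod.fst_mul, Subgroup.coe_mul, gr_fst, mul_inv_cancel_left, hδc]

include ha in
theorem prY_un (hF : Fintype.card F = q ^ 2) (y : YY ΦA) : Un q (WS F S) (prY ΦA y) := by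
  obtain ⟨γ, rfl⟩ := QuotientGroup.mk_surjective y
  rw [prY_mk]
  exact act_un hF γ.1.2 (un_ee hF ha)

include hab haz hbz ha hb in
theorem exists_beta1 (hF : Fintype.card F = q ^ 2) :
    ∃ β1 : HH F q (S.erase z), act (β1 : SU n F q) (ee F a) = ee F b := by
  obtain ⟨β, hβ, h⟩ := exists_HH1 hF (Finset.mem_erase.2 ⟨haz, ha⟩)
    (Finset.mem_erase.2 ⟨hbz, hb⟩) hab.symm (un_ee hF (Finset.mem_erase.2 ⟨hbz, hb⟩))
  exact ⟨⟨β, hβ⟩, h⟩

include hab hac haz hbz ha hb hcz hc in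
theorem exists_beta2 (hF : Fintype.card F = q ^ 2) :
    ∃ β2 : HH F q (S.erase z), act (β2 : SU n F q) (ee F a) = ee F c := by
  obtain ⟨β, hβ, h⟩ := exists_HH1 hF (Finset.mem_erase.2 ⟨haz, ha⟩)
    (Finset.mem_erase.2 ⟨hbz, hb⟩) hab.symm (un_ee hF (Finset.mem_erase.2 ⟨hcz, hc⟩))
  exact ⟨⟨β, hβ⟩, h⟩

/-- The covering. -/
noncomputable def covY (hF : Fintype.card F = q ^ 2) : Cov q (WS F S) (YY ΦA) where
  p := prY ΦA
  nb := nbY ΦA ΦB
  p_mem := prY_un ΦA ha hF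
  p_nb := fun y w hw hwy => (nbY_spec ΦA ΦB (RY.exists ΦA ΦB hagree b c ha hb hc hz hab hac haz hbc hbz
    hcz hcomm hF y hw hwy)).2
  back := by
    intro y w hw hwy
    have h := nbY_spec ΦA ΦB (RY.exists ΦA ΦB hagree b c ha hb hc hz hab hac haz hbc hbz
      hcz hcomm hF y hw hwy)
    exact nbY_eq ΦA ΦB hagree b c ha hb hc hab hac haz hbc hbz hcz hcomm hF (h.1.symm ΦA ΦB hF) rfl
  tri := by
    intro y u w hu hw huy hwy hwu
    obtain ⟨γ, rfl, hγb, hγc⟩ := exists_frame ΦA b c ha hb hc hz hab hac haz hbc hbz hcz hF y hu hw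
      huy hwy hwu
    obtain ⟨β1, hβ1⟩ := exists_beta1 (q := q) b ha hb hab haz hbz hF
    obtain ⟨β2, hβ2⟩ := exists_beta2 (q := q) b c ha hb hc hab hac haz hbz hcz hF
    have e1 : nbY ΦA ΦB (QuotientGroup.mk γ) u = QuotientGroup.mk (γ * gr S z ΦB β1) := by
      refine nbY_eq ΦA ΦB hagree b c ha hb hc hab hac haz hbc hbz hcz hcomm hF ⟨γ, 1, β1, ?_, ?_,
        rfl⟩ ?_
      · rw [hβ1, Subgroup.coe_one, act_one, form_ee_ee hF, if_neg hab]
      · rw [map_one, mul_one]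
      · rw [prY_mk, Prod.fst_mul, Subgroup.coe_mul, act_mul, gr_fst, hβ1, hγb]
    have e2 : nbY ΦA ΦB (QuotientGroup.mk γ) w = QuotientGroup.mk (γ * gr S z ΦB β2) := by
      refine nbY_eq ΦA ΦB hagree b c ha hb hc hab hac haz hbc hbz hcz hcomm hF ⟨γ, 1, β2, ?_, ?_,
        rfl⟩ ?_
      · rw [hβ2, Subgroup.coe_one, act_one, form_ee_ee hF, if_neg hac]
      · rw [map_one, mul_one]
      · rw [prY_mk, Prod.fst_mul, Subgroup.coe_mul, act_mul, gr_fst, hβ2, hγc]
    rw [e1, e2]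
    refine nbY_eq ΦA ΦB hagree b c ha hb hc hab hac haz hbc hbz hcz hcomm hF ⟨γ, β1, β2, ?_, rfl,
      rfl⟩ ?_
    · rw [hβ1, hβ2, form_ee_ee hF, if_neg hbc]
    · rw [prY_mk, Prod.fst_mul, Subgroup.coe_mul, act_mul, gr_fst, hβ2, hγc]
  good := by
    intro y f u u' w hf hu hu' hw hfy huy hu'y huf hu'f hwab
    obtain ⟨γ, rfl, hγb, hγc⟩ := exists_frame ΦA b c ha hb hc hz hab hac haz hbc hbz hcz hF y hf hu
      hfy huy huf
    rw [prY_mk] at hfy huy hu'y hwab
    obtain ⟨xa, xb, hwab⟩ := hwab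
    obtain ⟨β2, hβ2⟩ := exists_beta2 (q := q) b c ha hb hc hab hac haz hbz hcz hF
    -- `w0`
    have hw0 : act ((γ.1 : SU n F q))⁻¹ w = xa • ee F a + xb • ee F b := by
      rw [hwab, act_add, act_smul, act_smul, act_inv_act, ← hγb, act_inv_act]
    have hw0u : Un q (WS F ({a, b} : Finset (Fin n))) (act ((γ.1 : SU n F q))⁻¹ w) := by
      refine ⟨?_, by rw [act_form]; exact hw.2⟩
      rw [hw0]
      exact Submodule.add_mem _ (Submodule.smul_mem _ _ (ee_mem_WS (by simp)))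
        (Submodule.smul_mem _ _ (ee_mem_WS (by simp)))
    obtain ⟨h, hh, hha⟩ := exists_HH1 hF (S := {a, b}) (a := a) (i0 := b) (by simp) (by simp)
      hab.symm hw0u
    have hhz : h ∈ HH F q (S.erase z) := by
      refine HH_mono ?_ hh
      intro i hi
      simp only [Finset.mem_insert, Finset.mem_singleton] at hi
      rcases hi with rfl | rfl
      · exact Finset.mem_erase.2 ⟨haz, ha⟩
      · exact Finset.mem_erase.2 ⟨hbz, hb⟩
    -- `u'0`
    have hu0 : Un q (WS F ((S.erase a).erase b)) (act ((γ.1 : SU n F q))⁻¹ u') := by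
      rw [← pp_WS hF, ← pp_WS hF]
      have h2 := act_un hF (inv_mem γ.1.2) hu'
      refine ⟨(mem_pp hF).2 ⟨(mem_pp hF).2 ⟨h2.1, ?_⟩, ?_⟩, h2.2⟩
      · rw [act_form_left, inv_inv, hu'y]
      · rw [act_form_left, inv_inv, hγb, hu'f]
    obtain ⟨h', hh', hh'c⟩ := exists_HH1 hF (S := (S.erase a).erase b) (a := c) (i0 := z)
      (by simp [hac.symm, hbc.symm, hc]) (by simp [haz.symm, hbz.symm, hz]) hcz.symm hu0
    have hh'A : h' ∈ HH F q (S.erase a) := HH_mono (Finset.erase_subset _ _) hh'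
    have hcom := gr_comm ΦA ΦB b hcomm hF ⟨h, hhz⟩ hh ⟨h', hh'A⟩ hh'
    have hwc : hermForm n F q (ee F c) (act h (ee F a)) = 0 := by
      rw [hha, hw0, hermForm_add_right hF, hermForm_smul_right, hermForm_smul_right,
        form_ee_ee hF, form_ee_ee hF, if_neg hac.symm, if_neg hbc.symm]
      ring
    have e1 : nbY ΦA ΦB (QuotientGroup.mk γ) u = QuotientGroup.mk (γ * gr S z ΦB β2) := by
      refine nbY_eq ΦA ΦB hagree b c ha hb hc hab hac haz hbc hbz hcz hcomm hF ⟨γ, 1, β2, ?_, ?_,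
        rfl⟩ ?_
      · rw [hβ2, Subgroup.coe_one, act_one, form_ee_ee hF, if_neg hac]
      · rw [map_one, mul_one]
      · rw [prY_mk, Prod.fst_mul, Subgroup.coe_mul, act_mul, gr_fst, hβ2, hγc]
    have e2 : nbY ΦA ΦB (QuotientGroup.mk (γ * gr S z ΦB β2)) w =
        QuotientGroup.mk (γ * gr S z ΦB ⟨h, hhz⟩) := by
      refine nbY_eq ΦA ΦB hagree b c ha hb hc hab hac haz hbc hbz hcz hcomm hF
        ⟨γ, β2, ⟨h, hhz⟩, ?_, rfl, rfl⟩ ?_
      · rw [hβ2]; exact hwc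
      · rw [prY_mk, Prod.fst_mul, Subgroup.coe_mul, act_mul, gr_fst]
        change act (γ.1 : SU n F q) (act h (ee F a)) = w
        rw [hha, act_act_inv]
    have e3 : nbY ΦA ΦB (QuotientGroup.mk γ) u' =
        QuotientGroup.mk (γ * gr S a ΦA ⟨h', hh'A⟩ * gr S z ΦB β2) := by
      refine nbY_eq ΦA ΦB hagree b c ha hb hc hab hac haz hbc hbz hcz hcomm hF
        ⟨γ * gr S a ΦA ⟨h', hh'A⟩, 1, β2, ?_, ?_, rfl⟩ ?_
      · rw [hβ2, Subgroup.coe_one, act_one, form_ee_ee hF, if_neg hac]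
      · rw [map_one, mul_one, QuotientGroup.eq]
        exact ⟨⟨h', hh'A⟩, by group⟩
      · rw [prY_mk, Prod.fst_mul, Subgroup.coe_mul, act_mul, gr_fst, hβ2, Prod.fst_mul,
          Subgroup.coe_mul, act_mul, gr_fst]
        change act (γ.1 : SU n F q) (act h' (ee F c)) = u'
        rw [hh'c, act_act_inv]
    have e4 : nbY ΦA ΦB (QuotientGroup.mk (γ * gr S a ΦA ⟨h', hh'A⟩ * gr S z ΦB β2)) w =
        QuotientGroup.mk (γ * gr S a ΦA ⟨h', hh'A⟩ * gr S z ΦB ⟨h, hhz⟩) := by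
      refine nbY_eq ΦA ΦB hagree b c ha hb hc hab hac haz hbc hbz hcz hcomm hF
        ⟨γ * gr S a ΦA ⟨h', hh'A⟩, β2, ⟨h, hhz⟩, ?_, rfl, rfl⟩ ?_
      · rw [hβ2]; exact hwc
      · rw [prY_mk, Prod.fst_mul, Subgroup.coe_mul, act_mul, gr_fst, Prod.fst_mul,
          Subgroup.coe_mul, act_mul, gr_fst]
        change act (γ.1 : SU n F q) (act h' (act h (ee F a))) = w
        have hdisj : Disjoint ((S.erase a).erase b) ({a, b} : Finset (Fin n)) := by
          rw [Finset.disjoint_right]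
          intro i hi hi'
          simp only [Finset.mem_insert, Finset.mem_singleton] at hi
          simp only [Finset.mem_erase] at hi'
          rcases hi with rfl | rfl
          · exact hi'.2.1 rfl
          · exact hi'.1 rfl
        rw [act_eq_self hdisj hh' (act_mem_WS hF hh (ee_mem_WS (by simp))), hha, act_act_inv]
    rw [e1, e2, e3, e4, mul_assoc, ← hcom, ← mul_assoc, QuotientGroup.eq]
    exact ⟨⟨h', hh'A⟩, by group⟩

include hagree ha hb hc hz hab hac haz hbc hbz hcz hcomm in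
/-- **The completion step.** -/
theorem exists_glue (hF : Fintype.card F = q ^ 2)
    (hcase : (5 ≤ S.card ∧ 3 ≤ q) ∨ (S.card = 4 ∧ 4 ≤ q)) :
    ∃ Φ : HH F q S →* G,
      (∀ (g : SU n F q) (hg : g ∈ HH F q (S.erase a)),
        Φ ⟨g, HH_mono (Finset.erase_subset _ _) hg⟩ = ΦA ⟨g, hg⟩) ∧
      (∀ (g : SU n F q) (hg : g ∈ HH F q (S.erase z)),
        Φ ⟨g, HH_mono (Finset.erase_subset _ _) hg⟩ = ΦB ⟨g, hg⟩) := by
  classical
  have hq : 3 ≤ q := by omega
  obtain ⟨C, hC⟩ : ∃ C, C = covY ΦA ΦB hagree b c ha hb hc hz hab hac haz hbc hbz hcz hcomm hF :=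
    ⟨_, rfl⟩
  have hCp : ∀ y, C.p y = prY ΦA y := by intro y; rw [hC]; rfl
  have hCnb : ∀ y w, C.nb y w = nbY ΦA ΦB y w := by intro y w; rw [hC]; rfl
  -- steps
  have hR : ∀ y y', RY ΦA ΦB y y' → ∃ w, Un q (WS F S) w ∧ hermForm n F q w (C.p y) = 0 ∧
      y' = C.nb y w := by
    intro y y' h
    refine ⟨prY ΦA y', prY_un ΦA ha hF y', ?_, ?_⟩
    · obtain ⟨γ, β, β', h1, rfl, rfl⟩ := h
      rw [hCp, prY_mk, prY_mk, Prod.fst_mul, Subgroup.coe_mul, act_mul, gr_fst, Prod.fst_mul,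
        Subgroup.coe_mul, act_mul, gr_fst, act_form]
      exact form_comm hF h1
    · rw [hCnb]
      exact (nbY_eq ΦA ΦB hagree b c ha hb hc hab hac haz hbc hbz hcz hcomm hF h rfl).symm
  obtain ⟨T, hT⟩ : ∃ T : YY ΦA → YY ΦA → Prop, T = Relation.ReflTransGen
      (fun x y => ∃ w, Un q (WS F S) w ∧ hermForm n F q w (C.p x) = 0 ∧ y = C.nb x w) := ⟨_, rfl⟩
  have hTrefl : ∀ y, T y y := by intro y; rw [hT]
  have hTtrans : ∀ x y z, T x y → T y z → T x z := by
    intro x y z; rw [hT]; exact Relation.ReflTransGen.trans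
  have hTsymm : ∀ x y, T x y → T y x := by
    intro x y h
    rw [hT] at h ⊢
    induction h with
    | refl => exact .refl
    | @tail y1 y2 _ h1 ih =>
      obtain ⟨w, hw, hwx, rfl⟩ := h1
      refine .head ⟨C.p y1, C.p_mem _, ?_, (C.back _ w hw hwx).symm⟩ ih
      rw [C.p_nb _ w hw hwx]
      exact form_comm hF hwx
  have hTR : ∀ y y', RY ΦA ΦB y y' → T y y' := by
    intro y y' h; rw [hT]; exact .single (hR y y' h)
  -- connectivity along the `B`-part
  have hcardz : 3 ≤ (S.erase z).card := by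
    rw [Finset.card_erase_of_mem hz]; omega
  have hconn := conn_of_three hF hq (nd_WS hF (S.erase z)) (by rw [finrank_WS hF]; exact hcardz)
  have haz' : a ∈ S.erase z := Finset.mem_erase.2 ⟨haz, ha⟩
  have hbz' : b ∈ S.erase z := Finset.mem_erase.2 ⟨hbz, hb⟩
  have hB : ∀ (γ : HH F q S × G) (β : HH F q (S.erase z)),
      T (QuotientGroup.mk γ) (QuotientGroup.mk (γ * gr S z ΦB β)) := by
    intro γ β
    obtain ⟨x, hx⟩ : ∃ x, x = act (β : SU n F q) (ee F a) := ⟨_, rfl⟩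
    have hpath := hconn (ee F a) x (un_ee hF haz') (by rw [hx]; exact act_un hF β.2 (un_ee hF haz'))
    clear hTR
    induction hpath generalizing β with
    | refl =>
      have : (QuotientGroup.mk (γ * gr S z ΦB β) : YY ΦA) = QuotientGroup.mk γ := by
        have := mk_eq_of_act ΦA ΦB hagree hF (γ := γ) (β := β) (β' := 1) (by
          rw [← hx, Subgroup.coe_one, act_one])
        rw [this, map_one, mul_one]
      rw [this]
      exact hTrefl _
    | @tail x x' _ h1 ih =>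
      obtain ⟨β', hβ', hβ'a⟩ := exists_HH1 hF haz' hbz' hab.symm h1.1
      refine hTtrans _ _ _ (ih ⟨β', hβ'⟩ hβ'a.symm) ?_
      rw [hT]
      refine .single (hR _ _ ⟨γ, ⟨β', hβ'⟩, β, ?_, rfl, rfl⟩)
      rw [← hx]
      change hermForm n F q (act β' (ee F a)) x' = 0
      rw [hβ'a]
      exact h1.2.2
  -- the subgroup generated by the two graphs
  obtain ⟨K, hK⟩ : ∃ K : Subgroup (HH F q S × G), K = (gr S a ΦA).range ⊔ (gr S z ΦB).range :=
    ⟨_, rfl⟩
  have hKT : ∀ κ ∈ K, ∀ γ : HH F q S × G,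
      T (QuotientGroup.mk γ) (QuotientGroup.mk (γ * κ)) := by
    intro κ hκ
    rw [hK, Subgroup.sup_eq_closure] at hκ
    induction hκ using Subgroup.closure_induction with
    | mem x hx =>
      intro γ
      rcases hx with hx | hx
      · have : (QuotientGroup.mk (γ * x) : YY ΦA) = QuotientGroup.mk γ := by
          rw [QuotientGroup.eq]
          have : (γ * x)⁻¹ * γ = x⁻¹ := by group
          rw [this]
          exact inv_mem hx
        rw [this]
        exact hTrefl _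
      · obtain ⟨β, rfl⟩ := hx
        exact hB γ β
    | one => intro γ; rw [mul_one]; exact hTrefl _
    | mul x y _ _ hx hy =>
      intro γ
      rw [← mul_assoc]
      exact hTtrans _ _ _ (hx γ) (hy (γ * x))
    | inv x _ hx =>
      intro γ
      have := hx (γ * x⁻¹)
      rw [inv_mul_cancel_right] at this
      exact hTsymm _ _ this
  have hKinj : ∀ κ ∈ K, κ.1 = 1 → κ.2 = 1 := by
    intro κ hκ h1
    have h2 := hKT κ hκ 1
    rw [one_mul, hT] at h2
    have h3 := C.inj hF (nd_WS hF S) (by rw [finrank_WS hF]; exact hcase) h2 (by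
      rw [hCp, hCp, prY_mk, prY_mk, h1]
      rfl)
    rw [QuotientGroup.eq, inv_one, one_mul] at h3
    obtain ⟨k, hk⟩ := h3
    have hk1 : k = 1 := by
      apply Subtype.ext
      have := congrArg (fun x : HH F q S × G => ((x.1 : HH F q S) : SU n F q)) hk
      simp only [gr_fst, h1] at this
      exact this
    rw [← hk, hk1, map_one]
    rfl
  have hKsurj : ∀ h : HH F q S, ∃ g, (h, g) ∈ K := by
    have hgen := HH_gen hF hq ha hb hz hab haz hbz (q := q)
    intro h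
    have h1 : (K.map (MonoidHom.fst (HH F q S) G)).map (HH F q S).subtype =
        HH F q S := by
      rw [hK, Subgroup.map_sup, Subgroup.map_sup]
      have eA : (((gr S a ΦA).range).map (MonoidHom.fst (HH F q S) G)).map (HH F q S).subtype =
          HH F q (S.erase a) := by
        ext x
        constructor
        · rintro ⟨_, ⟨_, ⟨k, rfl⟩, rfl⟩, rfl⟩
          exact k.2
        · intro hx
          exact ⟨_, ⟨_, ⟨⟨x, hx⟩, rfl⟩, rfl⟩, rfl⟩
      have eB : (((gr S z ΦB).range).map (MonoidHom.fst (HH F q S) G)).map (HH F q S).subtype =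
          HH F q (S.erase z) := by
        ext x
        constructor
        · rintro ⟨_, ⟨_, ⟨k, rfl⟩, rfl⟩, rfl⟩
          exact k.2
        · intro hx
          exact ⟨_, ⟨_, ⟨⟨x, hx⟩, rfl⟩, rfl⟩, rfl⟩
      rw [eA, eB, ← hgen]
    have h2 : (h : SU n F q) ∈ (K.map (MonoidHom.fst (HH F q S) G)).map (HH F q S).subtype := by
      rw [h1]; exact h.2
    obtain ⟨_, ⟨κ, hκ, rfl⟩, h3⟩ := h2
    refine ⟨κ.2, ?_⟩
    have h4 : κ.1 = h := Subtype.ext h3
    rw [← h4]
    exact hκ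
  choose φ hφ using hKsurj
  have huniq : ∀ h g, (h, g) ∈ K → g = φ h := by
    intro h g hg
    have h1 := K.mul_mem (K.inv_mem (hφ h)) hg
    have h2 := hKinj _ h1 (by simp)
    simpa [inv_mul_eq_one, eq_comm] using h2
  refine ⟨MonoidHom.mk' φ (fun x y => (huniq (x * y) (φ x * φ y)
    (K.mul_mem (hφ x) (hφ y))).symm), ?_, ?_⟩
  · intro g hg
    refine (huniq _ (ΦA ⟨g, hg⟩) ?_).symm
    rw [hK]
    exact Subgroup.mem_sup_left ⟨⟨g, hg⟩, rfl⟩
  · intro g hg
    refine (huniq _ (ΦB ⟨g, hg⟩) ?_).symm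
    rw [hK]
    exact Subgroup.mem_sup_right ⟨⟨g, hg⟩, rfl⟩

end Step

end Cfsg.Agent.Phan
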