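import Cfsg.Agent.Phan.CovTwo
import Cfsg.Agent.Phan.Build

/-!
# The completion step over an arbitrary field, at least five coordinates
-/

set_option autoImplicit false
set_option linter.unusedSectionVars false

namespace Cfsg.Agent.Phan

open Cfsg.Agent.Uni Module

variable {F : Type*} [Field F] [Fintype F] {q : ℕ} {n : ℕ}

/-- Generation of a coordinate subgroup by two smaller ones. -/
theorem HH_gen' (hF : Fintype.card F = q ^ 2) {S : Finset (Fin n)} {a b z : Fin n}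
    (ha : a ∈ S) (hb : b ∈ S) (hz : z ∈ S) (hab : a ≠ b) (haz : a ≠ z) (hbz : b ≠ z) (h4 : 4 ≤ S.card) :
    HH F q S = HH F q (S.erase a) ⊔ HH F q (S.erase z) := by
  classical
  have hle : HH F q (S.erase a) ⊔ HH F q (S.erase z) ≤ HH F q S :=
    sup_le (HH_mono (Finset.erase_subset _ _)) (HH_mono (Finset.erase_subset _ _))
  refine le_antisymm ?_ hle
  have hconn := conn_of_four hF (nd_WS hF S) (by rw [finrank_WS hF]; exact h4)
  obtain ⟨β, hβ, hβa⟩ := exists_HH1 hF (S := {a, b}) (a := a) (i0 := b) (by simp) (by simp)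
    hab.symm (un_ee hF (by simp : b ∈ ({a, b} : Finset (Fin n))))
  have hβz : β ∈ HH F q (S.erase z) := by
    refine HH_mono ?_ hβ
    intro i hi
    simp only [Finset.mem_insert, Finset.mem_singleton] at hi
    rcases hi with rfl | rfl
    · exact Finset.mem_erase.2 ⟨haz, ha⟩
    · exact Finset.mem_erase.2 ⟨hbz, hb⟩
  have key : ∀ x, Un q (WS F S) x →
      ∃ m ∈ HH F q (S.erase a) ⊔ HH F q (S.erase z), act m (ee F a) = x := by
    intro x hx
    have hpath := hconn (ee F a) x (un_ee hF ha) hx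
    clear hx
    induction hpath with
    | refl => exact ⟨1, one_mem _, act_one _⟩
    | @tail x x' _ h1 ih =>
      obtain ⟨m, hm, hmx⟩ := ih
      have hmi : m⁻¹ ∈ HH F q S := inv_mem (hle hm)
      have hx' : Un q (WS F (S.erase a)) (act m⁻¹ x') := by
        rw [← pp_WS hF]
        have h2 := act_un hF hmi h1.2.1
        refine ⟨(mem_pp hF).2 ⟨h2.1, ?_⟩, h2.2⟩
        rw [act_form_left, inv_inv, hmx]
        exact form_comm hF h1.2.2
      obtain ⟨α, hα, hαb⟩ := exists_HH1 hF (a := b) (i0 := z)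
        (Finset.mem_erase.2 ⟨hab.symm, hb⟩) (Finset.mem_erase.2 ⟨haz.symm, hz⟩) hbz.symm hx'
      refine ⟨m * α * β, mul_mem (mul_mem hm (Subgroup.mem_sup_left hα))
        (Subgroup.mem_sup_right hβz), ?_⟩
      rw [act_mul, act_mul, hβa, hαb, act_act_inv]
  intro g hg
  obtain ⟨m, hm, hmg⟩ := key (act g (ee F a)) (act_un hF hg (un_ee hF ha))
  have h1 : m⁻¹ * g ∈ HH F q (S.erase a) := by
    intro i hi
    by_cases hia : i = a
    · subst hia
      rw [act_mul, ← hmg, act_inv_act]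
    · have hiS : i ∉ S := fun h => hi (Finset.mem_erase.2 ⟨hia, h⟩)
      exact (mul_mem (inv_mem (hle hm)) hg : m⁻¹ * g ∈ HH F q S) i hiS
  have h2 : g = m * (m⁻¹ * g) := by group
  rw [h2]
  exact mul_mem hm (Subgroup.mem_sup_left h1)

section Step

variable {G : Type*} [Group G] {S : Finset (Fin n)} {a z : Fin n}

variable (ΦA : HH F q (S.erase a) →* G) (ΦB : HH F q (S.erase z) →* G)

variable (hagree : ∀ (g : SU n F q) (hA : g ∈ HH F q (S.erase a)) (hB : g ∈ HH F q (S.erase z)),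
    ΦA ⟨g, hA⟩ = ΦB ⟨g, hB⟩)

variable (b c : Fin n) (ha : a ∈ S) (hb : b ∈ S) (hc : c ∈ S) (hz : z ∈ S) (hab : a ≠ b)
  (hac : a ≠ c) (haz : a ≠ z) (hbc : b ≠ c) (hbz : b ≠ z) (hcz : c ≠ z)

variable (hcomm : ∀ (g : SU n F q) (hgB : g ∈ HH F q (S.erase z)) (_ : g ∈ HH F q {a, b})
    (h : SU n F q) (hhA : h ∈ HH F q (S.erase a)) (_ : h ∈ HH F q ((S.erase a).erase b)),
    ΦB ⟨g, hgB⟩ * ΦA ⟨h, hhA⟩ = ΦA ⟨h, hhA⟩ * ΦB ⟨g, hgB⟩)

/-- Orthonormal quadruples. -/
theorem exists_HH4 (hF : Fintype.card F = q ^ 2) {a b c d i0 : Fin n}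
    (ha : a ∈ S) (hb : b ∈ S) (hc : c ∈ S) (hd : d ∈ S) (hab : a ≠ b) (hac : a ≠ c) (hbc : b ≠ c)
    (hda : d ≠ a) (hdb : d ≠ b) (hdc : d ≠ c)
    (hi0 : i0 ∈ S) (hai : i0 ≠ a) (hbi : i0 ≠ b) (hci : i0 ≠ c) (hdi : i0 ≠ d)
    {u v w t : Fin n → F} (hu : Un q (WS F S) u) (hv : Un q (WS F S) v) (hw : Un q (WS F S) w)
    (ht : Un q (WS F S) t)
    (huv : hermForm n F q u v = 0) (huw : hermForm n F q u w = 0)
    (hvw : hermForm n F q v w = 0) (htu : hermForm n F q t u = 0) (htv : hermForm n F q t v = 0)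
    (htw : hermForm n F q t w = 0) :
    ∃ g ∈ HH F q S, act g (ee F a) = u ∧ act g (ee F b) = v ∧ act g (ee F c) = w ∧
      act g (ee F d) = t := by
  classical
  have hwv := form_comm hF hvw
  have hwu := form_comm hF huw
  have hvu := form_comm hF huv
  have hut := form_comm hF htu
  have hvt := form_comm hF htv
  have hwt := form_comm hF htw
  obtain ⟨g, hg, hg'⟩ := exists_HH hF (S := S) (C := {a, b, c, d}) (by
      intro i hi
      simp only [Finset.mem_insert, Finset.mem_singleton] at hi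
      rcases hi with rfl | rfl | rfl | rfl <;> assumption) hi0 (by
      simp [hai, hbi, hci, hdi])
    (x := fun i => if i = a then u else if i = b then v else if i = c then w else t) (by
      intro i hi j hj
      simp only [Finset.mem_insert, Finset.mem_singleton] at hi hj
      rcases hi with rfl | rfl | rfl | rfl <;> rcases hj with rfl | rfl | rfl | rfl <;>
        simp [*, hab.symm, hac.symm, hbc.symm, hda.symm, hdb.symm, hdc.symm, hu.2, hv.2, hw.2,
          ht.2]) (by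
      intro i hi
      simp only [Finset.mem_insert, Finset.mem_singleton] at hi
      rcases hi with rfl | rfl | rfl | rfl <;>
        simp [hab.symm, hac.symm, hbc.symm, hda, hdb, hdc, hu.1, hv.1, hw.1, ht.1])
  refine ⟨g, hg, ?_, ?_, ?_, ?_⟩
  · rw [hg' a (by simp)]; simp
  · rw [hg' b (by simp)]; simp [hab.symm]
  · rw [hg' c (by simp)]; simp [hac.symm, hbc.symm]
  · rw [hg' d (by simp)]; simp [hda, hdb, hdc]

include hagree ha hb hc hz hab hac haz hbc hbz hcz hcomm in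
theorem good3Y (hF : Fintype.card F = q ^ 2) {d : Fin n} (hd : d ∈ S) (hda : d ≠ a) (hdb : d ≠ b)
    (hdc : d ≠ c) (hdz : d ≠ z)
    (hcomm3 : ∀ (g : SU n F q) (hgB : g ∈ HH F q (S.erase z)) (_ : g ∈ HH F q {a, b, d})
      (h : SU n F q) (hhA : h ∈ HH F q (S.erase a))
      (_ : h ∈ HH F q (((S.erase a).erase b).erase d)),
      ΦB ⟨g, hgB⟩ * ΦA ⟨h, hhA⟩ = ΦA ⟨h, hhA⟩ * ΦB ⟨g, hgB⟩)
    (y : YY ΦA) {x1 x2 u u' w : Fin n → F} (hx1 : Un q (WS F S) x1) (hx2 : Un q (WS F S) x2)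
    (hu : Un q (WS F S) u) (hu' : Un q (WS F S) u') (hw : Un q (WS F S) w)
    (hx1y : hermForm n F q x1 (prY ΦA y) = 0) (hx2y : hermForm n F q x2 (prY ΦA y) = 0)
    (hx2x1 : hermForm n F q x2 x1 = 0)
    (huy : hermForm n F q u (prY ΦA y) = 0) (hux1 : hermForm n F q u x1 = 0)
    (hux2 : hermForm n F q u x2 = 0)
    (hu'y : hermForm n F q u' (prY ΦA y) = 0) (hu'x1 : hermForm n F q u' x1 = 0)
    (hu'x2 : hermForm n F q u' x2 = 0)
    (hwabc : ∃ xa xb xc : F, w = xa • prY ΦA y + (xb • x1 + xc • x2)) :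
    nbY ΦA ΦB (nbY ΦA ΦB y u) w = nbY ΦA ΦB (nbY ΦA ΦB y u') w := by
  -- the frame
  obtain ⟨γ, rfl, hγb, hγd, hγc⟩ : ∃ γ : HH F q S × G, y = QuotientGroup.mk γ ∧
      act (γ.1 : SU n F q) (ee F b) = x1 ∧ act (γ.1 : SU n F q) (ee F d) = x2 ∧
      act (γ.1 : SU n F q) (ee F c) = u := by
    obtain ⟨γ, rfl⟩ := QuotientGroup.mk_surjective y
    rw [prY_mk] at hx1y hx2y huy
    obtain ⟨δ, hδ, hδa, hδb, hδd, hδc⟩ := exists_HH4 hF ha hb hd hc hab hda.symm hdb.symm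
      hac.symm hbc.symm hdc.symm hz haz.symm hbz.symm hdz.symm hcz.symm
      (act_un hF γ.1.2 (un_ee hF ha)) hx1 hx2 hu (form_comm hF hx1y) (form_comm hF hx2y)
      (form_comm hF hx2x1) huy hux1 hux2
    have hk : ((γ.1 : SU n F q))⁻¹ * δ ∈ HH F q (S.erase a) := by
      intro i hi
      by_cases hia : i = a
      · subst hia
        rw [act_mul, hδa, act_inv_act]
      · have hiS : i ∉ S := fun h => hi (Finset.mem_erase.2 ⟨hia, h⟩)
        exact (mul_mem (inv_mem γ.1.2) hδ : ((γ.1 : SU n F q))⁻¹ * δ ∈ HH F q S) i hiS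
    refine ⟨γ * gr S a ΦA ⟨_, hk⟩, ?_, ?_, ?_, ?_⟩
    · rw [QuotientGroup.eq]
      exact ⟨⟨_, hk⟩, by group⟩
    · rw [Prod.fst_mul, Subgroup.coe_mul, gr_fst, mul_inv_cancel_left, hδb]
    · rw [Prod.fst_mul, Subgroup.coe_mul, gr_fst, mul_inv_cancel_left, hδd]
    · rw [Prod.fst_mul, Subgroup.coe_mul, gr_fst, mul_inv_cancel_left, hδc]
  rw [prY_mk] at hx1y hx2y huy hu'y hwabc
  obtain ⟨xa, xb, xc, hwabc⟩ := hwabc
  obtain ⟨β2, hβ2⟩ := exists_beta2 (q := q) b c ha hb hc hab hac haz hbz hcz hF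
  -- `w0`
  have hw0 : act ((γ.1 : SU n F q))⁻¹ w = xa • ee F a + (xb • ee F b + xc • ee F d) := by
    rw [hwabc, act_add, act_add, act_smul, act_smul, act_smul, act_inv_act, ← hγb, act_inv_act,
      ← hγd, act_inv_act]
  have hw0u : Un q (WS F ({a, b, d} : Finset (Fin n))) (act ((γ.1 : SU n F q))⁻¹ w) := by
    refine ⟨?_, by rw [act_form]; exact hw.2⟩
    rw [hw0]
    exact Submodule.add_mem _ (Submodule.smul_mem _ _ (ee_mem_WS (by simp)))
      (Submodule.add_mem _ (Submodule.smul_mem _ _ (ee_mem_WS (by simp)))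
      (Submodule.smul_mem _ _ (ee_mem_WS (by simp))))
  obtain ⟨h, hh, hha⟩ := exists_HH1 hF (S := {a, b, d}) (a := a) (i0 := b) (by simp) (by simp)
    hab.symm hw0u
  have hhz : h ∈ HH F q (S.erase z) := by
    refine HH_mono ?_ hh
    intro i hi
    simp only [Finset.mem_insert, Finset.mem_singleton] at hi
    rcases hi with rfl | rfl | rfl
    · exact Finset.mem_erase.2 ⟨haz, ha⟩
    · exact Finset.mem_erase.2 ⟨hbz, hb⟩
    · exact Finset.mem_erase.2 ⟨hdz, hd⟩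
  -- `u'0`
  have hu0 : Un q (WS F (((S.erase a).erase b).erase d)) (act ((γ.1 : SU n F q))⁻¹ u') := by
    rw [← pp_WS hF, ← pp_WS hF, ← pp_WS hF]
    have h2 := act_un hF (inv_mem γ.1.2) hu'
    refine ⟨(mem_pp hF).2 ⟨(mem_pp hF).2 ⟨(mem_pp hF).2 ⟨h2.1, ?_⟩, ?_⟩, ?_⟩, h2.2⟩
    · rw [act_form_left, inv_inv, hu'y]
    · rw [act_form_left, inv_inv, hγb, hu'x1]
    · rw [act_form_left, inv_inv, hγd, hu'x2]
  obtain ⟨h', hh', hh'c⟩ := exists_HH1 hF (S := ((S.erase a).erase b).erase d) (a := c) (i0 := z)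
    (by simp [hac.symm, hbc.symm, hc, hdc.symm]) (by simp [haz.symm, hbz.symm, hdz.symm, hz])
    hcz.symm hu0
  have hh'A : h' ∈ HH F q (S.erase a) :=
    HH_mono ((Finset.erase_subset _ _).trans (Finset.erase_subset _ _)) hh'
  have hdisj : Disjoint ({a, b, d} : Finset (Fin n)) (((S.erase a).erase b).erase d) := by
    rw [Finset.disjoint_left]
    intro i hi hi'
    simp only [Finset.mem_insert, Finset.mem_singleton] at hi
    simp only [Finset.mem_erase] at hi'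
    rcases hi with rfl | rfl | rfl
    · exact hi'.2.2.1 rfl
    · exact hi'.2.1 rfl
    · exact hi'.1 rfl
  have hcom : gr S z ΦB ⟨h, hhz⟩ * gr S a ΦA ⟨h', hh'A⟩ =
      gr S a ΦA ⟨h', hh'A⟩ * gr S z ΦB ⟨h, hhz⟩ := by
    apply Prod.ext
    · apply Subtype.ext
      exact commute_of_disjoint hF hdisj hh hh'
    · exact hcomm3 _ hhz hh _ hh'A hh'
  have hwc : hermForm n F q (ee F c) (act h (ee F a)) = 0 := by
    rw [hha, hw0, hermForm_add_right hF, hermForm_add_right hF, hermForm_smul_right,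
      hermForm_smul_right, hermForm_smul_right,
      form_ee_ee hF, form_ee_ee hF, form_ee_ee hF, if_neg hac.symm, if_neg hbc.symm,
      if_neg hdc.symm]
    ring
  have e1 : nbY ΦA ΦB (QuotientGroup.mk γ) u = QuotientGroup.mk (γ * gr S z ΦB β2) := by
    refine nbY_eq ΦA ΦB hagree b c ha hb hc hab hac haz hbc hbz hcz hcomm hF ⟨γ, 1, β2, ?_, ?_,
      rfl⟩ ?_
    · rw [hβ2, Subgroup.coe_one, act_one, form_ee_ee hF, if_neg hac]
    · rw [map_one, mul_one]
    · rw [prY_mk, Prod.fst_mul, Subgroup.coe_mul, act_mul, gr_fst, hβ2, hγc]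
  have e2 : nbY ΦA ΦB (QuotientGroup.mk (γ * gr S z ΦB β2)) w =
      QuotientGroup.mk (γ * gr S z ΦB ⟨h, hhz⟩) := by
    refine nbY_eq ΦA ΦB hagree b c ha hb hc hab hac haz hbc hbz hcz hcomm hF
      ⟨γ, β2, ⟨h, hhz⟩, ?_, rfl, rfl⟩ ?_
    · rw [hβ2]; exact hwc
    · rw [prY_mk, Prod.fst_mul, Subgroup.coe_mul, act_mul, gr_fst]
      change act (γ.1 : SU n F q) (act h (ee F a)) = w
      rw [hha, act_act_inv]
  have e3 : nbY ΦA ΦB (QuotientGroup.mk γ) u' =
      QuotientGroup.mk (γ * gr S a ΦA ⟨h', hh'A⟩ * gr S z ΦB β2) := by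
    refine nbY_eq ΦA ΦB hagree b c ha hb hc hab hac haz hbc hbz hcz hcomm hF
      ⟨γ * gr S a ΦA ⟨h', hh'A⟩, 1, β2, ?_, ?_, rfl⟩ ?_
    · rw [hβ2, Subgroup.coe_one, act_one, form_ee_ee hF, if_neg hac]
    · rw [map_one, mul_one, QuotientGroup.eq]
      exact ⟨⟨h', hh'A⟩, by group⟩
    · rw [prY_mk, Prod.fst_mul, Subgroup.coe_mul, act_mul, gr_fst, hβ2, Prod.fst_mul,
        Subgroup.coe_mul, act_mul, gr_fst]
      change act (γ.1 : SU n F q) (act h' (ee F c)) = u'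
      rw [hh'c, act_act_inv]
  have e4 : nbY ΦA ΦB (QuotientGroup.mk (γ * gr S a ΦA ⟨h', hh'A⟩ * gr S z ΦB β2)) w =
      QuotientGroup.mk (γ * gr S a ΦA ⟨h', hh'A⟩ * gr S z ΦB ⟨h, hhz⟩) := by
    refine nbY_eq ΦA ΦB hagree b c ha hb hc hab hac haz hbc hbz hcz hcomm hF
      ⟨γ * gr S a ΦA ⟨h', hh'A⟩, β2, ⟨h, hhz⟩, ?_, rfl, rfl⟩ ?_
    · rw [hβ2]; exact hwc
    · rw [prY_mk, Prod.fst_mul, Subgroup.coe_mul, act_mul, gr_fst, Prod.fst_mul,
        Subgroup.coe_mul, act_mul, gr_fst]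
      change act (γ.1 : SU n F q) (act h' (act h (ee F a))) = w
      rw [act_eq_self hdisj.symm hh' (act_mem_WS hF hh (ee_mem_WS (by simp))), hha, act_act_inv]
  rw [e1, e2, e3, e4, mul_assoc, ← hcom, ← mul_assoc, QuotientGroup.eq]
  exact ⟨⟨h', hh'A⟩, by group⟩

include hagree ha hb hc hz hab hac haz hbc hbz hcz hcomm in
/-- **The completion step.** -/
theorem exists_glue2 (hF : Fintype.card F = q ^ 2) (h5 : 5 ≤ S.card)
    (h6 : S.card = 6 → ∃ d, d ∈ S ∧ d ≠ a ∧ d ≠ b ∧ d ≠ c ∧ d ≠ z ∧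
      ∀ (g : SU n F q) (hgB : g ∈ HH F q (S.erase z)) (_ : g ∈ HH F q {a, b, d})
        (h : SU n F q) (hhA : h ∈ HH F q (S.erase a)) (_ : h ∈ HH F q (((S.erase a).erase b).erase d)),
        ΦB ⟨g, hgB⟩ * ΦA ⟨h, hhA⟩ = ΦA ⟨h, hhA⟩ * ΦB ⟨g, hgB⟩) :
    ∃ Φ : HH F q S →* G,
      (∀ (g : SU n F q) (hg : g ∈ HH F q (S.erase a)),
        Φ ⟨g, HH_mono (Finset.erase_subset _ _) hg⟩ = ΦA ⟨g, hg⟩) ∧
      (∀ (g : SU n F q) (hg : g ∈ HH F q (S.erase z)),
        Φ ⟨g, HH_mono (Finset.erase_subset _ _) hg⟩ = ΦB ⟨g, hg⟩) := by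
  classical
  obtain ⟨C, hC⟩ : ∃ C, C = covY ΦA ΦB hagree b c ha hb hc hz hab hac haz hbc hbz hcz hcomm hF :=
    ⟨_, rfl⟩
  have hCp : ∀ y, C.p y = prY ΦA y := by intro y; rw [hC]; rfl
  have hCnb : ∀ y w, C.nb y w = nbY ΦA ΦB y w := by intro y w; rw [hC]; rfl
  have hC3 : finrank F (WS F S) = 6 → C.Good3 := by
    intro h7
    rw [finrank_WS hF] at h7
    obtain ⟨d, hd, hda, hdb, hdc, hdz, hcomm3⟩ := h6 h7
    intro y x1 x2 u u' w hx1 hx2 hu hu' hw hx1y hx2y hx2x1 huy hux1 hux2 hu'y hu'x1 hu'x2 hwabc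
    rw [hCp] at hx1y hx2y huy hu'y hwabc
    rw [hCnb, hCnb, hCnb, hCnb]
    exact good3Y ΦA ΦB hagree b c ha hb hc hz hab hac haz hbc hbz hcz hcomm hF hd hda hdb hdc hdz
      hcomm3 y hx1 hx2 hu hu' hw hx1y hx2y hx2x1 huy hux1 hux2 hu'y hu'x1 hu'x2 hwabc
  -- steps
  have hR : ∀ y y', RY ΦA ΦB y y' → ∃ w, Un q (WS F S) w ∧ hermForm n F q w (C.p y) = 0 ∧
      y' = C.nb y w := by
    intro y y' h
    refine ⟨prY ΦA y', prY_un ΦA ha hF y', ?_, ?_⟩
    · obtain ⟨γ, β, β', h1, rfl, rfl⟩ := h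
      rw [hCp, prY_mk, prY_mk, Prod.fst_mul, Subgroup.coe_mul, act_mul, gr_fst, Prod.fst_mul,
        Subgroup.coe_mul, act_mul, gr_fst, act_form]
      exact form_comm hF h1
    · rw [hCnb]
      exact (nbY_eq ΦA ΦB hagree b c ha hb hc hab hac haz hbc hbz hcz hcomm hF h rfl).symm
  obtain ⟨T, hT⟩ : ∃ T : YY ΦA → YY ΦA → Prop, T = Relation.ReflTransGen
      (fun x y => ∃ w, Un q (WS F S) w ∧ hermForm n F q w (C.p x) = 0 ∧ y = C.nb x w) := ⟨_, rfl⟩
  have hTrefl : ∀ y, T y y := by intro y; rw [hT]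
  have hTtrans : ∀ x y z, T x y → T y z → T x z := by
    intro x y z; rw [hT]; exact Relation.ReflTransGen.trans
  have hTsymm : ∀ x y, T x y → T y x := by
    intro x y h
    rw [hT] at h ⊢
    induction h with
    | refl => exact .refl
    | @tail y1 y2 _ h1 ih =>
      obtain ⟨w, hw, hwx, rfl⟩ := h1
      refine .head ⟨C.p y1, C.p_mem _, ?_, (C.back _ w hw hwx).symm⟩ ih
      rw [C.p_nb _ w hw hwx]
      exact form_comm hF hwx
  have hTR : ∀ y y', RY ΦA ΦB y y' → T y y' := by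
    intro y y' h; rw [hT]; exact .single (hR y y' h)
  -- connectivity along the `B`-part
  have hcardz : 4 ≤ (S.erase z).card := by
    rw [Finset.card_erase_of_mem hz]; omega
  have hconn := conn_of_four hF (nd_WS hF (S.erase z)) (by rw [finrank_WS hF]; exact hcardz)
  have haz' : a ∈ S.erase z := Finset.mem_erase.2 ⟨haz, ha⟩
  have hbz' : b ∈ S.erase z := Finset.mem_erase.2 ⟨hbz, hb⟩
  have hB : ∀ (γ : HH F q S × G) (β : HH F q (S.erase z)),
      T (QuotientGroup.mk γ) (QuotientGroup.mk (γ * gr S z ΦB β)) := by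
    intro γ β
    obtain ⟨x, hx⟩ : ∃ x, x = act (β : SU n F q) (ee F a) := ⟨_, rfl⟩
    have hpath := hconn (ee F a) x (un_ee hF haz') (by rw [hx]; exact act_un hF β.2 (un_ee hF haz'))
    clear hTR
    induction hpath generalizing β with
    | refl =>
      have : (QuotientGroup.mk (γ * gr S z ΦB β) : YY ΦA) = QuotientGroup.mk γ := by
        have := mk_eq_of_act ΦA ΦB hagree hF (γ := γ) (β := β) (β' := 1) (by
          rw [← hx, Subgroup.coe_one, act_one])
        rw [this, map_one, mul_one]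
      rw [this]
      exact hTrefl _
    | @tail x x' _ h1 ih =>
      obtain ⟨β', hβ', hβ'a⟩ := exists_HH1 hF haz' hbz' hab.symm h1.1
      refine hTtrans _ _ _ (ih ⟨β', hβ'⟩ hβ'a.symm) ?_
      rw [hT]
      refine .single (hR _ _ ⟨γ, ⟨β', hβ'⟩, β, ?_, rfl, rfl⟩)
      rw [← hx]
      change hermForm n F q (act β' (ee F a)) x' = 0
      rw [hβ'a]
      exact h1.2.2
  -- the subgroup generated by the two graphs
  obtain ⟨K, hK⟩ : ∃ K : Subgroup (HH F q S × G), K = (gr S a ΦA).range ⊔ (gr S z ΦB).range :=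
    ⟨_, rfl⟩
  have hKT : ∀ κ ∈ K, ∀ γ : HH F q S × G,
      T (QuotientGroup.mk γ) (QuotientGroup.mk (γ * κ)) := by
    intro κ hκ
    rw [hK, Subgroup.sup_eq_closure] at hκ
    induction hκ using Subgroup.closure_induction with
    | mem x hx =>
      intro γ
      rcases hx with hx | hx
      · have : (QuotientGroup.mk (γ * x) : YY ΦA) = QuotientGroup.mk γ := by
          rw [QuotientGroup.eq]
          have : (γ * x)⁻¹ * γ = x⁻¹ := by group
          rw [this]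
          exact inv_mem hx
        rw [this]
        exact hTrefl _
      · obtain ⟨β, rfl⟩ := hx
        exact hB γ β
    | one => intro γ; rw [mul_one]; exact hTrefl _
    | mul x y _ _ hx hy =>
      intro γ
      rw [← mul_assoc]
      exact hTtrans _ _ _ (hx γ) (hy (γ * x))
    | inv x _ hx =>
      intro γ
      have := hx (γ * x⁻¹)
      rw [inv_mul_cancel_right] at this
      exact hTsymm _ _ this
  have hKinj : ∀ κ ∈ K, κ.1 = 1 → κ.2 = 1 := by
    intro κ hκ h1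
    have h2 := hKT κ hκ 1
    rw [one_mul, hT] at h2
    have h3 := C.inj2 hF (nd_WS hF S) (by rw [finrank_WS hF]; exact h5) hC3 h2 (by
      rw [hCp, hCp, prY_mk, prY_mk, h1]
      rfl)
    rw [QuotientGroup.eq, inv_one, one_mul] at h3
    obtain ⟨k, hk⟩ := h3
    have hk1 : k = 1 := by
      apply Subtype.ext
      have := congrArg (fun x : HH F q S × G => ((x.1 : HH F q S) : SU n F q)) hk
      simp only [gr_fst, h1] at this
      exact this
    rw [← hk, hk1, map_one]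
    rfl
  have hKsurj : ∀ h : HH F q S, ∃ g, (h, g) ∈ K := by
    have hgen := HH_gen' hF ha hb hz hab haz hbz (by omega) (q := q)
    intro h
    have h1 : (K.map (MonoidHom.fst (HH F q S) G)).map (HH F q S).subtype =
        HH F q S := by
      rw [hK, Subgroup.map_sup, Subgroup.map_sup]
      have eA : (((gr S a ΦA).range).map (MonoidHom.fst (HH F q S) G)).map (HH F q S).subtype =
          HH F q (S.erase a) := by
        ext x
        constructor
        · rintro ⟨_, ⟨_, ⟨k, rfl⟩, rfl⟩, rfl⟩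
          exact k.2
        · intro hx
          exact ⟨_, ⟨_, ⟨⟨x, hx⟩, rfl⟩, rfl⟩, rfl⟩
      have eB : (((gr S z ΦB).range).map (MonoidHom.fst (HH F q S) G)).map (HH F q S).subtype =
          HH F q (S.erase z) := by
        ext x
        constructor
        · rintro ⟨_, ⟨_, ⟨k, rfl⟩, rfl⟩, rfl⟩
          exact k.2
        · intro hx
          exact ⟨_, ⟨_, ⟨⟨x, hx⟩, rfl⟩, rfl⟩, rfl⟩
      rw [eA, eB, ← hgen]
    have h2 : (h : SU n F q) ∈ (K.map (MonoidHom.fst (HH F q S) G)).map (HH F q S).subtype := by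
      rw [h1]; exact h.2
    obtain ⟨_, ⟨κ, hκ, rfl⟩, h3⟩ := h2
    refine ⟨κ.2, ?_⟩
    have h4 : κ.1 = h := Subtype.ext h3
    rw [← h4]
    exact hκ
  choose φ hφ using hKsurj
  have huniq : ∀ h g, (h, g) ∈ K → g = φ h := by
    intro h g hg
    have h1 := K.mul_mem (K.inv_mem (hφ h)) hg
    have h2 := hKinj _ h1 (by simp)
    simpa [inv_mul_eq_one, eq_comm] using h2
  refine ⟨MonoidHom.mk' φ (fun x y => (huniq (x * y) (φ x * φ y)
    (K.mul_mem (hφ x) (hφ y))).symm), ?_, ?_⟩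
  · intro g hg
    refine (huniq _ (ΦA ⟨g, hg⟩) ?_).symm
    rw [hK]
    exact Subgroup.mem_sup_left ⟨⟨g, hg⟩, rfl⟩
  · intro g hg
    refine (huniq _ (ΦB ⟨g, hg⟩) ?_).symm
    rw [hK]
    exact Subgroup.mem_sup_right ⟨⟨g, hg⟩, rfl⟩

end Step

end Cfsg.Agent.Phan
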