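import Cfsg.Agent.Phan.Main

/-!
# Comparing rank one homomorphisms with a homomorphism of `SU_4`
-/

set_option autoImplicit false
set_option linter.unusedSectionVars false

namespace Cfsg.Agent.Phan

open Cfsg.Agent.Uni Module Matrix

variable {F : Type*} [Field F] [Fintype F] {q : ℕ} {n : ℕ}

/-- Automorphisms of the field of order `q²`, `q` a small prime, agreeing on elements of norm one. -/
theorem tau_eq (hF : Fintype.card F = q ^ 2) (hq : q = 2 ∨ q = 3) (τ τ' : F ≃+* F)
    (h : ∀ c : F, c ^ (q + 1) = 1 → τ c = τ' c) : τ = τ' := by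
  classical
  obtain ⟨E, hE⟩ : ∃ E : AddSubgroup F, ∀ x, x ∈ E ↔ τ x = τ' x := by
    refine ⟨{ carrier := {x | τ x = τ' x}, add_mem' := ?_, zero_mem' := ?_, neg_mem' := ?_ },
      fun x => Iff.rfl⟩
    · intro a b ha hb
      change τ (a + b) = τ' (a + b)
      rw [map_add, map_add, show τ a = τ' a from ha, show τ b = τ' b from hb]
    · change τ 0 = τ' 0
      rw [map_zero, map_zero]
    · intro a ha
      change τ (-a) = τ' (-a)
      rw [map_neg, map_neg, show τ a = τ' a from ha]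
  obtain ⟨l, hl, hl2⟩ := exists_norm_one_sq_ne hF
  have h0 : (0 : F) ∈ E := E.zero_mem
  have h1 : (1 : F) ∈ E := by rw [hE, map_one, map_one]
  have hl' : l ∈ E := (hE l).2 (h l hl)
  have hn1 : (-1 : F) ∈ E := E.neg_mem h1
  have hl0 : l ≠ 0 := by
    rintro rfl
    rw [zero_pow (by omega)] at hl
    exact zero_ne_one hl
  have hl1 : l ≠ 1 := by rintro rfl; exact hl2 (one_pow 2)
  have hln1 : l ≠ -1 := by rintro rfl; exact hl2 (by ring)
  have hdvd : Nat.card E ∣ q ^ 2 := by
    have := AddSubgroup.card_addSubgroup_dvd_card E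
    rwa [Nat.card_eq_fintype_card (α := F), hF] at this
  have htop : E = ⊤ := by
    rw [← AddSubgroup.card_eq_iff_eq_top, Nat.card_eq_fintype_card (α := F), hF]
    rcases hq with rfl | rfl
    · have hcard : 3 ≤ Nat.card E := by
        have h2 : ({0, 1, l} : Finset F).card = 3 := by
          rw [Finset.card_insert_of_notMem, Finset.card_insert_of_notMem, Finset.card_singleton]
          · simpa using hl1.symm
          · simp only [Finset.mem_insert, Finset.mem_singleton, not_or]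
            exact ⟨zero_ne_one, hl0.symm⟩
        rw [← h2]
        refine le_trans (le_of_eq ?_) (Set.ncard_le_ncard (s := (({0, 1, l} : Finset F) : Set F))
          (t := (E : Set F)) ?_ (Set.toFinite _))
        · rw [Set.ncard_coe_finset]
        · intro x hx
          simp only [Finset.coe_insert, Finset.coe_singleton, Set.mem_insert_iff,
            Set.mem_singleton_iff] at hx
          rcases hx with rfl | rfl | rfl
          · exact h0
          · exact h1
          · exact hl'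
      have h4 : Nat.card E ≤ 4 := Nat.le_of_dvd (by norm_num) hdvd
      have h5 : Nat.card E = 3 ∨ Nat.card E = 4 := by omega
      rcases h5 with h5 | h5
      · rw [h5] at hdvd
        norm_num at hdvd
      · rw [h5]; norm_num
    · have h3F : (3 : F) = 0 := by
        have := FiniteField.cast_card_eq_zero F
        rw [hF] at this
        have h9 : (9 : F) = 0 := by exact_mod_cast this
        have : (3 : F) * 3 = 0 := by linear_combination h9
        exact mul_self_eq_zero.1 this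
      have h2F : (1 : F) ≠ -1 := by
        intro h
        have h2 : (2 : F) = 0 := by linear_combination h
        have : (1 : F) = 0 := by linear_combination h3F - h2
        exact one_ne_zero this
      have hcard : 4 ≤ Nat.card E := by
        have h2 : ({0, 1, -1, l} : Finset F).card = 4 := by
          rw [Finset.card_insert_of_notMem, Finset.card_insert_of_notMem,
            Finset.card_insert_of_notMem, Finset.card_singleton]
          · simpa using hln1.symm
          · simp only [Finset.mem_insert, Finset.mem_singleton, not_or]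
            exact ⟨h2F, hl1.symm⟩
          · simp only [Finset.mem_insert, Finset.mem_singleton, not_or]
            refine ⟨zero_ne_one, ?_, hl0.symm⟩
            exact (neg_ne_zero.2 one_ne_zero).symm
        rw [← h2]
        refine le_trans (le_of_eq ?_) (Set.ncard_le_ncard
          (s := (({0, 1, -1, l} : Finset F) : Set F)) (t := (E : Set F)) ?_ (Set.toFinite _))
        · rw [Set.ncard_coe_finset]
        · intro x hx
          simp only [Finset.coe_insert, Finset.coe_singleton, Set.mem_insert_iff,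
            Set.mem_singleton_iff] at hx
          rcases hx with rfl | rfl | rfl | rfl
          · exact h0
          · exact h1
          · exact hn1
          · exact hl'
      have h4 : Nat.card E ≤ 9 := Nat.le_of_dvd (by norm_num) hdvd
      interval_cases h5 : Nat.card E <;> norm_num at hdvd
      norm_num
  ext x
  exact (hE x).1 (by rw [htop]; trivial)

/-- two elements of a coordinate subgroup with the same entries -/
theorem HH_ext (hF : Fintype.card F = q ^ 2) {S : Finset (Fin n)} {g h : SU n F q}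
    (hg : g ∈ HH F q S) (hh : h ∈ HH F q S) (H : ∀ k ∈ S, ∀ l ∈ S, mt g k l = mt h k l) : g = h := by
  apply mt_ext
  ext k l
  by_cases hl : l ∈ S
  · by_cases hk : k ∈ S
    · exact H k hk l hl
    · rw [mt_row hF hg hk, mt_row hF hh hk]
  · rw [mem_HH_iff_mt.1 hg l hl, mem_HH_iff_mt.1 hh l hl]

theorem isDg_iff_mt {g : SU n F q} : IsDg g ↔ ∀ k l, k ≠ l → mt g k l = 0 := by
  constructor
  · intro h k l hkl
    obtain ⟨c, hc⟩ := h l
    rw [← act_ee, hc]
    simp [hkl]
  · intro h k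
    refine ⟨mt g k k, ?_⟩
    funext l
    rw [act_ee]
    by_cases hlk : l = k
    · subst hlk; simp
    · rw [h l k hlk]; simp [hlk]

theorem mt_mul_dg {g t : SU n F q} (ht : IsDg t) (k l : Fin n) :
    mt (g * t) k l = mt g k l * mt t l l := by
  have h : mt (g * t) k l = ∑ r, mt g k r * mt t r l := Matrix.mul_apply
  rw [h, Finset.sum_eq_single l]
  · intro r _ hr
    rw [isDg_iff_mt.1 ht _ _ hr, mul_zero]
  · intro h; exact absurd (Finset.mem_univ _) h

theorem mt_dg_mul {g t : SU n F q} (ht : IsDg t) (k l : Fin n) :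
    mt (t * g) k l = mt t k k * mt g k l := by
  have h : mt (t * g) k l = ∑ r, mt t k r * mt g r l := Matrix.mul_apply
  rw [h, Finset.sum_eq_single k]
  · intro r _ hr
    rw [isDg_iff_mt.1 ht _ _ (Ne.symm hr), zero_mul]
  · intro h; exact absurd (Finset.mem_univ _) h

/-- diagonal elements of rank one subgroups -/
theorem exists_dg {a b : Fin n} (hab : a ≠ b) {l : F} (hl : l ^ (q + 1) = 1) :
    ∃ d ∈ HH F q ({a, b} : Finset (Fin n)), IsDg d ∧ mt d a a = l ∧ mt d b b = l⁻¹ := by
  obtain ⟨d, hd⟩ := exists_SU_diag (F := F) (q := q) a b hab hl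
  refine ⟨d, ?_, isDg_of_diagonal hd, ?_, ?_⟩
  · rw [mem_HH_iff_mt]
    intro i hi k
    simp only [Finset.mem_insert, Finset.mem_singleton, not_or] at hi
    rw [show mt d = _ from hd]
    by_cases hki : k = i
    · subst hki
      rw [Matrix.diagonal_apply_eq, Function.update_of_ne hi.2, Function.update_of_ne hi.1,
        if_pos rfl]
      rfl
    · rw [Matrix.diagonal_apply_ne _ hki, if_neg hki]
  · rw [show mt d = _ from hd, Matrix.diagonal_apply_eq, Function.update_of_ne hab,
      Function.update_self]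
  · rw [show mt d = _ from hd, Matrix.diagonal_apply_eq, Function.update_self]

theorem norm_ne_zero {l : F} (hl : l ^ (q + 1) = 1) : l ≠ 0 := by
  rintro rfl
  rw [zero_pow (by omega)] at hl
  exact zero_ne_one hl

/-- An element of `HH{a,b}` normalising `HH{b,c}` is diagonal. -/
theorem isDg_of_norm (hF : Fintype.card F = q ^ 2) {a b c : Fin n} (hab : a ≠ b) (hac : a ≠ c)
    (hbc : b ≠ c) {s : SU n F q} (hs : s ∈ HH F q ({a, b} : Finset (Fin n)))
    (h : ∀ y ∈ HH F q ({b, c} : Finset (Fin n)), act (s * y * s⁻¹) (ee F a) = ee F a) : IsDg s := by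
  obtain ⟨l, hl, hl2⟩ := exists_norm_one_sq_ne hF
  have hl1 : l ≠ 1 := by rintro rfl; exact hl2 (one_pow 2)
  obtain ⟨y, hy, hyd, hyb, hyc⟩ := exists_dg hbc hl
  have h1 := h y hy
  obtain ⟨v, hv⟩ : ∃ v, v = act s⁻¹ (ee F a) := ⟨_, rfl⟩
  have h2 : act y v = v := by
    rw [act_mul, act_mul] at h1
    have := congrArg (act s⁻¹) h1
    rw [act_inv_act] at this
    rw [hv]; exact this
  have hvW : v ∈ WS F ({a, b} : Finset (Fin n)) := by
    rw [hv]
    exact act_mem_WS hF (inv_mem hs) (ee_mem_WS (by simp))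
  have hvb : v b = 0 := by
    have h3 : act y⁻¹ (ee F b) = l⁻¹ • ee F b := by
      obtain ⟨c', hc'⟩ := hyd b
      have h4 : c' = l := by
        have := congrFun hc' b
        rw [act_ee, hyb] at this
        simpa using this.symm
      rw [h4] at hc'
      have h5 := congrArg (act y⁻¹) hc'
      rw [act_inv_act, act_smul] at h5
      rw [eq_inv_smul_iff₀ (norm_ne_zero hl)]
      exact h5.symm
    have h4 : hermForm n F q (act y⁻¹ v) (act y⁻¹ (ee F b)) = hermForm n F q v (ee F b) :=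
      act_form _ _ _
    have h5 : act y⁻¹ v = v := by
      conv_lhs => rw [← h2]
      rw [act_inv_act]
    rw [h5, h3, hermForm_smul_right, form_ee hF] at h4
    have h6 : (l⁻¹ ^ q - 1) * v b = 0 := by linear_combination h4
    rcases mul_eq_zero.1 h6 with h7 | h7
    · exfalso
      apply hl1
      have h8 : (l ^ q)⁻¹ = 1 := by rw [← inv_pow]; exact sub_eq_zero.1 h7
      have h9 : l ^ q = 1 := by rw [← inv_inv (l ^ q), h8, inv_one]
      rw [pow_succ, h9, one_mul] at hl
      exact hl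
    · exact h7
  have hve : v = v a • ee F a := by
    funext k
    by_cases hka : k = a
    · subst hka; simp
    · by_cases hkb : k = b
      · subst hkb; rw [hvb]; simp [hka]
      · rw [hvW k (by simp [hka, hkb])]; simp [hka]
  have hva0 : v a ≠ 0 := by
    intro h0
    rw [h0, zero_smul] at hve
    have h3 : act s v = ee F a := by rw [hv, act_act_inv]
    rw [hve, act_zero] at h3
    have := congrFun h3 a
    simp at this
  have hsa : act s (ee F a) = (v a)⁻¹ • ee F a := by
    have h3 : act s v = ee F a := by rw [hv, act_act_inv]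
    rw [hve, act_smul] at h3
    rw [eq_inv_smul_iff₀ hva0]
    exact h3
  intro k
  by_cases hka : k = a
  · rw [hka]; exact ⟨_, hsa⟩
  · by_cases hkb : k = b
    · rw [hkb]
      have h3 := act_mem_WS hF hs (ee_mem_WS (F := F) (S := ({a, b} : Finset (Fin n)))
        (i := b) (by simp))
      refine ⟨act s (ee F b) b, ?_⟩
      have h4 : act s (ee F b) a = 0 := by
        have h5 : hermForm n F q (act s (ee F b)) (act s (ee F a)) = 0 := by
          rw [act_form, form_ee_ee hF, if_neg hab.symm]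
        rw [hsa, hermForm_smul_right, form_ee hF] at h5
        exact (mul_eq_zero.1 h5).resolve_left (pow_ne_zero _ (inv_ne_zero hva0))
      funext k
      by_cases hka : k = a
      · subst hka; rw [h4]; simp [hab]
      · by_cases hkb : k = b
        · subst hkb; simp
        · rw [h3 k (by simp [hka, hkb])]; simp [hkb]
    · exact ⟨1, by rw [one_smul]; exact hs k (by simp [hka, hkb])⟩

/-- intervals of length two -/
theorem iv_two {j : ℕ} (hj : j + 2 ≤ n) :
    iv n j 2 = {(⟨j, by omega⟩ : Fin n), (⟨j + 1, by omega⟩ : Fin n)} := by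
  ext k
  rw [mem_iv, Finset.mem_insert, Finset.mem_singleton, Fin.ext_iff, Fin.ext_iff]
  simp only
  omega

/-- The shape of automorphisms of rank one subgroups preserving the torus. -/
theorem aut_iv_two (hF : Fintype.card F = q ^ 2) {j : ℕ} (him : j + 2 ≤ n)
    (α : HH F q (iv n j 2) ≃* HH F q (iv n j 2))
    (hα : ∀ t : HH F q (iv n j 2), IsDg (t : SU n F q) →
      IsDg ((α t : HH F q (iv n j 2)) : SU n F q)) :
    ∃ (c : F) (τ : F ≃+* F), c ^ (q + 1) = 1 ∧ ∀ x : HH F q (iv n j 2),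
      mt ((α x : HH F q (iv n j 2)) : SU n F q) (ix him 0) (ix him 0) =
        τ (mt (x : SU n F q) (ix him 0) (ix him 0)) ∧
      mt ((α x : HH F q (iv n j 2)) : SU n F q) (ix him 0) (ix him 1) =
        c * τ (mt (x : SU n F q) (ix him 0) (ix him 1)) ∧
      mt ((α x : HH F q (iv n j 2)) : SU n F q) (ix him 1) (ix him 0) =
        c⁻¹ * τ (mt (x : SU n F q) (ix him 1) (ix him 0)) ∧
      mt ((α x : HH F q (iv n j 2)) : SU n F q) (ix him 1) (ix him 1) =
        τ (mt (x : SU n F q) (ix him 1) (ix him 1)) := by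
  have h01 : ix him 0 ≠ ix him 1 := fun h => by
    have := ix_injective him h
    exact absurd this (by decide)
  obtain ⟨c, τ, hc, h⟩ := aut_SU2_diag hF
    (((kap him hF).symm.trans α).trans (kap him hF)) (by
      intro x hx01 hx10
      obtain ⟨t, ht⟩ : ∃ t, t = (kap him hF).symm x := ⟨_, rfl⟩
      have htx : kap him hF t = x := by rw [ht, MulEquiv.apply_symm_apply]
      have htd : IsDg (t : SU n F q) := by
        rw [isDg_iff_mt]
        intro k l hkl
        by_cases hl : l ∈ iv n j 2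
        · by_cases hk : k ∈ iv n j 2
          · obtain ⟨a, rfl⟩ := exists_ix him hk
            obtain ⟨b, rfl⟩ := exists_ix him hl
            rw [← kap_apply him hF, htx]
            fin_cases a <;> fin_cases b
            · exact absurd rfl hkl
            · exact hx01
            · exact hx10
            · exact absurd rfl hkl
          · rw [mt_row hF t.2 hk, if_neg hkl]
        · rw [mem_HH_iff_mt.1 t.2 l hl, if_neg hkl]
      have h1 := isDg_iff_mt.1 (hα t htd)
      rw [ht] at h1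
      exact ⟨h1 _ _ h01, h1 _ _ h01.symm⟩)
  refine ⟨c, τ, hc, fun x => ?_⟩
  have h1 := h (kap him hF x)
  rw [show (((kap him hF).symm.trans α).trans (kap him hF)) (kap him hF x) =
        kap him hF (α x) by simp] at h1
  exact h1

theorem dg_step {G : Type*} [Group G] (hF : Fintype.card F = q ^ 2) {γ : SU n F q →* G}
    (hker : ∀ x, γ x = 1 → ∃ ζ : F, ∀ v, act x v = ζ • v) {a b c d : Fin n} (hab : a ≠ b)
    (hac : a ≠ c) (hbc : b ≠ c) (hda : d ≠ a) (hdb : d ≠ b) (hdc : d ≠ c) {s : SU n F q}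
    (hs : s ∈ HH F q ({a, b} : Finset (Fin n)))
    (h : ∀ y ∈ HH F q ({b, c} : Finset (Fin n)), ∃ y' ∈ HH F q ({b, c} : Finset (Fin n)),
      γ (s * y * s⁻¹) = γ y') :
    (∀ y ∈ HH F q ({b, c} : Finset (Fin n)), ∀ y' ∈ HH F q ({b, c} : Finset (Fin n)),
      γ (s * y * s⁻¹) = γ y' → s * y * s⁻¹ = y') ∧ IsDg s := by
  have h1 : ∀ y ∈ HH F q ({b, c} : Finset (Fin n)), ∀ y' ∈ HH F q ({b, c} : Finset (Fin n)),
      γ (s * y * s⁻¹) = γ y' → s * y * s⁻¹ = y' := by
    intro y hy y' hy' hyy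
    obtain ⟨ζ, hζ⟩ := hker (s * y * s⁻¹ * y'⁻¹) (by rw [map_mul, hyy, map_inv, mul_inv_cancel])
    have h2 : act (s * y * s⁻¹ * y'⁻¹) (ee F d) = ee F d := by
      rw [act_mul, act_mul, act_mul, inv_mem hy' d (by simp [hdb, hdc]),
        inv_mem hs d (by simp [hda, hdb]), hy d (by simp [hdb, hdc]),
        hs d (by simp [hda, hdb])]
    have h3 : ζ = 1 := by
      rw [hζ] at h2
      have := congrFun h2 d
      simpa using this
    have h4 : s * y * s⁻¹ * y'⁻¹ = 1 := act_ext (fun v => by rw [hζ, h3, one_smul, act_one])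
    exact mul_inv_eq_one.1 h4
  refine ⟨h1, isDg_of_norm hF hab hac hbc hs ?_⟩
  intro y hy
  obtain ⟨y', hy', hyy⟩ := h y hy
  rw [h1 y hy y' hy' hyy]
  exact hy' a (by simp [hab, hac])

set_option maxHeartbeats 1000000 in
/-- **Comparison**: rank one homomorphisms with the right ranges and compatible torus actions
come from a homomorphism of `SU_4`. -/
theorem compare {G : Type*} [Group G] (hF : Fintype.card F = q ^ 2) (hq : q = 2 ∨ q = 3)
    (γ : SU 4 F q →* G) (hker : ∀ x, γ x = 1 → ∃ ζ : F, ∀ v, act x v = ζ • v)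
    (E : ∀ j : ℕ, HH F q (iv 4 j 2) →* G)
    (hinj : ∀ j, j + 2 ≤ 4 → Function.Injective (E j))
    (hrange : ∀ j, j + 2 ≤ 4 → ∀ y, (∃ x, E j x = y) ↔ ∃ x ∈ HH F q (iv 4 j 2), γ x = y)
    (hN : ∀ j j', j + 2 ≤ 4 → j' + 2 ≤ 4 → (j' = j + 1 ∨ j = j' + 1) →
      ∀ (t : HH F q (iv 4 j 2)) (x x' : HH F q (iv 4 j' 2)), IsDg (t : SU 4 F q) →
        (x' : SU 4 F q) = t * x * (t : SU 4 F q)⁻¹ → E j' x' = E j t * E j' x * (E j t)⁻¹) :
    ∃ β : SU 4 F q ≃* SU 4 F q, (∀ (S : Finset (Fin 4)) g, β g ∈ HH F q S ↔ g ∈ HH F q S) ∧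
      ∀ j, j + 2 ≤ 4 → ∀ x : HH F q (iv 4 j 2), γ (β x) = E j x := by
  classical
  -- restriction of `γ` to rank one subgroups
  have hγinj : ∀ j, j + 2 ≤ 4 → Function.Injective (γ.comp (HH F q (iv 4 j 2)).subtype) := by
    intro j hj
    rw [injective_iff_map_eq_one]
    intro x hx
    obtain ⟨ζ, hζ⟩ := hker (x : SU 4 F q) hx
    obtain ⟨k, hk⟩ : ∃ k : Fin 4, k ∉ iv 4 j 2 := by
      by_cases hj0 : j = 0
      · exact ⟨3, by rw [mem_iv, hj0]; simp⟩
      · exact ⟨0, by rw [mem_iv]; simp; omega⟩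
    have h1 := x.2 k hk
    rw [hζ] at h1
    have h2 : ζ = 1 := by
      have := congrFun h1 k
      simpa using this
    apply Subtype.ext
    exact act_ext (fun v => by rw [hζ, h2, one_smul, Subgroup.coe_one, act_one])
  have hα : ∀ j, ∃ α : HH F q (iv 4 j 2) ≃* HH F q (iv 4 j 2), j + 2 ≤ 4 →
      ∀ x, γ ((α x : HH F q (iv 4 j 2)) : SU 4 F q) = E j x := by
    intro j
    by_cases hj : j + 2 ≤ 4
    · obtain ⟨α, hα⟩ := exists_equiv_of_range (hinj j hj) (hγinj j hj) (by
        ext y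
        constructor
        · rintro ⟨x, hx⟩
          obtain ⟨x', hx', hx''⟩ := (hrange j hj y).1 ⟨x, hx⟩
          exact ⟨⟨x', hx'⟩, hx''⟩
        · rintro ⟨x, hx⟩
          exact (hrange j hj y).2 ⟨x, x.2, hx⟩)
      exact ⟨α, fun _ => hα⟩
    · exact ⟨MulEquiv.refl _, fun h => absurd h hj⟩
  choose α hα using hα
  -- the key step
  have key : ∀ j j' (hj : j + 2 ≤ 4) (hj' : j' + 2 ≤ 4), (j' = j + 1 ∨ j = j' + 1) →
      ∀ t : HH F q (iv 4 j 2), IsDg (t : SU 4 F q) →
        IsDg ((α j t : HH F q (iv 4 j 2)) : SU 4 F q) ∧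
        ∀ x x' : HH F q (iv 4 j' 2), (x' : SU 4 F q) = t * x * (t : SU 4 F q)⁻¹ →
          ((α j t : HH F q (iv 4 j 2)) : SU 4 F q) * ((α j' x : HH F q (iv 4 j' 2)) : SU 4 F q) *
            ((α j t : HH F q (iv 4 j 2)) : SU 4 F q)⁻¹ =
            ((α j' x' : HH F q (iv 4 j' 2)) : SU 4 F q) := by
    intro j j' hj hj' hjj t ht
    have hrel : ∀ x x' : HH F q (iv 4 j' 2), (x' : SU 4 F q) = t * x * (t : SU 4 F q)⁻¹ →
        γ (((α j t : HH F q (iv 4 j 2)) : SU 4 F q) *
          ((α j' x : HH F q (iv 4 j' 2)) : SU 4 F q) *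
            ((α j t : HH F q (iv 4 j 2)) : SU 4 F q)⁻¹) =
            γ ((α j' x' : HH F q (iv 4 j' 2)) : SU 4 F q) := by
      intro x x' hx
      rw [map_mul, map_mul, map_inv, hα j hj, hα j' hj', hα j' hj', hN j j' hj hj' hjj t x x' ht hx]
    obtain ⟨a, b, c, d, hab, hac, hbc, hda, hdb, hdc, e1, e2⟩ : ∃ a b c d : Fin 4, a ≠ b ∧ a ≠ c ∧
        b ≠ c ∧ d ≠ a ∧ d ≠ b ∧ d ≠ c ∧ iv 4 j 2 = {a, b} ∧ iv 4 j' 2 = {b, c} := by
      have c0 : iv 4 0 2 = {(0 : Fin 4), 1} := by decide
      have c1 : iv 4 1 2 = {(1 : Fin 4), 2} := by decide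
      have c2 : iv 4 2 2 = {(2 : Fin 4), 3} := by decide
      have h3 : (j = 0 ∧ j' = 1) ∨ (j = 1 ∧ j' = 0) ∨ (j = 1 ∧ j' = 2) ∨ (j = 2 ∧ j' = 1) := by
        omega
      rcases h3 with ⟨rfl, rfl⟩ | ⟨rfl, rfl⟩ | ⟨rfl, rfl⟩ | ⟨rfl, rfl⟩
      · exact ⟨0, 1, 2, 3, by decide, by decide, by decide, by decide, by decide, by decide,
          c0, c1⟩
      · refine ⟨2, 1, 0, 3, by decide, by decide, by decide, by decide, by decide, by decide,
          ?_, ?_⟩ <;> decide
      · exact ⟨1, 2, 3, 0, by decide, by decide, by decide, by decide, by decide, by decide,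
          c1, c2⟩
      · refine ⟨3, 2, 1, 0, by decide, by decide, by decide, by decide, by decide, by decide,
          ?_, ?_⟩ <;> decide
    have hs : ((α j t : HH F q (iv 4 j 2)) : SU 4 F q) ∈ HH F q ({a, b} : Finset (Fin 4)) := by
      rw [← e1]; exact (α j t).2
    obtain ⟨h1, h2⟩ := dg_step hF hker hab hac hbc hda hdb hdc hs (by
      intro y hy
      rw [← e2] at hy
      obtain ⟨x, hx⟩ : ∃ x, x = (α j').symm ⟨y, hy⟩ := ⟨_, rfl⟩
      have hconj : (t : SU 4 F q) * x * (t : SU 4 F q)⁻¹ ∈ HH F q (iv 4 j' 2) :=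
        ht.conj_mem hF x.2
      have h1 := hrel x ⟨_, hconj⟩ rfl
      have hx' : α j' x = ⟨y, hy⟩ := by rw [hx, MulEquiv.apply_symm_apply]
      rw [hx'] at h1
      refine ⟨_, ?_, h1⟩
      rw [← e2]
      exact Subtype.property _)
    refine ⟨h2, fun x x' hx => ?_⟩
    refine h1 _ ?_ _ ?_ (hrel x x' hx)
    · rw [← e2]; exact Subtype.property _
    · rw [← e2]; exact Subtype.property _
  -- shapes
  have hshape : ∀ j, ∃ (c : F) (τ : F ≃+* F), ∀ him : j + 2 ≤ 4, c ^ (q + 1) = 1 ∧
      ∀ x : HH F q (iv 4 j 2),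
      mt ((α j x : HH F q (iv 4 j 2)) : SU 4 F q) (ix him 0) (ix him 0) =
        τ (mt (x : SU 4 F q) (ix him 0) (ix him 0)) ∧
      mt ((α j x : HH F q (iv 4 j 2)) : SU 4 F q) (ix him 0) (ix him 1) =
        c * τ (mt (x : SU 4 F q) (ix him 0) (ix him 1)) ∧
      mt ((α j x : HH F q (iv 4 j 2)) : SU 4 F q) (ix him 1) (ix him 0) =
        c⁻¹ * τ (mt (x : SU 4 F q) (ix him 1) (ix him 0)) ∧
      mt ((α j x : HH F q (iv 4 j 2)) : SU 4 F q) (ix him 1) (ix him 1) =
        τ (mt (x : SU 4 F q) (ix him 1) (ix him 1)) := by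
    intro j
    by_cases hj : j + 2 ≤ 4
    · obtain ⟨c, τ, hc, h⟩ := aut_iv_two hF hj (α j) (by
        intro t ht
        by_cases hj2 : j = 2
        · exact (key j 1 hj (by omega) (Or.inr (by omega)) t ht).1
        · exact (key j (j + 1) hj (by omega) (Or.inl rfl) t ht).1)
      exact ⟨c, τ, fun _ => ⟨hc, h⟩⟩
    · exact ⟨1, RingEquiv.refl F, fun h => absurd h hj⟩
  choose c τ hcτ using hshape
  -- the field automorphisms agree
  have hττ : ∀ j, j + 3 ≤ 4 → τ j = τ (j + 1) := by
    intro j hj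
    apply tau_eq hF hq
    intro l hl
    have him : j + 2 ≤ 4 := by omega
    have him' : j + 1 + 2 ≤ 4 := by omega
    have e0 : ix him 1 = ix him' 0 := Fin.ext (by simp only [ix]; rfl)
    have n01 : ix him 0 ≠ ix him 1 := fun h => absurd (ix_injective him h) (by decide)
    have n01' : ix him' 0 ≠ ix him' 1 := fun h => absurd (ix_injective him' h) (by decide)
    have n02 : ix him' 1 ≠ ix him 0 := by
      intro h
      have := congrArg Fin.val h
      simp only [ix] at this
      change j + 1 + 1 = j + 0 at this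
      omega
    have l' : (l⁻¹) ^ (q + 1) = 1 := by rw [inv_pow, hl, inv_one]
    obtain ⟨t, ht, htd, ht0, ht1⟩ := exists_dg (q := q) n01 l'
    have e1 : iv 4 j 2 = {ix him 0, ix him 1} := by
      rw [iv_two him]; rfl
    have e1' : iv 4 (j + 1) 2 = {ix him' 0, ix him' 1} := by
      rw [iv_two him']; rfl
    obtain ⟨x, hx, hxe⟩ := exists_HH1 hF (S := {ix him' 0, ix him' 1}) (a := ix him' 1)
      (i0 := ix him' 0) (by simp) (by simp) n01' (un_ee hF (i := ix him' 0) (by simp))
    rw [← e1] at ht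
    rw [← e1'] at hx
    have hconj : t * x * t⁻¹ ∈ HH F q (iv 4 (j + 1) 2) := htd.conj_mem hF hx
    obtain ⟨h1, h2⟩ := key j (j + 1) him him' (Or.inl rfl) ⟨t, ht⟩ htd
    have h3 := h2 ⟨x, hx⟩ ⟨_, hconj⟩ rfl
    rw [mul_inv_eq_iff_eq_mul] at h3
    have h4 := congrFun (congrFun (congrArg mt h3) (ix him' 0)) (ix him' 1)
    rw [mt_dg_mul h1, mt_mul_dg h1] at h4
    obtain ⟨p00, p01, p10, p11⟩ := (hcτ j him).2 ⟨t, ht⟩
    obtain ⟨q00, q01, q10, q11⟩ := (hcτ (j + 1) him').2 ⟨x, hx⟩
    obtain ⟨r00, r01, r10, r11⟩ := (hcτ (j + 1) him').2 ⟨_, hconj⟩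
    rw [q01, r01, ← e0, p11] at h4
    have hlast : mt ((α j ⟨t, ht⟩ : HH F q (iv 4 j 2)) : SU 4 F q) (ix him' 1) (ix him' 1) = 1 := by
      have := mem_HH_iff_mt.1 (α j ⟨t, ht⟩).2 (ix him' 1) (by
        rw [mem_iv]
        change ¬ (j ≤ j + 1 + 1 ∧ j + 1 + 1 < j + 2)
        omega) (ix him' 1)
      rwa [if_pos rfl] at this
    have hx1 : mt x (ix him' 0) (ix him' 1) = 1 := by
      rw [← act_ee, hxe]; simp
    have htx : mt (t * x * t⁻¹) (ix him' 0) (ix him' 1) = l := by
      have h5 : t * x * t⁻¹ * t = t * x := by group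
      have h6 := congrFun (congrFun (congrArg mt h5) (ix him' 0)) (ix him' 1)
      rw [mt_mul_dg htd, mt_dg_mul htd] at h6
      have h7 : mt t (ix him' 1) (ix him' 1) = 1 := by
        have := mem_HH_iff_mt.1 ht (ix him' 1) (by
          rw [mem_iv]
          change ¬ (j ≤ j + 1 + 1 ∧ j + 1 + 1 < j + 2)
          omega) (ix him' 1)
        rwa [if_pos rfl] at this
      rw [h7, hx1, mul_one, mul_one, ← e0, ht1, inv_inv] at h6
      rw [← e0]; exact h6
    change τ j (mt t (ix him 1) (ix him 1)) * (c (j + 1) * τ (j + 1)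
      (mt x (ix him 1) (ix him' 1))) = c (j + 1) * τ (j + 1)
      (mt (t * x * t⁻¹) (ix him 1) (ix him' 1)) * mt _ (ix him' 1) (ix him' 1) at h4
    rw [ht1, hlast, e0, hx1, htx, inv_inv, map_one, mul_one, mul_one] at h4
    have hc0 := norm_ne_zero (hcτ (j + 1) him').1
    have h8 : c (j + 1) * (τ j l - τ (j + 1) l) = 0 := by linear_combination h4
    exact sub_eq_zero.1 ((mul_eq_zero.1 h8).resolve_left hc0)
  have hτ0 : ∀ j, j + 2 ≤ 4 → τ j = τ 0 := by
    intro j hj
    have h1 := hττ 0 (by omega)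
    have h2 := hττ 1 (by omega)
    have h3 : j = 0 ∨ j = 1 ∨ j = 2 := by omega
    rcases h3 with rfl | rfl | rfl
    · rfl
    · exact h1.symm
    · exact h2.symm.trans h1.symm
  -- the diagonal matrix
  obtain ⟨d, hd⟩ : ∃ d : ℕ → F, d = fun k => if k = 0 then c 0 * (c 1 * c 2) else
    if k = 1 then c 1 * c 2 else if k = 2 then c 2 else 1 := ⟨_, rfl⟩
  have hcn : ∀ j, j + 2 ≤ 4 → c j ^ (q + 1) = 1 := fun j hj => (hcτ j hj).1
  have hdn : ∀ k : Fin 4, (fun k : Fin 4 => d k) k ^ (q + 1) = 1 := by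
    intro k
    rw [hd]
    beta_reduce
    have h0 := hcn 0 (by omega)
    have h1 := hcn 1 (by omega)
    have h2 := hcn 2 (by omega)
    split_ifs
    · rw [mul_pow, mul_pow, h0, h1, h2]; ring
    · rw [mul_pow, h1, h2]; ring
    · exact h2
    · exact one_pow _
  have hdd : ∀ j, j + 2 ≤ 4 → d j = c j * d (j + 1) := by
    intro j hj
    have h3 : j = 0 ∨ j = 1 ∨ j = 2 := by omega
    rw [hd]
    rcases h3 with rfl | rfl | rfl <;> simp
  refine ⟨tw hF hdn (τ 0), fun S g => tw_mem_iff hF hdn (τ 0) g S, ?_⟩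
  intro j hj x
  rw [← hα j hj x]
  congr 1
  apply HH_ext hF ((tw_mem_iff hF hdn (τ 0) _ _).2 x.2) (α j x).2
  intro k hk l hl
  obtain ⟨a, rfl⟩ := exists_ix hj hk
  obtain ⟨b, rfl⟩ := exists_ix hj hl
  rw [tw_apply]
  obtain ⟨p00, p01, p10, p11⟩ := (hcτ j hj).2 x
  rw [hτ0 j hj] at p00 p01 p10 p11
  have hne0 := norm_ne_zero (hdn (ix hj 0))
  have hne1 := norm_ne_zero (hdn (ix hj 1))
  have hcne := norm_ne_zero (hcn j hj)
  have hd0 : (fun k : Fin 4 => d k) (ix hj 0) = c j * (fun k : Fin 4 => d k) (ix hj 1) := hdd j hj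
  fin_cases a <;> fin_cases b
  · refine Eq.trans ?_ p00.symm
    change (fun k : Fin 4 => d k) (ix hj 0) * τ 0 (mt (x : SU 4 F q) (ix hj 0) (ix hj 0)) *
      ((fun k : Fin 4 => d k) (ix hj 0))⁻¹ = _
    rw [mul_comm, ← mul_assoc, inv_mul_cancel₀ hne0, one_mul]
  · refine Eq.trans ?_ p01.symm
    change (fun k : Fin 4 => d k) (ix hj 0) * τ 0 (mt (x : SU 4 F q) (ix hj 0) (ix hj 1)) *
      ((fun k : Fin 4 => d k) (ix hj 1))⁻¹ = _
    rw [hd0]
    obtain ⟨u, hu⟩ : ∃ u, u = (fun k : Fin 4 => d k) (ix hj 1) := ⟨_, rfl⟩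
    rw [← hu] at hne1 ⊢
    field_simp
  · refine Eq.trans ?_ p10.symm
    change (fun k : Fin 4 => d k) (ix hj 1) * τ 0 (mt (x : SU 4 F q) (ix hj 1) (ix hj 0)) *
      ((fun k : Fin 4 => d k) (ix hj 0))⁻¹ = _
    rw [hd0]
    obtain ⟨u, hu⟩ : ∃ u, u = (fun k : Fin 4 => d k) (ix hj 1) := ⟨_, rfl⟩
    rw [← hu] at hne1 ⊢
    field_simp
  · refine Eq.trans ?_ p11.symm
    change (fun k : Fin 4 => d k) (ix hj 1) * τ 0 (mt (x : SU 4 F q) (ix hj 1) (ix hj 1)) *
      ((fun k : Fin 4 => d k) (ix hj 1))⁻¹ = _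
    rw [mul_comm, ← mul_assoc, inv_mul_cancel₀ hne1, one_mul]

end Cfsg.Agent.Phan
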