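import Cfsg.Agent.Phan.Geo2

/-!
# Coverings of the orthogonality graph of unit vectors are trivial

`Cov W Y` : a covering of the orthogonality graph on the unit vectors of `W` in which triangles
and the quadrangles of orthogonal-sum type lift to closed paths.
-/

set_option autoImplicit false
set_option linter.unusedSectionVars false

namespace Cfsg.Agent.Phan

open Cfsg.Agent.Uni Module

variable {F : Type*} [Field F] [Fintype F] {q : ℕ} {n : ℕ}

/-- Coverings of the orthogonality graph. -/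
structure Cov (q : ℕ) (W : Submodule F (Fin n → F)) (Y : Type*) where
  p : Y → Fin n → F
  nb : Y → (Fin n → F) → Y
  p_mem : ∀ y, Un q W (p y)
  p_nb : ∀ y w, Un q W w → hermForm n F q w (p y) = 0 → p (nb y w) = w
  back : ∀ y w, Un q W w → hermForm n F q w (p y) = 0 → nb (nb y w) (p y) = y
  tri : ∀ y u w, Un q W u → Un q W w → hermForm n F q u (p y) = 0 → hermForm n F q w (p y) = 0 →
    hermForm n F q w u = 0 → nb (nb y u) w = nb y w
  good : ∀ y f u u' w, Un q W f → Un q W u → Un q W u' → Un q W w →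
    hermForm n F q f (p y) = 0 → hermForm n F q u (p y) = 0 → hermForm n F q u' (p y) = 0 →
    hermForm n F q u f = 0 → hermForm n F q u' f = 0 →
    (∃ a b : F, w = a • p y + b • f) → nb (nb y u) w = nb (nb y u') w

namespace Cov

variable {W : Submodule F (Fin n → F)} {Y : Type*} (C : Cov q W Y)

/-- The quadrangle `v u w u'` lifts to closed paths. -/
def Eqv (v w u u' : Fin n → F) : Prop :=
  ∀ y, C.p y = v → C.nb (C.nb y u) w = C.nb (C.nb y u') w

variable {C}

theorem Eqv.trans {v w u u' u'' : Fin n → F} (h : C.Eqv v w u u') (h' : C.Eqv v w u' u'') :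
    C.Eqv v w u u'' := fun y hy => (h y hy).trans (h' y hy)

theorem Eqv.symm {v w u u' : Fin n → F} (h : C.Eqv v w u u') : C.Eqv v w u' u :=
  fun y hy => (h y hy).symm

/-- `u`, `u'` orthogonal. -/
theorem eqv_of_orth (hF : Fintype.card F = q ^ 2) {v w u u' : Fin n → F} (hw : Un q W w)
    (hu : Un q W u) (hu' : Un q W u') (huv : hermForm n F q u v = 0)
    (hu'v : hermForm n F q u' v = 0) (huw : hermForm n F q u w = 0)
    (hu'w : hermForm n F q u' w = 0) (huu : hermForm n F q u u' = 0) : C.Eqv v w u u' := by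
  intro y hy
  subst hy
  have h1 : C.nb (C.nb y u) u' = C.nb y u' := C.tri y u u' hu hu' huv hu'v (form_comm hF huu)
  have hp : C.p (C.nb y u) = u := C.p_nb y u hu huv
  have h2 : C.nb (C.nb (C.nb y u) u') w = C.nb (C.nb y u) w :=
    C.tri (C.nb y u) u' w hu' hw (by rw [hp]; exact form_comm hF huu)
      (by rw [hp]; exact form_comm hF huw) (form_comm hF hu'w)
  rw [← h2, h1]

/-- Change of the diagonal. -/
theorem Eqv.rotate (hF : Fintype.card F = q ^ 2) {v w u u' : Fin n → F} (h : C.Eqv v w u u')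
    (hv : Un q W v) (hw : Un q W w)
    (hu : Un q W u) (hu' : Un q W u') (huv : hermForm n F q u v = 0)
    (hu'v : hermForm n F q u' v = 0) (huw : hermForm n F q u w = 0)
    (hu'w : hermForm n F q u' w = 0) : C.Eqv u u' v w := by
  intro z hz
  subst hz
  -- `y = z·v`
  have hp : C.p (C.nb z v) = v := C.p_nb z v hv (form_comm hF huv)
  have h1 := h (C.nb z v) hp
  have h2 : C.nb (C.nb z v) (C.p z) = z := C.back z v hv (form_comm hF huv)
  rw [h2] at h1
  rw [h1]
  have hp' : C.p (C.nb (C.nb z v) u') = u' := C.p_nb _ _ hu' (by rw [hp]; exact hu'v)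
  have h3 := C.back (C.nb (C.nb z v) u') w hw (by rw [hp']; exact form_comm hF hu'w)
  rw [hp'] at h3
  exact h3.symm

/-- All pairs of unit vectors of a connected subspace of the perp are equivalent. -/
theorem eqv_of_conn (hF : Fintype.card F = q ^ 2) {Z : Submodule F (Fin n → F)} (hZ : Conn q Z)
    (hZW : Z ≤ W) {v w : Fin n → F} (hw : Un q W w)
    (hZv : ∀ z ∈ Z, hermForm n F q z v = 0 ∧ hermForm n F q z w = 0)
    {u u' : Fin n → F} (hu : Un q Z u) (hu' : Un q Z u') : C.Eqv v w u u' := by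
  have h := hZ u u' hu hu'
  induction h with
  | refl => intro y _; rfl
  | tail _ h1 ih =>
    exact (ih h1.1).trans (eqv_of_orth hF hw (h1.1.mono hZW) (h1.2.1.mono hZW)
      (hZv _ h1.1.1).1 (hZv _ h1.2.1.1).1 (hZv _ h1.1.1).2 (hZv _ h1.2.1.1).2 h1.2.2)

/-- Proportional diagonal. -/
theorem eqv_prop (hF : Fintype.card F = q ^ 2) (hq : 3 ≤ q) (hW : ND q W) (h4 : 4 ≤ finrank F W)
    {v w u u' : Fin n → F} (hv : Un q W v) (hw : Un q W w)
    (hu : Un q W u) (hu' : Un q W u') (huv : hermForm n F q u v = 0)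
    (hu'v : hermForm n F q u' v = 0) {c : F} (hc : w = c • v) : C.Eqv v w u u' := by
  have h1 := finrank_pp hF hv
  refine eqv_of_conn hF (conn_of_three hF hq (nd_pp hF hW hv) (by omega)) (pp_le W v) hw ?_
    ⟨(mem_pp hF).2 ⟨hu.1, huv⟩, hu.2⟩ ⟨(mem_pp hF).2 ⟨hu'.1, hu'v⟩, hu'.2⟩
  intro z hz
  have := (mem_pp hF).1 hz
  refine ⟨this.2, ?_⟩
  rw [hc, hermForm_smul_right, this.2, mul_zero]

/-- Nondegenerate diagonal. -/
theorem eqv_nondeg {v f w u u' : Fin n → F} (hw : Un q W w)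
    (hu : Un q W u) (hu' : Un q W u') (huv : hermForm n F q u v = 0)
    (hu'v : hermForm n F q u' v = 0) (huw : hermForm n F q u w = 0)
    (hu'w : hermForm n F q u' w = 0) (hf : Un q W f) (hfv : hermForm n F q f v = 0) {a b : F}
    (hF : Fintype.card F = q ^ 2) (hb : b ≠ 0) (hc : w = a • v + b • f) : C.Eqv v w u u' := by
  have key : ∀ z, hermForm n F q z v = 0 → hermForm n F q z w = 0 → hermForm n F q z f = 0 := by
    intro z h1 h2
    rw [hc, hermForm_add_right hF, hermForm_smul_right, hermForm_smul_right, h1, mul_zero,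
      zero_add, mul_eq_zero] at h2
    rcases h2 with h2 | h2
    · exact absurd h2 (pow_ne_zero _ hb)
    · exact h2
  intro y hy
  subst hy
  exact C.good y f u u' w hf hu hu' hw hfv huv hu'v (key _ huv huw) (key _ hu'v hu'w) ⟨a, b, hc⟩

/-- If the pair `v, w` does not span a degenerate plane. -/
theorem eqv_of_ne (hF : Fintype.card F = q ^ 2) (hq : 3 ≤ q) (hW : ND q W) (h4 : 4 ≤ finrank F W)
    {v w u u' : Fin n → F} (hv : Un q W v) (hw : Un q W w)
    (hu : Un q W u) (hu' : Un q W u') (huv : hermForm n F q u v = 0)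
    (hu'v : hermForm n F q u' v = 0) (huw : hermForm n F q u w = 0)
    (hu'w : hermForm n F q u' w = 0) (hne : hermForm n F q w v * hermForm n F q w v ^ q ≠ 1) :
    C.Eqv v w u u' := by
  rcases pair_cases hF hv hw with ⟨c, hc, h⟩ | ⟨f, a, b, hf, hfv, hb, h⟩ |
    ⟨r, a, hr, hr0, hrr, hrv, ha, h⟩
  · exact eqv_prop hF hq hW h4 hv hw hu hu' huv hu'v h
  · exact eqv_nondeg hw hu hu' huv hu'v huw hu'w hf hfv hF hb h
  · exfalso
    apply hne
    rw [h, hermForm_add_left, hermForm_smul_left, hv.2, hrv]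
    simpa using ha

/-- A cone over a quadrangle. -/
theorem eqv_of_cone (hF : Fintype.card F = q ^ 2) (hq : 3 ≤ q) (hW : ND q W)
    (h4 : 4 ≤ finrank F W) {v1 v2 v3 v4 p : Fin n → F}
    (hv1 : Un q W v1) (hv2 : Un q W v2) (hv3 : Un q W v3) (hv4 : Un q W v4) (hp : Un q W p)
    (h12 : hermForm n F q v2 v1 = 0) (h23 : hermForm n F q v3 v2 = 0)
    (h34 : hermForm n F q v4 v3 = 0) (h41 : hermForm n F q v1 v4 = 0)
    (n1 : hermForm n F q p v1 * hermForm n F q p v1 ^ q ≠ 1)
    (n2 : hermForm n F q p v2 * hermForm n F q p v2 ^ q ≠ 1)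
    (n3 : hermForm n F q p v3 * hermForm n F q p v3 ^ q ≠ 1)
    (n4 : hermForm n F q p v4 * hermForm n F q p v4 ^ q ≠ 1)
    (n12 : 1 ≠ hermForm n F q p v1 * hermForm n F q p v1 ^ q +
      hermForm n F q p v2 * hermForm n F q p v2 ^ q)
    (n23 : 1 ≠ hermForm n F q p v2 * hermForm n F q p v2 ^ q +
      hermForm n F q p v3 * hermForm n F q p v3 ^ q)
    (n34 : 1 ≠ hermForm n F q p v3 * hermForm n F q p v3 ^ q +
      hermForm n F q p v4 * hermForm n F q p v4 ^ q)
    (n41 : 1 ≠ hermForm n F q p v4 * hermForm n F q p v4 ^ q +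
      hermForm n F q p v1 * hermForm n F q p v1 ^ q) :
    C.Eqv v1 v3 v2 v4 := by
  -- the step
  have step : ∀ v v' : Fin n → F, Un q W v → Un q W v' → hermForm n F q v' v = 0 →
      1 ≠ hermForm n F q p v * hermForm n F q p v ^ q +
        hermForm n F q p v' * hermForm n F q p v' ^ q →
      ∃ e, Un q W e ∧ hermForm n F q e v = 0 ∧ hermForm n F q e v' = 0 ∧
        hermForm n F q e p = 0 ∧ ∀ y, C.p y = v → C.nb (C.nb (C.nb y v') e) p =
          C.nb (C.nb y e) p := by
    intro v v' hv hv' hvv hg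
    obtain ⟨e, he, he1, he2, he3⟩ := exists_common3' hF hW h4 hv hv' hvv hp.1 (by
      rw [hp.2]; exact hg)
    refine ⟨e, he, he1, he2, he3, ?_⟩
    intro y hy
    subst hy
    rw [C.tri y v' e hv' he hvv he1 he2]
  obtain ⟨e1, he1, he1a, he1b, he1p, s1⟩ := step v1 v2 hv1 hv2 h12 n12
  obtain ⟨e2, he2, he2a, he2b, he2p, s2⟩ := step v2 v3 hv2 hv3 h23 n23
  obtain ⟨e3, he3, he3a, he3b, he3p, s3⟩ := step v3 v4 hv3 hv4 h34 n34
  obtain ⟨e4, he4, he4a, he4b, he4p, s4⟩ := step v4 v1 hv4 hv1 h41 n41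
  have D1 : C.Eqv v1 p e1 e4 := eqv_of_ne hF hq hW h4 hv1 hp he1 he4 he1a he4b he1p he4p n1
  have D2 : C.Eqv v2 p e1 e2 := eqv_of_ne hF hq hW h4 hv2 hp he1 he2 he1b he2a he1p he2p n2
  have D3 : C.Eqv v3 p e2 e3 := eqv_of_ne hF hq hW h4 hv3 hp he2 he3 he2b he3a he2p he3p n3
  have D4 : C.Eqv v4 p e3 e4 := eqv_of_ne hF hq hW h4 hv4 hp he3 he4 he3b he4a he3p he4p n4
  intro y hy
  -- the path
  have p1 : C.p (C.nb y v2) = v2 := C.p_nb _ _ hv2 (by rw [hy]; exact h12)
  have p2 : C.p (C.nb (C.nb y v2) v3) = v3 := C.p_nb _ _ hv3 (by rw [p1]; exact h23)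
  have p3 : C.p (C.nb (C.nb (C.nb y v2) v3) v4) = v4 := C.p_nb _ _ hv4 (by rw [p2]; exact h34)
  have p4 : C.p (C.nb (C.nb (C.nb (C.nb y v2) v3) v4) v1) = v1 :=
    C.p_nb _ _ hv1 (by rw [p3]; exact h41)
  obtain ⟨y', hy'⟩ : ∃ y', y' = C.nb (C.nb (C.nb (C.nb y v2) v3) v4) v1 := ⟨_, rfl⟩
  have e : C.nb (C.nb y' e4) p = C.nb (C.nb y e4) p := by
    rw [hy', s4 _ p3, ← D4 _ p3, s3 _ p2, ← D3 _ p2, s2 _ p1, ← D2 _ p1, s1 _ hy, D1 _ hy]
  rw [← hy'] at p4
  -- `y' = y`
  have inj : ∀ z, C.p z = v1 → C.nb (C.nb (C.nb (C.nb z e4) p) e4) v1 = z := by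
    intro z hz
    have a1 : C.p (C.nb z e4) = e4 := C.p_nb _ _ he4 (by rw [hz]; exact he4b)
    have a2 := C.back (C.nb z e4) p hp (by rw [a1]; exact form_comm hF he4p)
    rw [a1] at a2
    rw [a2]
    have a3 := C.back z e4 he4 (by rw [hz]; exact he4b)
    rw [hz] at a3
    exact a3
  have hyy : y' = y := by rw [← inj y' p4, e, inj y hy]
  -- conclude
  have b1 := C.back (C.nb (C.nb (C.nb y v2) v3) v4) v1 hv1 (by rw [p3]; exact h41)
  rw [p3, ← hy', hyy] at b1
  have b2 := C.back (C.nb (C.nb y v2) v3) v4 hv4 (by rw [p2]; exact h34)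
  rw [p2, ← b1] at b2
  exact b2.symm

/-- All quadrangles lift to closed paths. -/
theorem eqv_all (hF : Fintype.card F = q ^ 2) (hW : ND q W)
    (hcase : (5 ≤ finrank F W ∧ 3 ≤ q) ∨ (finrank F W = 4 ∧ 4 ≤ q))
    {v w u u' : Fin n → F} (hv : Un q W v) (hw : Un q W w)
    (hu : Un q W u) (hu' : Un q W u') (huv : hermForm n F q u v = 0)
    (hu'v : hermForm n F q u' v = 0) (huw : hermForm n F q u w = 0)
    (hu'w : hermForm n F q u' w = 0) : C.Eqv v w u u' := by
  have hq : 3 ≤ q := by omega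
  have h4 : 4 ≤ finrank F W := by omega
  rcases pair_cases hF hv hw with ⟨c, hc, h⟩ | ⟨f, a, b, hf, hfv, hb, h⟩ |
    ⟨r, a, hr, hr0, hrr, hrv, ha, h⟩
  · exact eqv_prop hF hq hW h4 hv hw hu hu' huv hu'v h
  · exact eqv_nondeg hw hu hu' huv hu'v huw hu'w hf hfv hF hb h
  -- first diagonal degenerate
  have hperp : ∀ z, hermForm n F q z v = 0 → hermForm n F q z w = 0 → hermForm n F q z r = 0 := by
    intro z h1 h2
    rw [h, hermForm_add_right hF, hermForm_smul_right, h1] at h2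
    linear_combination h2
  have hur := hperp u huv huw
  have hu'r := hperp u' hu'v hu'w
  rcases pair_cases hF hu hu' with ⟨c, hc, h'⟩ | ⟨f, b, b', hf, hfu, hb', h'⟩ |
    ⟨r', b, hr', hr'0, hrr', hr'u, hb, h'⟩
  · exact (eqv_prop hF hq hW h4 hu hu' hv hw (form_comm hF huv) (form_comm hF huw) h').rotate hF
      hu hu' hv hw (form_comm hF huv) (form_comm hF huw) (form_comm hF hu'v) (form_comm hF hu'w)
  · exact (eqv_nondeg hu' hv hw (form_comm hF huv) (form_comm hF huw) (form_comm hF hu'v)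
      (form_comm hF hu'w) hf hfu hF hb' h').rotate hF
      hu hu' hv hw (form_comm hF huv) (form_comm hF huw) (form_comm hF hu'v) (form_comm hF hu'w)
  -- both degenerate
  have hr'v : hermForm n F q r' v = 0 := by
    have := hu'v
    rw [h', hermForm_add_left, hermForm_smul_left, huv] at this
    linear_combination this
  have hr'r : hermForm n F q r' r = 0 := by
    have := hu'r
    rw [h', hermForm_add_left, hermForm_smul_left, hur] at this
    linear_combination this
  have h1 := finrank_pp hF hv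
  have hu1 : Un q (pp q W v) u := ⟨(mem_pp hF).2 ⟨hu.1, huv⟩, hu.2⟩
  have h2 := finrank_pp hF hu1
  have hND := nd_pp hF (nd_pp hF hW hv) hu1
  have hrm : r ∈ pp q (pp q W v) u :=
    (mem_pp hF).2 ⟨(mem_pp hF).2 ⟨hr, hrv⟩, form_comm hF hur⟩
  have hrm' : r' ∈ pp q (pp q W v) u := (mem_pp hF).2 ⟨(mem_pp hF).2 ⟨hr', hr'v⟩, hr'u⟩
  by_cases h6 : 6 ≤ finrank F W
  · -- the perp is connected
    obtain ⟨s, hs, hrs⟩ := exists_hypW hF (nd_pp hF hW hv) ((mem_pp hF).2 ⟨hr, hrv⟩) hr0 hrr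
    have hND' := nd_pp2 hF (nd_pp hF hW hv) ((mem_pp hF).2 ⟨hr, hrv⟩) hs hrs
    have h7 := finrank_pp2 hF ((mem_pp hF).2 ⟨hr, hrv⟩) hs hrs
    have hconn := conn_of_three hF hq hND' (by omega)
    have hvr := form_comm hF hrv
    have hsr := (hrs.symm hF).2.2
    refine eqv_of_conn (Z := pp q (pp q W v) w) hF (conn_radical hF hND' (by omega) ?_ hconn ?_)
      ((pp_le _ _).trans (pp_le _ _)) hw ?_ ⟨(mem_pp hF).2 ⟨(mem_pp hF).2 ⟨hu.1, huv⟩, huw⟩, hu.2⟩
      ⟨(mem_pp hF).2 ⟨(mem_pp hF).2 ⟨hu'.1, hu'v⟩, hu'w⟩, hu'.2⟩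
    · intro z hz
      have hz' := (mem_pp2 hF).1 hz
      refine (mem_pp hF).2 ⟨hz'.1, ?_⟩
      rw [h, hermForm_add_right hF, hermForm_smul_right, ((mem_pp hF).1 hz'.1).2, hz'.2.1]
      ring
    · intro z hz
      have hz' := (mem_pp hF).1 hz
      have hzv := ((mem_pp hF).1 hz'.1).2
      have hzr := hperp z hzv hz'.2
      have hrz := form_comm hF hzr
      refine ⟨z - hermForm n F q z s • r, ?_, ?_, ?_⟩
      · refine (mem_pp2 hF).2 ⟨Submodule.sub_mem _ hz'.1
          (Submodule.smul_mem _ _ ((mem_pp hF).2 ⟨hr, hrv⟩)), ?_, ?_⟩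
        · rw [hermForm_sub_left, hermForm_smul_left, hzr, hrr]; ring
        · rw [hermForm_sub_left, hermForm_smul_left, hrs.2.2]; ring
      · intro y hy
        rw [hermForm_sub_left, hermForm_smul_left, form_comm hF ((mem_pp2 hF).1 hy).2.1]; ring
      · rw [hermForm_sub_left, hermForm_sub_right hF, hermForm_sub_right hF, hermForm_smul_left,
          hermForm_smul_left, hermForm_smul_right, hermForm_smul_right, hrr, hzr, hrz]
        ring
    · intro z hz
      have hz' := (mem_pp hF).1 hz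
      exact ⟨((mem_pp hF).1 hz'.1).2, hz'.2⟩
  by_cases h5 : 5 ≤ finrank F W
  · obtain ⟨e, he, her, her'⟩ := exists_un_iso_perp hF hND (by omega) hrm hrm' hr0 hrr hrr' hr'r
    have he1 := (mem_pp hF).1 he.1
    have he2 := (mem_pp hF).1 he1.1
    have heW : Un q W e := ⟨he2.1, he.2⟩
    have hew : hermForm n F q e w = 0 := by
      rw [h, hermForm_add_right hF, hermForm_smul_right, he2.2, her]; ring
    have heu' : hermForm n F q e u' = 0 := by
      rw [h', hermForm_add_right hF, hermForm_smul_right, he1.2, her']; ring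
    exact (eqv_of_orth hF hw hu heW huv he2.2 huw hew (form_comm hF he1.2)).trans
      (eqv_of_orth hF hw heW hu' he2.2 hu'v hew hu'w heu')
  · -- dimension four
    have hq4 : 4 ≤ q := by omega
    have h4' : finrank F W = 4 := by omega
    obtain ⟨γ, hγ⟩ := iso_perp_two hF hND (by omega) hrm hrm' hr0 hrr hr'r
    have hγ0 : γ ≠ 0 := by
      rintro rfl
      rw [zero_smul] at hγ
      exact hr'0 hγ
    obtain ⟨p, hp, n1, n2, n3, n4, n12, n23, n34, n41⟩ := exists_aux_point hF hq4 hW hv hu huv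
      hr hr0 hrr hrv (form_comm hF hur) (b := b) ha hγ0
    rw [← h] at n3 n23 n34
    rw [← hγ, ← h'] at n4 n34 n41
    exact eqv_of_cone hF hq hW h4 hv hu hw hu' hp huv (form_comm hF huw) hu'w
      (form_comm hF hu'v) n1 n2 n3 n4 n12 n23 n34 n41

/-- Connected points of the covering with the same image are equal. -/
theorem inj (hF : Fintype.card F = q ^ 2) (hW : ND q W)
    (hcase : (5 ≤ finrank F W ∧ 3 ≤ q) ∨ (finrank F W = 4 ∧ 4 ≤ q)) {y y' : Y}
    (hyy : Relation.ReflTransGen (fun a b => ∃ w, Un q W w ∧ hermForm n F q w (C.p a) = 0 ∧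
      b = C.nb a w) y y') (hp : C.p y = C.p y') : y = y' := by
  classical
  have h4 : 4 ≤ finrank F W := by omega
  -- the distance two map
  have hex : ∀ v w, ∃ u, Un q W v → Un q W w → Un q W u ∧ hermForm n F q u v = 0 ∧
      hermForm n F q u w = 0 := by
    intro v w
    by_cases h : Un q W v ∧ Un q W w
    · obtain ⟨u, hu⟩ := exists_common hF hW h4 h.1 h.2.1
      exact ⟨u, fun _ _ => hu⟩
    · exact ⟨0, fun h1 h2 => absurd ⟨h1, h2⟩ h⟩
  choose m hm using hex
  obtain ⟨D, hD⟩ : ∃ D : Y → (Fin n → F) → Y, ∀ y w, D y w = C.nb (C.nb y (m (C.p y) w)) w :=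
    ⟨_, fun _ _ => rfl⟩
  have hD' : ∀ y w u, Un q W w → Un q W u → hermForm n F q u (C.p y) = 0 →
      hermForm n F q u w = 0 → D y w = C.nb (C.nb y u) w := by
    intro y w u hw hu h1 h2
    have := hm (C.p y) w (C.p_mem y) hw
    rw [hD]
    exact eqv_all hF hW hcase (C.p_mem y) hw this.1 hu this.2.1 h1 this.2.2 h2 y rfl
  -- the value at the base point
  have hDself : ∀ y, D y (C.p y) = y := by
    intro y
    have := hm (C.p y) (C.p y) (C.p_mem y) (C.p_mem y)
    rw [hD]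
    exact C.back y _ this.1 this.2.1
  -- with a common neighbour
  have hstep0 : ∀ y v' w u, Un q W v' → Un q W w → Un q W u → hermForm n F q v' (C.p y) = 0 →
      hermForm n F q u (C.p y) = 0 → hermForm n F q u v' = 0 → hermForm n F q u w = 0 →
      D (C.nb y v') w = D y w := by
    intro y v' w u hv' hw hu h1 h2 h3 h5
    rw [hD' y w u hw hu h2 h5, hD' (C.nb y v') w u hw hu (by rw [C.p_nb y v' hv' h1]; exact h3) h5,
      C.tri y v' u hv' hu h1 h2 h3]
  have hstep : ∀ y v' w, Un q W v' → Un q W w → hermForm n F q v' (C.p y) = 0 →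
      D (C.nb y v') w = D y w := by
    intro y v' w hv' hw h1
    rcases hcase with ⟨h5, _⟩ | ⟨h4', hq4⟩
    · obtain ⟨u, hu, hu1, hu2, hu3⟩ := exists_common3 hF hW h5 (C.p_mem y) hv' h1 hw.1
      exact hstep0 y v' w u hv' hw hu h1 hu1 hu2 hu3
    · rcases exists_inter hF hq4 hW h4 (C.p_mem y) hv' h1 hw with ⟨u, hu, hu1, hu2, hu3⟩ |
        ⟨x, u, u', hx, hu, hu', hxv, hxv', huv, hux, huw, hu'v, hu'x, hu'w⟩
      · exact hstep0 y v' w u hv' hw hu h1 hu1 hu2 hu3
      · have px : C.p (C.nb y x) = x := C.p_nb y x hx hxv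
        have e1 : D (C.nb y x) w = D y w := hstep0 y x w u hx hw hu hxv huv hux huw
        have e2 : D (C.nb (C.nb y x) v') w = D (C.nb y x) w :=
          hstep0 (C.nb y x) v' w u' hv' hw hu' (by rw [px]; exact form_comm hF hxv')
            (by rw [px]; exact hu'x) hu'v hu'w
        rw [C.tri y x v' hx hv' hxv h1 (form_comm hF hxv')] at e2
        rw [e2, e1]
  have hconst : ∀ w, Un q W w → D y' w = D y w := by
    intro w hw
    clear hp
    induction hyy with
    | refl => rfl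
    | tail _ h1 ih =>
      obtain ⟨v', hv', h2, rfl⟩ := h1
      rw [hstep _ v' w hv' hw h2, ih]
  have h1 := hconst (C.p y) (C.p_mem y)
  rw [hDself y] at h1
  rw [← h1, hp, hDself]

end Cov

end Cfsg.Agent.Phan
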