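import Cfsg.Agent.Phan.Cov

/-!
# Coverings of the orthogonality graph, arbitrary field, dimension at least five
-/

set_option autoImplicit false
set_option linter.unusedSectionVars false

namespace Cfsg.Agent.Phan

open Cfsg.Agent.Uni Module

variable {F : Type*} [Field F] [Fintype F] {q : ℕ} {n : ℕ}

theorem conn_of_four (hF : Fintype.card F = q ^ 2) {W : Submodule F (Fin n → F)}
    (hW : ND q W) (h4 : 4 ≤ finrank F W) : Conn q W := by
  intro u u' hu hu'
  obtain ⟨x, hx, hxu, hxu'⟩ := exists_common hF hW h4 hu hu'.1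
  exact .tail (.single ⟨hu, hx, form_comm hF hxu⟩) ⟨hx, hu', hxu'⟩

/-- An orthonormal basis of a nondegenerate plane. -/
theorem exists_on_two (hF : Fintype.card F = q ^ 2) {P : Submodule F (Fin n → F)}
    (hP : ND q P) (h2 : finrank F P = 2) : ∃ x y, Un q P x ∧ Un q P y ∧
      hermForm n F q y x = 0 ∧ ∀ z ∈ P, ∃ a b : F, z = a • x + b • y := by
  obtain ⟨x, hx⟩ := exists_un hF hP (by omega)
  have h1 := finrank_pp hF hx
  have hP1 := nd_pp hF hP hx
  obtain ⟨y, hy⟩ := exists_un hF hP1 (by omega)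
  have hy' := (mem_pp hF).1 hy.1
  have h3 := finrank_pp hF hy
  have hbot : pp q (pp q P x) y = ⊥ := Submodule.finrank_eq_zero.1 (by omega)
  refine ⟨x, y, hx, ⟨hy'.1, hy.2⟩, hy'.2, ?_⟩
  intro z hz
  have h4 := sub_mem_pp hF hy (sub_mem_pp hF hx hz)
  rw [hbot, Submodule.mem_bot, sub_eq_zero, sub_eq_iff_eq_add] at h4
  exact ⟨_, _, by rw [h4, add_comm]⟩

namespace Cov

variable {W : Submodule F (Fin n → F)} {Y : Type*}

/-- Quadrangles in an orthogonal sum of two spaces, the first of dimension three. -/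
def Good3 (C : Cov q W Y) : Prop :=
  ∀ y x1 x2 u u' w, Un q W x1 → Un q W x2 → Un q W u → Un q W u' → Un q W w →
    hermForm n F q x1 (C.p y) = 0 → hermForm n F q x2 (C.p y) = 0 → hermForm n F q x2 x1 = 0 →
    hermForm n F q u (C.p y) = 0 → hermForm n F q u x1 = 0 → hermForm n F q u x2 = 0 →
    hermForm n F q u' (C.p y) = 0 → hermForm n F q u' x1 = 0 → hermForm n F q u' x2 = 0 →
    (∃ a b c : F, w = a • C.p y + (b • x1 + c • x2)) → C.nb (C.nb y u) w = C.nb (C.nb y u') w

variable (C : Cov q W Y)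

variable {C}

theorem eqv_prop' (hF : Fintype.card F = q ^ 2) (hW : ND q W) (h5 : 5 ≤ finrank F W)
    {v w u u' : Fin n → F} (hv : Un q W v) (hw : Un q W w)
    (hu : Un q W u) (hu' : Un q W u') (huv : hermForm n F q u v = 0)
    (hu'v : hermForm n F q u' v = 0) {c : F} (hc : w = c • v) : C.Eqv v w u u' := by
  have h1 := finrank_pp hF hv
  refine eqv_of_conn hF (conn_of_four hF (nd_pp hF hW hv) (by omega)) (pp_le W v) hw ?_
    ⟨(mem_pp hF).2 ⟨hu.1, huv⟩, hu.2⟩ ⟨(mem_pp hF).2 ⟨hu'.1, hu'v⟩, hu'.2⟩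
  intro z hz
  have := (mem_pp hF).1 hz
  refine ⟨this.2, ?_⟩
  rw [hc, hermForm_smul_right, this.2, mul_zero]

/-- All quadrangles lift to closed paths. -/
theorem eqv_all2 (hF : Fintype.card F = q ^ 2) (hW : ND q W) (h5 : 5 ≤ finrank F W)
    (h6 : finrank F W = 6 → C.Good3)
    {v w u u' : Fin n → F} (hv : Un q W v) (hw : Un q W w)
    (hu : Un q W u) (hu' : Un q W u') (huv : hermForm n F q u v = 0)
    (hu'v : hermForm n F q u' v = 0) (huw : hermForm n F q u w = 0)
    (hu'w : hermForm n F q u' w = 0) : C.Eqv v w u u' := by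
  rcases pair_cases hF hv hw with ⟨c, hc, h⟩ | ⟨f, a, b, hf, hfv, hb, h⟩ |
    ⟨r, a, hr, hr0, hrr, hrv, ha, h⟩
  · exact eqv_prop' hF hW h5 hv hw hu hu' huv hu'v h
  · exact eqv_nondeg hw hu hu' huv hu'v huw hu'w hf hfv hF hb h
  -- first diagonal degenerate
  have hperp : ∀ z, hermForm n F q z v = 0 → hermForm n F q z w = 0 → hermForm n F q z r = 0 := by
    intro z h1 h2
    rw [h, hermForm_add_right hF, hermForm_smul_right, h1] at h2
    linear_combination h2
  have hur := hperp u huv huw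
  have hu'r := hperp u' hu'v hu'w
  rcases pair_cases hF hu hu' with ⟨c, hc, h'⟩ | ⟨f, b, b', hf, hfu, hb', h'⟩ |
    ⟨r', b, hr', hr'0, hrr', hr'u, hb, h'⟩
  · exact (eqv_prop' hF hW h5 hu hu' hv hw (form_comm hF huv) (form_comm hF huw) h').rotate hF
      hu hu' hv hw (form_comm hF huv) (form_comm hF huw) (form_comm hF hu'v) (form_comm hF hu'w)
  · exact (eqv_nondeg hu' hv hw (form_comm hF huv) (form_comm hF huw) (form_comm hF hu'v)
      (form_comm hF hu'w) hf hfu hF hb' h').rotate hF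
      hu hu' hv hw (form_comm hF huv) (form_comm hF huw) (form_comm hF hu'v) (form_comm hF hu'w)
  -- both degenerate
  have hr'v : hermForm n F q r' v = 0 := by
    have := hu'v
    rw [h', hermForm_add_left, hermForm_smul_left, huv] at this
    linear_combination this
  have hr'r : hermForm n F q r' r = 0 := by
    have := hu'r
    rw [h', hermForm_add_left, hermForm_smul_left, hur] at this
    linear_combination this
  have h1 := finrank_pp hF hv
  have hu1 : Un q (pp q W v) u := ⟨(mem_pp hF).2 ⟨hu.1, huv⟩, hu.2⟩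
  have h2 := finrank_pp hF hu1
  have hND := nd_pp hF (nd_pp hF hW hv) hu1
  have hrm : r ∈ pp q (pp q W v) u :=
    (mem_pp hF).2 ⟨(mem_pp hF).2 ⟨hr, hrv⟩, form_comm hF hur⟩
  have hrm' : r' ∈ pp q (pp q W v) u := (mem_pp hF).2 ⟨(mem_pp hF).2 ⟨hr', hr'v⟩, hr'u⟩
  -- a unit vector orthogonal to everything
  have hfin : (∃ e, Un q (pp q (pp q W v) u) e ∧ hermForm n F q e r = 0 ∧
      hermForm n F q e r' = 0) → C.Eqv v w u u' := by
    rintro ⟨e, he, her, her'⟩
    have he1 := (mem_pp hF).1 he.1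
    have he2 := (mem_pp hF).1 he1.1
    have heW : Un q W e := ⟨he2.1, he.2⟩
    have hew : hermForm n F q e w = 0 := by
      rw [h, hermForm_add_right hF, hermForm_smul_right, he2.2, her]; ring
    have heu' : hermForm n F q e u' = 0 := by
      rw [h', hermForm_add_right hF, hermForm_smul_right, he1.2, her']; ring
    exact (eqv_of_orth hF hw hu heW huv he2.2 huw hew (form_comm hF he1.2)).trans
      (eqv_of_orth hF hw heW hu' he2.2 hu'v hew hu'w heu')
  by_cases h7 : 7 ≤ finrank F W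
  · -- the perp is connected
    obtain ⟨s, hs, hrs⟩ := exists_hypW hF (nd_pp hF hW hv) ((mem_pp hF).2 ⟨hr, hrv⟩) hr0 hrr
    have hND' := nd_pp2 hF (nd_pp hF hW hv) ((mem_pp hF).2 ⟨hr, hrv⟩) hs hrs
    have h7 := finrank_pp2 hF ((mem_pp hF).2 ⟨hr, hrv⟩) hs hrs
    have hconn := conn_of_four hF hND' (by omega)
    have hvr := form_comm hF hrv
    have hsr := (hrs.symm hF).2.2
    refine eqv_of_conn (Z := pp q (pp q W v) w) hF (conn_radical hF hND' (by omega) ?_ hconn ?_)
      ((pp_le _ _).trans (pp_le _ _)) hw ?_ ⟨(mem_pp hF).2 ⟨(mem_pp hF).2 ⟨hu.1, huv⟩, huw⟩, hu.2⟩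
      ⟨(mem_pp hF).2 ⟨(mem_pp hF).2 ⟨hu'.1, hu'v⟩, hu'w⟩, hu'.2⟩
    · intro z hz
      have hz' := (mem_pp2 hF).1 hz
      refine (mem_pp hF).2 ⟨hz'.1, ?_⟩
      rw [h, hermForm_add_right hF, hermForm_smul_right, ((mem_pp hF).1 hz'.1).2, hz'.2.1]
      ring
    · intro z hz
      have hz' := (mem_pp hF).1 hz
      have hzv := ((mem_pp hF).1 hz'.1).2
      have hzr := hperp z hzv hz'.2
      have hrz := form_comm hF hzr
      refine ⟨z - hermForm n F q z s • r, ?_, ?_, ?_⟩
      · refine (mem_pp2 hF).2 ⟨Submodule.sub_mem _ hz'.1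
          (Submodule.smul_mem _ _ ((mem_pp hF).2 ⟨hr, hrv⟩)), ?_, ?_⟩
        · rw [hermForm_sub_left, hermForm_smul_left, hzr, hrr]; ring
        · rw [hermForm_sub_left, hermForm_smul_left, hrs.2.2]; ring
      · intro y hy
        rw [hermForm_sub_left, hermForm_smul_left, form_comm hF ((mem_pp2 hF).1 hy).2.1]; ring
      · rw [hermForm_sub_left, hermForm_sub_right hF, hermForm_sub_right hF, hermForm_smul_left,
          hermForm_smul_left, hermForm_smul_right, hermForm_smul_right, hrr, hzr, hrz]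
        ring
    · intro z hz
      have hz' := (mem_pp hF).1 hz
      exact ⟨((mem_pp hF).1 hz'.1).2, hz'.2⟩
  by_cases h6' : finrank F W = 6
  · -- dimension six
    obtain ⟨s0, hs0, hrs0⟩ := exists_hypW hF hND hrm hr0 hrr
    have h8 := finrank_pp2 hF hrm hs0 hrs0
    have hND0 := nd_pp2 hF hND hrm hs0 hrs0
    obtain ⟨t0, ht0⟩ : ∃ t0, t0 = r' - hermForm n F q r' s0 • r := ⟨_, rfl⟩
    have ht0m : t0 ∈ pp2 q (pp q (pp q W v) u) r s0 := by
      rw [mem_pp2 hF, ht0]
      refine ⟨Submodule.sub_mem _ hrm' (Submodule.smul_mem _ _ hrm), ?_, ?_⟩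
      · rw [hermForm_sub_left, hermForm_smul_left, hr'r, hrr]; ring
      · rw [hermForm_sub_left, hermForm_smul_left, hrs0.2.2]; ring
    by_cases ht : t0 = 0
    · -- proportional
      rw [ht, eq_comm, sub_eq_zero] at ht0
      obtain ⟨e, he, her⟩ := exists_un_perp hF hND (by omega) hrm
      exact hfin ⟨e, he, her, by rw [ht0, hermForm_smul_right, her, mul_zero]⟩
    have ht0t0 : hermForm n F q t0 t0 = 0 := by
      rw [ht0, hermForm_sub_left, hermForm_sub_right hF, hermForm_sub_right hF,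
        hermForm_smul_left, hermForm_smul_left, hermForm_smul_right, hermForm_smul_right, hrr,
        hrr', hr'r, form_comm hF hr'r]
      ring
    obtain ⟨t, htm, htt⟩ := exists_hypW hF hND0 ht0m ht ht0t0
    have htm' := (mem_pp2 hF).1 htm
    have hrt : hermForm n F q r t = 0 := form_comm hF htm'.2.1
    have hr't : hermForm n F q r' t = 1 := by
      have := htt.2.2
      rw [ht0, hermForm_sub_left, hermForm_smul_left, hrt] at this
      linear_combination this
    -- a vector orthogonal to `r'` and not to `r`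
    obtain ⟨s1, hs1⟩ : ∃ s1, s1 = s0 - (hermForm n F q r' s0) ^ q • t := ⟨_, rfl⟩
    have hs1r' : hermForm n F q r' s1 = 0 := by
      rw [hs1, hermForm_sub_right hF, hermForm_smul_right, hr't, pow_q_pow_q hF]
      ring
    have hs1r : hermForm n F q r s1 = 1 := by
      rw [hs1, hermForm_sub_right hF, hermForm_smul_right, hrt, hrs0.2.2]
      ring
    have hs1m : s1 ∈ pp q (pp q W v) u := by
      rw [hs1]
      exact Submodule.sub_mem _ hs0 (Submodule.smul_mem _ _ htm'.1)
    obtain ⟨c, d, _, hc1, hc2⟩ := exists_hyp hF hrr (x := s1) (by rw [hs1r]; exact one_ne_zero)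
    obtain ⟨s, hs⟩ : ∃ s, s = c • s1 + d • r := ⟨_, rfl⟩
    rw [← hs] at hc1 hc2
    have hsm : s ∈ pp q (pp q W v) u := by
      rw [hs]
      exact Submodule.add_mem _ (Submodule.smul_mem _ _ hs1m) (Submodule.smul_mem _ _ hrm)
    have hr's : hermForm n F q r' s = 0 := by
      rw [hs, hermForm_add_right hF, hermForm_smul_right, hermForm_smul_right, hs1r', hr'r]
      ring
    have hrs : Hyp q r s := ⟨hrr, hc1, hc2⟩
    obtain ⟨x1, x2, hx1, hx2, hx12, hspan⟩ := exists_on_two hF (hrs.nd hF) (hrs.finrank hF)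
    -- properties of vectors of the plane
    have hP : ∀ x ∈ Submodule.span F ({r, s} : Set (Fin n → F)), x ∈ W ∧
        hermForm n F q x v = 0 ∧ hermForm n F q u x = 0 ∧ hermForm n F q u' x = 0 := by
      intro x hx
      have hle : Submodule.span F ({r, s} : Set (Fin n → F)) ≤
          pp q (pp q (pp q W v) u) r' := by
        rw [Submodule.span_le]
        rintro z (rfl | rfl)
        · exact (mem_pp hF).2 ⟨hrm, form_comm hF hr'r⟩
        · exact (mem_pp hF).2 ⟨hsm, form_comm hF hr's⟩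
      have h9 := (mem_pp hF).1 (hle hx)
      have h10 := (mem_pp hF).1 h9.1
      have h11 := (mem_pp hF).1 h10.1
      refine ⟨h11.1, h11.2, form_comm hF h10.2, ?_⟩
      rw [h', hermForm_add_left, hermForm_smul_left, form_comm hF h10.2, form_comm hF h9.2]
      ring
    have e1 := hP x1 hx1.1
    have e2 := hP x2 hx2.1
    obtain ⟨b1, b2, hb12⟩ := hspan r (Submodule.subset_span (Set.mem_insert _ _))
    intro y hy
    subst hy
    exact h6 h6' y x1 x2 u u' w ⟨e1.1, hx1.2⟩ ⟨e2.1, hx2.2⟩ hu hu' hw e1.2.1 e2.2.1 hx12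
      huv e1.2.2.1 e2.2.2.1 hu'v e1.2.2.2 e2.2.2.2 ⟨a, b1, b2, by rw [h, ← hb12]⟩
  · obtain ⟨e, he, her, her'⟩ := exists_un_iso_perp hF hND (by omega) hrm hrm' hr0 hrr hrr' hr'r
    exact hfin ⟨e, he, her, her'⟩

/-- Connected points of the covering with the same image are equal. -/
theorem inj2 {C : Cov q W Y} (hF : Fintype.card F = q ^ 2) (hW : ND q W)
    (h5 : 5 ≤ finrank F W) (h6 : finrank F W = 6 → C.Good3) {y y' : Y}
    (hyy : Relation.ReflTransGen (fun a b => ∃ w, Un q W w ∧ hermForm n F q w (C.p a) = 0 ∧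
      b = C.nb a w) y y') (hp : C.p y = C.p y') : y = y' := by
  classical
  have h4 : 4 ≤ finrank F W := by omega
  -- the distance two map
  have hex : ∀ v w, ∃ u, Un q W v → Un q W w → Un q W u ∧ hermForm n F q u v = 0 ∧
      hermForm n F q u w = 0 := by
    intro v w
    by_cases h : Un q W v ∧ Un q W w
    · obtain ⟨u, hu⟩ := exists_common hF hW h4 h.1 h.2.1
      exact ⟨u, fun _ _ => hu⟩
    · exact ⟨0, fun h1 h2 => absurd ⟨h1, h2⟩ h⟩
  choose m hm using hex
  obtain ⟨D, hD⟩ : ∃ D : Y → (Fin n → F) → Y, ∀ y w, D y w = C.nb (C.nb y (m (C.p y) w)) w :=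
    ⟨_, fun _ _ => rfl⟩
  have hD' : ∀ y w u, Un q W w → Un q W u → hermForm n F q u (C.p y) = 0 →
      hermForm n F q u w = 0 → D y w = C.nb (C.nb y u) w := by
    intro y w u hw hu h1 h2
    have := hm (C.p y) w (C.p_mem y) hw
    rw [hD]
    exact eqv_all2 hF hW h5 h6 (C.p_mem y) hw this.1 hu this.2.1 h1 this.2.2 h2 y rfl
  -- the value at the base point
  have hDself : ∀ y, D y (C.p y) = y := by
    intro y
    have := hm (C.p y) (C.p y) (C.p_mem y) (C.p_mem y)
    rw [hD]
    exact C.back y _ this.1 this.2.1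
  -- with a common neighbour
  have hstep0 : ∀ y v' w u, Un q W v' → Un q W w → Un q W u → hermForm n F q v' (C.p y) = 0 →
      hermForm n F q u (C.p y) = 0 → hermForm n F q u v' = 0 → hermForm n F q u w = 0 →
      D (C.nb y v') w = D y w := by
    intro y v' w u hv' hw hu h1 h2 h3 h5
    rw [hD' y w u hw hu h2 h5, hD' (C.nb y v') w u hw hu (by rw [C.p_nb y v' hv' h1]; exact h3) h5,
      C.tri y v' u hv' hu h1 h2 h3]
  have hstep : ∀ y v' w, Un q W v' → Un q W w → hermForm n F q v' (C.p y) = 0 →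
      D (C.nb y v') w = D y w := by
    intro y v' w hv' hw h1
    obtain ⟨u, hu, hu1, hu2, hu3⟩ := exists_common3 hF hW h5 (C.p_mem y) hv' h1 hw.1
    exact hstep0 y v' w u hv' hw hu h1 hu1 hu2 hu3
  have hconst : ∀ w, Un q W w → D y' w = D y w := by
    intro w hw
    clear hp
    induction hyy with
    | refl => rfl
    | tail _ h1 ih =>
      obtain ⟨v', hv', h2, rfl⟩ := h1
      rw [hstep _ v' w hv' hw h2, ih]
  have h1 := hconst (C.p y) (C.p_mem y)
  rw [hDself y] at h1
  rw [← h1, hp, hDself]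

end Cov

end Cfsg.Agent.Phan
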