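import Cfsg.Agent.Phan.Ind

/-!
# Interval subgroups of `SU_n` are special unitary groups
-/

set_option autoImplicit false
set_option linter.unusedSectionVars false

namespace Cfsg.Agent.Phan

open Cfsg.Agent.Uni Module Matrix

variable {F : Type*} [Field F] [Fintype F] {q : ℕ} {n : ℕ}

/-- the matrix of an element of `SU` -/
abbrev mt (g : SU n F q) : Matrix (Fin n) (Fin n) F := (g : Matrix.SpecialLinearGroup (Fin n) F).1

theorem act_ee (g : SU n F q) (i k : Fin n) : act g (ee F i) k = mt g k i := by
  rw [act_def, mulVec_single_one']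

theorem mt_mul (g h : SU n F q) : mt (g * h) = mt g * mt h := rfl

theorem mt_one : mt (1 : SU n F q) = 1 := rfl

theorem mt_ext {g h : SU n F q} (H : mt g = mt h) : g = h := Subtype.ext (Subtype.ext H)

theorem mem_HH_iff_mt {S : Finset (Fin n)} {g : SU n F q} :
    g ∈ HH F q S ↔ ∀ i, i ∉ S → ∀ k, mt g k i = if k = i then 1 else 0 := by
  rw [mem_HH]
  refine forall_congr' fun i => imp_congr_right fun _ => ?_
  constructor
  · intro h k
    rw [← act_ee, h]
    exact Pi.single_apply _ _ _
  · intro h
    funext k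
    rw [act_ee, h]
    exact (Pi.single_apply _ _ _).symm

/-- rows of elements of coordinate subgroups -/
theorem mt_row (hF : Fintype.card F = q ^ 2) {S : Finset (Fin n)} {g : SU n F q}
    (hg : g ∈ HH F q S) {i : Fin n} (hi : i ∉ S) (k : Fin n) :
    mt g i k = if i = k then 1 else 0 := by
  by_cases hk : k ∈ S
  · rw [if_neg (by rintro rfl; exact hi hk), ← act_ee]
    exact act_mem_WS hF hg (ee_mem_WS hk) i hi
  · exact mem_HH_iff_mt.1 hg k hk i

section
variable {i m : ℕ} (him : i + m ≤ n)

include him in
/-- the inclusion of indices -/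
def ix (a : Fin m) : Fin n := ⟨i + a, by omega⟩

theorem ix_injective : Function.Injective (ix him) := by
  intro a b h
  have := congrArg Fin.val h
  simp only [ix] at this
  exact Fin.ext (by omega)

theorem ix_mem (a : Fin m) : ix him a ∈ iv n i m := by
  rw [mem_iv]; simp only [ix]; omega

theorem exists_ix {k : Fin n} (hk : k ∈ iv n i m) : ∃ a : Fin m, ix him a = k := by
  rw [mem_iv] at hk
  exact ⟨⟨k - i, by omega⟩, Fin.ext (by simp only [ix]; omega)⟩

theorem notMem_iff {k : Fin n} : k ∉ Set.range (ix him) ↔ k ∉ iv n i m := by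
  constructor
  · intro h hk
    exact h (exists_ix him hk)
  · rintro h ⟨a, rfl⟩
    exact h (ix_mem him a)

/-- extension of a matrix by the identity -/
def extM (M : Matrix (Fin m) (Fin m) F) : Matrix (Fin n) (Fin n) F := fun k l =>
  if h : (i ≤ (k : ℕ) ∧ (k : ℕ) < i + m) ∧ (i ≤ (l : ℕ) ∧ (l : ℕ) < i + m) then
    M ⟨k - i, by omega⟩ ⟨l - i, by omega⟩ else if k = l then 1 else 0

theorem extM_ix (M : Matrix (Fin m) (Fin m) F) (a b : Fin m) :
    extM (n := n) (i := i) M (ix him a) (ix him b) = M a b := by
  unfold extM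
  rw [dif_pos (by simp only [ix]; omega)]
  congr 1 <;> exact Fin.ext (by simp [ix])

theorem extM_off (M : Matrix (Fin m) (Fin m) F) {k l : Fin n} (h : k ∉ iv n i m ∨ l ∉ iv n i m) :
    extM (n := n) (i := i) M k l = if k = l then 1 else 0 := by
  unfold extM
  rw [dif_neg]
  rw [mem_iv, mem_iv] at h
  tauto

/-- determinant of a matrix which is the identity off the interval -/
theorem det_of_block (M : Matrix (Fin n) (Fin n) F)
    (h : ∀ k l, (k ∉ iv n i m ∨ l ∉ iv n i m) → M k l = if k = l then 1 else 0) :
    M.det = (M.submatrix (ix him) (ix him)).det := by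
  classical
  rw [Matrix.twoBlockTriangular_det M (fun k => k ∈ iv n i m)]
  · have h1 : (Matrix.toSquareBlockProp M fun k => ¬ k ∈ iv n i m) = 1 := by
      ext k l
      rw [Matrix.toSquareBlockProp_def]
      change M k.1 l.1 = _
      rw [h k.1 l.1 (Or.inl k.2), Matrix.one_apply]
      by_cases hkl : k = l
      · rw [if_pos hkl, if_pos (by rw [hkl])]
      · rw [if_neg hkl, if_neg (fun h => hkl (Subtype.ext h))]
    rw [h1, Matrix.det_one, mul_one]
    let e : Fin m ≃ {k : Fin n // k ∈ iv n i m} := Equiv.ofBijective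
      (fun a => ⟨ix him a, ix_mem him a⟩) ⟨fun a b hab => ix_injective him
        (congrArg Subtype.val hab), fun k => by
          obtain ⟨a, ha⟩ := exists_ix him k.2
          exact ⟨a, Subtype.ext ha⟩⟩
    have h2 : (M.submatrix (ix him) (ix him)) =
        (Matrix.toSquareBlockProp M fun k => k ∈ iv n i m).submatrix e e := rfl
    rw [h2]
    refine Eq.trans ?_
      (Matrix.det_submatrix_equiv_self e (Matrix.toSquareBlockProp M fun k => k ∈ iv n i m)).symm
    congr!
  · intro k hk l hl
    rw [h k l (Or.inl hk), if_neg]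
    rintro rfl
    exact hk hl

theorem pres_sub (hF : Fintype.card F = q ^ 2) {g : SU n F q} (hg : g ∈ HH F q (iv n i m)) :
    Pres q ((mt g).submatrix (ix him) (ix him)) := by
  refine (preserves_iff hF _).2 ?_
  intro a b
  have h1 := (preserves_iff hF _).1 (SU_pres g) (ix him a) (ix him b)
  have h2 : (if ix him a = ix him b then (1 : F) else 0) = if a = b then 1 else 0 := by
    by_cases h : a = b
    · rw [if_pos h, if_pos (by rw [h])]
    · rw [if_neg h, if_neg (fun h' => h (ix_injective him h'))]
  rw [h2] at h1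
  rw [← h1, hermForm_def, hermForm_def]
  refine Fintype.sum_of_injective (ix him) (ix_injective him) _ _ ?_ ?_
  · intro k hk
    have hk' := (notMem_iff him).1 hk
    change mt g k (ix him a) * mt g k (ix him b) ^ q = 0
    rw [mt_row hF hg hk', if_neg, zero_mul]
    rintro rfl
    exact hk' (ix_mem him a)
  · intro c; rfl

theorem det_sub (hF : Fintype.card F = q ^ 2) {g : SU n F q} (hg : g ∈ HH F q (iv n i m)) :
    ((mt g).submatrix (ix him) (ix him)).det = 1 := by
  rw [← det_of_block him (mt g)]
  · exact (g : Matrix.SpecialLinearGroup (Fin n) F).2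
  · rintro k l (h | h)
    · exact mt_row hF hg h l
    · exact mem_HH_iff_mt.1 hg l h k

include him in
theorem pres_ext (hF : Fintype.card F = q ^ 2) (x : SU m F q) :
    Pres q (extM (n := n) (i := i) (mt x)) := by
  refine (preserves_iff hF _).2 ?_
  intro k l
  by_cases hk : k ∈ iv n i m
  · obtain ⟨a, rfl⟩ := exists_ix him hk
    by_cases hl : l ∈ iv n i m
    · obtain ⟨b, rfl⟩ := exists_ix him hl
      have h1 := (preserves_iff hF _).1 (SU_pres x) a b
      have h2 : (if ix him a = ix him b then (1 : F) else 0) = if a = b then 1 else 0 := by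
        by_cases h : a = b
        · rw [if_pos h, if_pos (by rw [h])]
        · rw [if_neg h, if_neg (fun h' => h (ix_injective him h'))]
      rw [h2, ← h1, hermForm_def, hermForm_def]
      symm
      refine Fintype.sum_of_injective (ix him) (ix_injective him) _ _ ?_ ?_
      · intro k hk
        have hk' := (notMem_iff him).1 hk
        beta_reduce
        rw [extM_off _ (Or.inl hk'), if_neg, zero_mul]
        rintro rfl
        exact hk' (ix_mem him a)
      · intro c
        beta_reduce
        rw [extM_ix, extM_ix]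
    · rw [hermForm_def, Finset.sum_eq_zero, if_neg]
      · rintro rfl
        exact hl hk
      · intro r _
        beta_reduce
        rw [extM_off (l := l) _ (Or.inr hl)]
        by_cases hrl : r = l
        · subst hrl
          rw [extM_off _ (Or.inl hl), if_neg, zero_mul]
          rintro rfl
          exact hl hk
        · rw [if_neg hrl, zero_pow (q_ne_zero hF), mul_zero]
  · rw [hermForm_def, Finset.sum_eq_single k]
    · beta_reduce
      rw [extM_off _ (Or.inl hk), extM_off _ (Or.inl hk), if_pos rfl, one_mul]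
      by_cases hkl : k = l
      · rw [if_pos hkl, one_pow]
      · rw [if_neg hkl, zero_pow (q_ne_zero hF)]
    · intro r _ hr
      beta_reduce
      rw [extM_off (k := r) (l := k) _ (Or.inr hk), if_neg hr, zero_mul]
    · intro h; exact absurd (Finset.mem_univ k) h

include him in
theorem det_ext (x : SU m F q) : (extM (n := n) (i := i) (mt x)).det = 1 := by
  rw [det_of_block him _ (fun k l h => extM_off _ h)]
  have : (extM (n := n) (i := i) (mt x)).submatrix (ix him) (ix him) = mt x := by
    ext a b
    rw [Matrix.submatrix_apply, extM_ix]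
  rw [this]
  exact (x : Matrix.SpecialLinearGroup (Fin m) F).2

/-- **The interval subgroup is a special unitary group.** -/
noncomputable def kap (hF : Fintype.card F = q ^ 2) : HH F q (iv n i m) ≃* SU m F q where
  toFun g := mkSU ((mt (g : SU n F q)).submatrix (ix him) (ix him)) (pres_sub him hF g.2)
    (det_sub him hF g.2)
  invFun x := ⟨mkSU (extM (mt x)) (pres_ext him hF x) (det_ext him x), by
    rw [mem_HH_iff_mt]
    intro l hl k
    exact extM_off _ (Or.inr hl)⟩
  left_inv g := by
    apply Subtype.ext
    apply mt_ext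
    ext k l
    change extM ((mt (g : SU n F q)).submatrix (ix him) (ix him)) k l = mt (g : SU n F q) k l
    by_cases hk : k ∈ iv n i m
    · by_cases hl : l ∈ iv n i m
      · obtain ⟨a, rfl⟩ := exists_ix him hk
        obtain ⟨b, rfl⟩ := exists_ix him hl
        rw [extM_ix]; rfl
      · rw [extM_off _ (Or.inr hl), mem_HH_iff_mt.1 g.2 l hl k]
    · rw [extM_off _ (Or.inl hk), mt_row hF g.2 hk l]
  right_inv x := by
    apply mt_ext
    ext a b
    change extM (mt x) (ix him a) (ix him b) = mt x a b
    rw [extM_ix]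
  map_mul' g h := by
    apply mt_ext
    ext a b
    change (mt (g : SU n F q) * mt (h : SU n F q)) (ix him a) (ix him b) =
      (((mt (g : SU n F q)).submatrix (ix him) (ix him)) *
        ((mt (h : SU n F q)).submatrix (ix him) (ix him))) a b
    rw [Matrix.mul_apply, Matrix.mul_apply]
    symm
    refine Fintype.sum_of_injective (ix him) (ix_injective him) _ _ ?_ ?_
    · intro k hk
      have hk' := (notMem_iff him).1 hk
      rw [mt_row hF h.2 hk', if_neg, mul_zero]
      rintro rfl
      exact hk' (ix_mem him b)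
    · intro c; rfl

theorem kap_apply (hF : Fintype.card F = q ^ 2) (g : HH F q (iv n i m)) (a b : Fin m) :
    mt (kap him hF g) a b = mt (g : SU n F q) (ix him a) (ix him b) := rfl

/-- Membership in smaller coordinate subgroups is preserved. -/
theorem kap_mem_iff (hF : Fintype.card F = q ^ 2) (g : HH F q (iv n i m)) {T : Finset (Fin m)}
    {S : Finset (Fin n)} (hST : ∀ a, ix him a ∈ S ↔ a ∈ T) :
    kap him hF g ∈ HH F q T ↔ (g : SU n F q) ∈ HH F q S := by
  rw [mem_HH_iff_mt, mem_HH_iff_mt]
  constructor
  · intro h l hl k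
    by_cases hl' : l ∈ iv n i m
    · obtain ⟨b, rfl⟩ := exists_ix him hl'
      by_cases hk' : k ∈ iv n i m
      · obtain ⟨a, rfl⟩ := exists_ix him hk'
        have := h b (fun hb => hl ((hST b).2 hb)) a
        rw [kap_apply] at this
        rw [this]
        by_cases hab : a = b
        · rw [if_pos hab, if_pos (by rw [hab])]
        · rw [if_neg hab, if_neg (fun h => hab (ix_injective him h))]
      · exact mt_row hF g.2 hk' _
    · exact mem_HH_iff_mt.1 g.2 l hl' k
  · intro h b hb a
    rw [kap_apply, h (ix him b) (fun h' => hb ((hST b).1 h'))]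
    by_cases hab : a = b
    · rw [if_pos hab, if_pos (by rw [hab])]
    · rw [if_neg hab, if_neg (fun h => hab (ix_injective him h))]

end

/-! ### The twisting automorphisms -/

/-- `g ↦ D τ(g) D⁻¹` with `D = diag(.., c, ..)` (entry `c` at `j`). -/
noncomputable def twM (d : Fin n → F) (τ : F ≃+* F) (M : Matrix (Fin n) (Fin n) F) :
    Matrix (Fin n) (Fin n) F := Matrix.diagonal d * M.map τ * Matrix.diagonal (fun k => (d k)⁻¹)

theorem twM_apply (d : Fin n → F) (τ : F ≃+* F) (M : Matrix (Fin n) (Fin n) F) (k l : Fin n) :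
    twM d τ M k l = d k * τ (M k l) * (d l)⁻¹ := by
  unfold twM
  rw [Matrix.mul_diagonal, Matrix.diagonal_mul, Matrix.map_apply]

theorem det_twM {d : Fin n → F} (hd : ∀ k, d k ≠ 0) (τ : F ≃+* F) (M : Matrix (Fin n) (Fin n) F) :
    (twM d τ M).det = τ M.det := by
  unfold twM
  rw [Matrix.det_mul, Matrix.det_mul, Matrix.det_diagonal, Matrix.det_diagonal, mul_right_comm,
    ← Finset.prod_mul_distrib]
  rw [Finset.prod_congr rfl (fun k _ => mul_inv_cancel₀ (hd k)), Finset.prod_const_one, one_mul]
  have : M.map τ = (τ : F →+* F).mapMatrix M := rfl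
  rw [this, ← RingHom.map_det]
  rfl

theorem pres_twM (hF : Fintype.card F = q ^ 2) {d : Fin n → F} (hd : ∀ k, d k ^ (q + 1) = 1)
    (τ : F ≃+* F) {M : Matrix (Fin n) (Fin n) F} (hM : Pres q M) : Pres q (twM d τ M) := by
  refine (preserves_iff hF _).2 ?_
  intro k l
  have h1 := (preserves_iff hF _).1 hM k l
  rw [hermForm_def] at h1 ⊢
  have h2 : ∀ r, twM d τ M r k * twM d τ M r l ^ q =
      ((d k)⁻¹ * ((d l)⁻¹) ^ q) * τ (M r k * M r l ^ q) := by
    intro r
    rw [twM_apply, twM_apply, mul_pow, mul_pow, map_mul, map_pow]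
    linear_combination ((d k)⁻¹ * ((d l)⁻¹) ^ q * τ (M r k) * τ (M r l) ^ q) * hd r
  rw [Finset.sum_congr rfl (fun r _ => h2 r), ← Finset.mul_sum, ← map_sum, h1]
  by_cases hkl : k = l
  · rw [if_pos hkl, map_one, mul_one, hkl, ← pow_succ', inv_pow, hd, inv_one]
  · rw [if_neg hkl, map_zero, mul_zero]

theorem d_ne_zero {d : Fin n → F} (hd : ∀ k, d k ^ (q + 1) = 1) (k : Fin n) : d k ≠ 0 := by
  intro h
  have := hd k
  rw [h, zero_pow (by omega)] at this
  exact zero_ne_one this

/-- The twisting automorphism. -/
noncomputable def tw (hF : Fintype.card F = q ^ 2) {d : Fin n → F} (hd : ∀ k, d k ^ (q + 1) = 1)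
    (τ : F ≃+* F) : SU n F q ≃* SU n F q where
  toFun g := mkSU (twM d τ (mt g)) (pres_twM hF hd τ (SU_pres g)) (by
    rw [det_twM (d_ne_zero hd), show (mt g).det = 1 from g.1.2, map_one])
  invFun g := mkSU (twM (fun k => τ.symm (d k)⁻¹) τ.symm (mt g)) (pres_twM hF (fun k => by
      rw [← map_pow, inv_pow, hd, inv_one, map_one]) τ.symm (SU_pres g)) (by
    rw [det_twM (d_ne_zero (q := q) (fun k => by
      rw [← map_pow, inv_pow, hd, inv_one, map_one])), show (mt g).det = 1 from g.1.2, map_one])
  left_inv g := by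
    apply mt_ext
    ext k l
    change twM _ _ (twM d τ (mt g)) k l = mt g k l
    rw [twM_apply, twM_apply]
    have h1 := d_ne_zero hd k
    have h2 := d_ne_zero hd l
    rw [map_mul, map_mul, RingEquiv.symm_apply_apply, map_inv₀, map_inv₀]
    have h3 : τ.symm (d k) ≠ 0 := by simpa using h1
    have h4 : τ.symm (d l) ≠ 0 := by simpa using h2
    field_simp
  right_inv g := by
    apply mt_ext
    ext k l
    change twM d τ (twM _ _ (mt g)) k l = mt g k l
    rw [twM_apply, twM_apply]
    have h1 := d_ne_zero hd k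
    have h2 := d_ne_zero hd l
    simp only [map_mul, map_inv₀, RingEquiv.apply_symm_apply]
    field_simp
  map_mul' g h := by
    apply mt_ext
    change twM d τ (mt g * mt h) = twM d τ (mt g) * twM d τ (mt h)
    unfold twM
    have h1 : Matrix.diagonal (fun k => (d k)⁻¹) * Matrix.diagonal d = (1 : Matrix (Fin n) (Fin n) F) := by
      rw [Matrix.diagonal_mul_diagonal]
      rw [← Matrix.diagonal_one]
      congr 1
      funext k
      exact inv_mul_cancel₀ (d_ne_zero hd k)
    have h2 : (mt g * mt h).map τ = (mt g).map τ * (mt h).map τ :=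
      Matrix.map_mul (f := (τ : F →+* F))
    rw [h2]
    calc Matrix.diagonal d * ((mt g).map τ * (mt h).map τ) * Matrix.diagonal (fun k => (d k)⁻¹)
        = Matrix.diagonal d * (mt g).map τ * 1 * (mt h).map τ * Matrix.diagonal (fun k => (d k)⁻¹) := by
          simp only [Matrix.mul_assoc, Matrix.one_mul]
      _ = _ := by rw [← h1]; simp only [Matrix.mul_assoc]

theorem tw_apply (hF : Fintype.card F = q ^ 2) {d : Fin n → F} (hd : ∀ k, d k ^ (q + 1) = 1)
    (τ : F ≃+* F) (g : SU n F q) (k l : Fin n) :
    mt (tw hF hd τ g) k l = d k * τ (mt g k l) * (d l)⁻¹ := twM_apply d τ _ k l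

theorem tw_mem_iff (hF : Fintype.card F = q ^ 2) {d : Fin n → F} (hd : ∀ k, d k ^ (q + 1) = 1)
    (τ : F ≃+* F) (g : SU n F q) (S : Finset (Fin n)) :
    tw hF hd τ g ∈ HH F q S ↔ g ∈ HH F q S := by
  rw [mem_HH_iff_mt, mem_HH_iff_mt]
  refine forall_congr' fun l => imp_congr_right fun _ => forall_congr' fun k => ?_
  rw [tw_apply]
  have h1 := d_ne_zero hd k
  have h2 := d_ne_zero hd l
  by_cases hkl : k = l
  · subst hkl
    simp only [if_true]
    constructor
    · intro h
      have h3 : τ (mt g k k) = 1 := by field_simp at h; exact h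
      exact τ.injective (h3.trans (map_one τ).symm)
    · intro h
      rw [h, map_one, mul_one, mul_inv_cancel₀ h1]
  · simp only [if_neg hkl]
    constructor
    · intro h
      have h3 : τ (mt g k l) = 0 := by
        rcases mul_eq_zero.1 h with h | h
        · exact (mul_eq_zero.1 h).resolve_left h1
        · exact absurd h (inv_ne_zero h2)
      exact (map_eq_zero_iff τ τ.injective).1 h3
    · intro h
      rw [h, map_zero, mul_zero, zero_mul]

end Cfsg.Agent.Phan
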