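import Cfsg.Agent.Uni.Sub

/-!
# Orthogonality graph of unit vectors of a nondegenerate Hermitian space (for Phan systems)
-/

set_option autoImplicit false
set_option linter.unusedSectionVars false

namespace Cfsg.Agent.Phan

open Cfsg.Agent.Uni Module

variable {F : Type*} [Field F] [Fintype F] {q : ℕ} {n : ℕ}

local notation "h⟪" x ", " y "⟫" => hermForm _ _ _ x y

/-- Unit vectors of a subspace. -/
def Un (q : ℕ) (W : Submodule F (Fin n → F)) (x : Fin n → F) : Prop :=
  x ∈ W ∧ hermForm n F q x x = 1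

theorem Un.mem {W : Submodule F (Fin n → F)} {x : Fin n → F} (h : Un q W x) : x ∈ W := h.1

theorem Un.ne_zero {W : Submodule F (Fin n → F)} {x : Fin n → F} (h : Un q W x) : x ≠ 0 := by
  rintro rfl
  have := h.2
  rw [hermForm_zero_left] at this
  exact zero_ne_one this

theorem Un.mono {W W' : Submodule F (Fin n → F)} (hW : W ≤ W') {x : Fin n → F} (h : Un q W x) :
    Un q W' x := ⟨hW h.1, h.2⟩

/-- The part of `W` orthogonal to `v`. -/
def pp (q : ℕ) (W : Submodule F (Fin n → F)) (v : Fin n → F) : Submodule F (Fin n → F) :=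
  W ⊓ perp q (Submodule.span F {v})

theorem mem_pp (hF : Fintype.card F = q ^ 2) {W : Submodule F (Fin n → F)} {v x : Fin n → F} :
    x ∈ pp q W v ↔ x ∈ W ∧ hermForm n F q x v = 0 := by
  unfold pp
  rw [Submodule.mem_inf, mem_perp_span hF]
  simp

theorem pp_le (W : Submodule F (Fin n → F)) (v : Fin n → F) : pp q W v ≤ W := inf_le_left

theorem nd_pp (hF : Fintype.card F = q ^ 2) {W : Submodule F (Fin n → F)} (hW : ND q W)
    {v : Fin n → F} (hv : Un q W v) : ND q (pp q W v) :=
  hW.inf_perp hF (nd_span_unit (by rw [hv.2]; exact one_ne_zero))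
    ((Submodule.span_singleton_le_iff_mem _ _).2 hv.1)

theorem finrank_pp (hF : Fintype.card F = q ^ 2) {W : Submodule F (Fin n → F)}
    {v : Fin n → F} (hv : Un q W v) : finrank F (pp q W v) + 1 = finrank F W := by
  have h := finrank_inf_perp hF (W := W) (U := Submodule.span F {v})
    (nd_span_unit (by rw [hv.2]; exact one_ne_zero))
    ((Submodule.span_singleton_le_iff_mem _ _).2 hv.1)
  rw [finrank_span_singleton hv.ne_zero] at h
  exact h

theorem exists_un (hF : Fintype.card F = q ^ 2) {W : Submodule F (Fin n → F)} (hW : ND q W)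
    (h : 1 ≤ finrank F W) : ∃ u, Un q W u := by
  obtain ⟨u, hu, hu1⟩ := hW.exists_unit hF (by
    rintro rfl
    rw [finrank_bot] at h
    omega)
  exact ⟨u, hu, hu1⟩

theorem form_comm (hF : Fintype.card F = q ^ 2) {x y : Fin n → F} (h : hermForm n F q x y = 0) :
    hermForm n F q y x = 0 := (hermForm_eq_zero_comm hF).1 h

/-- Projection to the complement of a unit vector. -/
theorem sub_mem_pp (hF : Fintype.card F = q ^ 2) {W : Submodule F (Fin n → F)}
    {v x : Fin n → F} (hv : Un q W v) (hx : x ∈ W) :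
    x - hermForm n F q x v • v ∈ pp q W v := by
  rw [mem_pp hF]
  refine ⟨W.sub_mem hx (W.smul_mem _ hv.1), ?_⟩
  rw [hermForm_sub_left, hermForm_smul_left, hv.2, mul_one, sub_self]

theorem exists_scale (hF : Fintype.card F = q ^ 2) {W : Submodule F (Fin n → F)}
    {x : Fin n → F} (hx : x ∈ W) (h : hermForm n F q x x ≠ 0) :
    ∃ c : F, c ≠ 0 ∧ Un q W (c • x) := by
  obtain ⟨c, hc, hcW, hc1⟩ := exists_unit_of_ne_zero hF W hx h
  exact ⟨c, hc, hcW, hc1⟩

theorem exists_hypW (hF : Fintype.card F = q ^ 2) {W : Submodule F (Fin n → F)} (hW : ND q W)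
    {r : Fin n → F} (hr : r ∈ W) (hr0 : r ≠ 0) (hrr : hermForm n F q r r = 0) :
    ∃ s ∈ W, Hyp q r s := by
  have : ∃ x ∈ W, hermForm n F q r x ≠ 0 := by
    by_contra hcon
    push Not at hcon
    exact hr0 (hW r hr hcon)
  obtain ⟨x, hx, hrx⟩ := this
  obtain ⟨c, d, _, h1, h2⟩ := exists_hyp hF hrr hrx
  exact ⟨c • x + d • r, W.add_mem (W.smul_mem _ hx) (W.smul_mem _ hr), hrr, h1, h2⟩

/-- The part of `W` orthogonal to two vectors. -/
def pp2 (q : ℕ) (W : Submodule F (Fin n → F)) (u v : Fin n → F) : Submodule F (Fin n → F) :=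
  W ⊓ perp q (Submodule.span F {u, v})

theorem mem_pp2 (hF : Fintype.card F = q ^ 2) {W : Submodule F (Fin n → F)} {u v x : Fin n → F} :
    x ∈ pp2 q W u v ↔ x ∈ W ∧ hermForm n F q x u = 0 ∧ hermForm n F q x v = 0 := by
  unfold pp2
  rw [Submodule.mem_inf, Hyp.mem_perp_iff hF]

theorem nd_pp2 (hF : Fintype.card F = q ^ 2) {W : Submodule F (Fin n → F)} (hW : ND q W)
    {r s : Fin n → F} (hr : r ∈ W) (hs : s ∈ W) (h : Hyp q r s) : ND q (pp2 q W r s) :=
  hW.inf_perp hF (h.nd hF) (by
    rw [Submodule.span_le]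
    rintro x (rfl | rfl)
    · exact hr
    · exact hs)

theorem finrank_pp2 (hF : Fintype.card F = q ^ 2) {W : Submodule F (Fin n → F)}
    {r s : Fin n → F} (hr : r ∈ W) (hs : s ∈ W) (h : Hyp q r s) :
    finrank F (pp2 q W r s) + 2 = finrank F W := by
  have h1 := finrank_inf_perp hF (W := W) (U := Submodule.span F {r, s}) (h.nd hF) (by
    rw [Submodule.span_le]
    rintro x (rfl | rfl)
    · exact hr
    · exact hs)
  rw [h.finrank hF] at h1
  exact h1

/-- A unit vector orthogonal to a given one. -/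
theorem exists_un_perp (hF : Fintype.card F = q ^ 2) {W : Submodule F (Fin n → F)} (hW : ND q W)
    (h3 : 3 ≤ finrank F W) {x : Fin n → F} (hx : x ∈ W) :
    ∃ u, Un q W u ∧ hermForm n F q u x = 0 := by
  by_cases hxx : hermForm n F q x x = 0
  · by_cases hx0 : x = 0
    · obtain ⟨u, hu⟩ := exists_un hF hW (by omega)
      exact ⟨u, hu, by rw [hx0, hermForm_zero_right hF]⟩
    · obtain ⟨s, hs, hrs⟩ := exists_hypW hF hW hx hx0 hxx
      have h1 := finrank_pp2 hF hx hs hrs
      obtain ⟨u, hu, hu1⟩ := exists_un hF (nd_pp2 hF hW hx hs hrs) (by omega)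
      rw [mem_pp2 hF] at hu
      exact ⟨u, ⟨hu.1, hu1⟩, hu.2.1⟩
  · obtain ⟨c, hc, hcx⟩ := exists_scale hF hx hxx
    have h1 := finrank_pp hF hcx
    obtain ⟨u, hu, hu1⟩ := exists_un hF (nd_pp hF hW hcx) (by omega)
    rw [mem_pp hF] at hu
    refine ⟨u, ⟨hu.1, hu1⟩, ?_⟩
    have := hu.2
    rw [hermForm_smul_right, mul_eq_zero] at this
    rcases this with h | h
    · exact absurd h (pow_ne_zero _ hc)
    · exact h

/-- The same in dimension at least two for a vector that is zero or non-isotropic. -/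
theorem exists_un_perp' (hF : Fintype.card F = q ^ 2) {W : Submodule F (Fin n → F)} (hW : ND q W)
    (h3 : 2 ≤ finrank F W) {x : Fin n → F} (hx : x ∈ W)
    (hx' : x = 0 ∨ hermForm n F q x x ≠ 0) :
    ∃ u, Un q W u ∧ hermForm n F q u x = 0 := by
  rcases hx' with hx0 | hxx
  · obtain ⟨u, hu⟩ := exists_un hF hW (by omega)
    exact ⟨u, hu, by rw [hx0, hermForm_zero_right hF]⟩
  · obtain ⟨c, hc, hcx⟩ := exists_scale hF hx hxx
    have h1 := finrank_pp hF hcx
    obtain ⟨u, hu, hu1⟩ := exists_un hF (nd_pp hF hW hcx) (by omega)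
    rw [mem_pp hF] at hu
    refine ⟨u, ⟨hu.1, hu1⟩, ?_⟩
    have := hu.2
    rw [hermForm_smul_right, mul_eq_zero] at this
    rcases this with h | h
    · exact absurd h (pow_ne_zero _ hc)
    · exact h

/-- The position of two unit vectors: the second lies in a nondegenerate plane through the first,
or the two span a degenerate plane. -/
theorem pair_cases (hF : Fintype.card F = q ^ 2) {W : Submodule F (Fin n → F)}
    {v w : Fin n → F} (hv : Un q W v) (hw : Un q W w) :
    (∃ c : F, c ≠ 0 ∧ w = c • v) ∨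
    (∃ f : Fin n → F, ∃ a b : F, Un q W f ∧ hermForm n F q f v = 0 ∧ b ≠ 0 ∧ w = a • v + b • f) ∨
    (∃ r : Fin n → F, ∃ a : F, r ∈ W ∧ r ≠ 0 ∧ hermForm n F q r r = 0 ∧
      hermForm n F q r v = 0 ∧ a * a ^ q = 1 ∧ w = a • v + r) := by
  have hr := sub_mem_pp hF hv hw.1
  obtain ⟨r, hrdef⟩ : ∃ r, r = w - hermForm n F q w v • v := ⟨_, rfl⟩
  obtain ⟨a, hadef⟩ : ∃ a, a = hermForm n F q w v := ⟨_, rfl⟩
  rw [← hrdef, mem_pp hF] at hr
  have hwr : w = a • v + r := by rw [hrdef, hadef]; abel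
  have hvr := form_comm hF hr.2
  have hww : a * a ^ q + hermForm n F q r r = 1 := by
    have := hw.2
    rw [hwr, hermForm_add_left, hermForm_add_right hF, hermForm_add_right hF,
      hermForm_smul_left, hermForm_smul_left, hermForm_smul_right, hermForm_smul_right, hv.2,
      hvr, hr.2] at this
    linear_combination this
  by_cases hr0 : r = 0
  · left
    refine ⟨a, ?_, by rw [hwr, hr0, add_zero]⟩
    rintro rfl
    apply hw.ne_zero
    rw [hwr, hr0, zero_smul, add_zero]
  · by_cases hrr : hermForm n F q r r = 0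
    · right; right
      exact ⟨r, a, hr.1, hr0, hrr, hr.2, by rw [hrr, add_zero] at hww; exact hww, hwr⟩
    · right; left
      obtain ⟨c, hc, hcr⟩ := exists_scale hF hr.1 hrr
      refine ⟨c • r, a, c⁻¹, hcr, ?_, inv_ne_zero hc, ?_⟩
      · rw [hermForm_smul_left, hr.2, mul_zero]
      · rw [smul_smul, inv_mul_cancel₀ hc, one_smul, hwr]

/-- Connectivity by orthogonal steps. -/
def Conn (q : ℕ) (W : Submodule F (Fin n → F)) : Prop :=
  ∀ u u', Un q W u → Un q W u' →
    Relation.ReflTransGen (fun x y => Un q W x ∧ Un q W y ∧ hermForm n F q x y = 0) u u'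

theorem exists_fixed_ne (hF : Fintype.card F = q ^ 2) (S : Finset F) (hS : S.card < q) :
    ∃ t : F, t ^ q = t ∧ t ∉ S := by
  classical
  by_contra hcon
  push Not at hcon
  have h1 := card_fixed hF
  have h2 : Nat.card {c : F // c ^ q = c} ≤ Nat.card S :=
    Nat.card_le_card_of_injective (fun c => (⟨c.1, hcon _ c.2⟩ : S)) (by
      intro a b hab
      exact Subtype.ext (congrArg (fun z : S => (z : F)) hab))
  rw [Nat.card_eq_fintype_card (α := S), Fintype.card_coe] at h2
  omega

theorem Conn.symmStep (hF : Fintype.card F = q ^ 2) {W : Submodule F (Fin n → F)}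
    {x y : Fin n → F} (h : Relation.ReflTransGen
      (fun x y => Un q W x ∧ Un q W y ∧ hermForm n F q x y = 0) x y) :
    Relation.ReflTransGen (fun x y => Un q W x ∧ Un q W y ∧ hermForm n F q x y = 0) y x := by
  induction h with
  | refl => exact .refl
  | tail _ h1 ih => exact .head ⟨h1.2.1, h1.1, form_comm hF h1.2.2⟩ ih

/-- If the second vector lies in the span of the first and a vector `f`, a common perp exists. -/
theorem common_perp (hF : Fintype.card F = q ^ 2) {W : Submodule F (Fin n → F)} (hW : ND q W)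
    (h3 : 3 ≤ finrank F W) {u f : Fin n → F} (hu : Un q W u) (hf : Un q W f)
    (hfu : hermForm n F q f u = 0) {a b : F} :
    ∃ x, Un q W x ∧ hermForm n F q x u = 0 ∧ hermForm n F q x f = 0 ∧
      hermForm n F q x (a • u + b • f) = 0 := by
  have h1 := finrank_pp hF hu
  have hf' : Un q (pp q W u) f := ⟨(mem_pp hF).2 ⟨hf.1, hfu⟩, hf.2⟩
  have h2 := finrank_pp hF hf'
  obtain ⟨x, hx⟩ := exists_un hF (nd_pp hF (nd_pp hF hW hu) hf') (by omega)
  have hxm := hx.1
  rw [mem_pp hF, mem_pp hF] at hxm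
  refine ⟨x, ⟨hxm.1.1, hx.2⟩, hxm.1.2, hxm.2, ?_⟩
  rw [hermForm_add_right hF, hermForm_smul_right, hermForm_smul_right, hxm.1.2, hxm.2]
  ring

/-- Connectivity in dimension at least three (`q ≥ 3`). -/
theorem conn_of_three (hF : Fintype.card F = q ^ 2) (hq : 3 ≤ q) {W : Submodule F (Fin n → F)}
    (hW : ND q W) (h3 : 3 ≤ finrank F W) : Conn q W := by
  classical
  -- two vectors with a common perp are connected
  have key : ∀ x u u' : Fin n → F, Un q W x → Un q W u → Un q W u' →
      hermForm n F q x u = 0 → hermForm n F q x u' = 0 → Relation.ReflTransGen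
      (fun x y => Un q W x ∧ Un q W y ∧ hermForm n F q x y = 0) u u' := by
    intro x u u' hx hu hu' h1 h2
    exact .tail (.single ⟨hu, hx, form_comm hF h1⟩) ⟨hx, hu', h2⟩
  -- pairs with `N(u,u') ≠ 1`, or proportional
  have key2 : ∀ u u' : Fin n → F, Un q W u → Un q W u' →
      hermForm n F q u' u * hermForm n F q u' u ^ q ≠ 1 → Relation.ReflTransGen
      (fun x y => Un q W x ∧ Un q W y ∧ hermForm n F q x y = 0) u u' := by
    intro u u' hu hu' hne
    rcases pair_cases hF hu hu' with ⟨c, hc, rfl⟩ | ⟨f, a, b, hf, hfu, hb, rfl⟩ |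
      ⟨r, a, hr, hr0, hrr, hru, ha, rfl⟩
    · obtain ⟨x, hx, hxu⟩ := exists_un_perp hF hW h3 hu.1
      refine key x _ _ hx hu hu' hxu ?_
      rw [hermForm_smul_right, hxu, mul_zero]
    · obtain ⟨x, hx, hxu, _, hxab⟩ := common_perp hF hW h3 (a := a) (b := b) hu hf hfu
      exact key x _ _ hx hu hu' hxu hxab
    · exfalso
      apply hne
      rw [hermForm_add_left, hermForm_smul_left, hu.2, hru]
      simpa using ha
  intro u u' hu hu'
  rcases pair_cases hF hu hu' with ⟨c, hc, rfl⟩ | ⟨f, a, b, hf, hfu, hb, rfl⟩ |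
    ⟨r, a, hr, hr0, hrr, hru, ha, hu'eq⟩
  · obtain ⟨x, hx, hxu⟩ := exists_un_perp hF hW h3 hu.1
    refine key x _ _ hx hu hu' hxu ?_
    rw [hermForm_smul_right, hxu, mul_zero]
  · obtain ⟨x, hx, hxu, _, hxab⟩ := common_perp hF hW h3 (a := a) (b := b) hu hf hfu
    exact key x _ _ hx hu hu' hxu hxab
  · -- degenerate pair
    have hr' : r ∈ pp q W u := (mem_pp hF).2 ⟨hr, hru⟩
    obtain ⟨s, hs, hrs⟩ := exists_hypW hF (nd_pp hF hW hu) hr' hr0 hrr
    rw [mem_pp hF] at hs
    obtain ⟨t, ht, htS⟩ := exists_fixed_ne hF ({0, 1} : Finset F) (by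
      refine lt_of_le_of_lt (Finset.card_insert_le _ _) ?_
      rw [Finset.card_singleton]; omega)
    simp only [Finset.mem_insert, Finset.mem_singleton, not_or] at htS
    obtain ⟨c, hc⟩ := exists_trace_eq hF ht
    obtain ⟨x, hxdef⟩ : ∃ x, x = c • r + s := ⟨_, rfl⟩
    have hsr := (hrs.symm hF).2.2
    have hxW : x ∈ W := by rw [hxdef]; exact W.add_mem (W.smul_mem _ hr) hs.1
    have hxx : hermForm n F q x x = t := by
      rw [hxdef, hermForm_add_left, hermForm_add_right hF, hermForm_add_right hF,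
        hermForm_smul_left, hermForm_smul_left, hermForm_smul_right, hermForm_smul_right,
        hrr, hrs.2.2, hsr, hrs.2.1]
      linear_combination hc
    obtain ⟨d, hd, hdx⟩ := exists_scale hF hxW (by rw [hxx]; exact htS.1)
    have hxu : hermForm n F q (d • x) u = 0 := by
      rw [hermForm_smul_left, hxdef, hermForm_add_left, hermForm_smul_left, hru, hs.2]
      ring
    have hd2 : d * d ^ q * t = 1 := by
      have := hdx.2
      rw [hermForm_smul_left, hermForm_smul_right, hxx] at this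
      linear_combination this
    refine .trans (.single ⟨hu, hdx, form_comm hF hxu⟩) (key2 _ _ hdx hu' ?_)
    rw [hu'eq]
    have h1 : hermForm n F q (a • u + r) (d • x) = d ^ q := by
      rw [hermForm_add_left, hermForm_smul_left, form_comm hF hxu, hermForm_smul_right, hxdef,
        hermForm_add_right hF, hermForm_smul_right, hrr, hrs.2.2]
      ring
    rw [h1, pow_q_pow_q hF]
    intro h2
    apply htS.2
    have : d * d ^ q = 1 := by rw [mul_comm]; exact h2
    rw [this, one_mul] at hd2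
    exact hd2

/-- Connectivity passes to the orthogonal sum with a totally isotropic part. -/
theorem conn_radical (hF : Fintype.card F = q ^ 2) {W Z : Submodule F (Fin n → F)}
    (hW : ND q W) (h2 : 2 ≤ finrank F W) (hWZ : W ≤ Z) (hc : Conn q W)
    (hZ : ∀ z ∈ Z, ∃ w ∈ W, (∀ y ∈ W, hermForm n F q z y = hermForm n F q w y) ∧
      hermForm n F q z z = hermForm n F q w w) : Conn q Z := by
  have key : ∀ u, Un q Z u → ∃ w, Un q W w ∧ Relation.ReflTransGen
      (fun x y => Un q Z x ∧ Un q Z y ∧ hermForm n F q x y = 0) u w := by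
    intro u hu
    obtain ⟨w, hw, h1, h3⟩ := hZ u hu.1
    have hw1 : Un q W w := ⟨hw, by rw [← h3]; exact hu.2⟩
    obtain ⟨x, hx, hxw⟩ := exists_un_perp' hF hW h2 hw (Or.inr (by rw [hw1.2]; exact one_ne_zero))
    refine ⟨w, hw1, .tail (.single (b := x) ⟨hu, hx.mono hWZ, ?_⟩) ⟨hx.mono hWZ, hw1.mono hWZ, hxw⟩⟩
    rw [h1 x hx.1]
    exact form_comm hF hxw
  intro u u' hu hu'
  obtain ⟨w, hw, huw⟩ := key u hu
  obtain ⟨w', hw', huw'⟩ := key u' hu'
  refine huw.trans (.trans ?_ (Conn.symmStep hF huw'))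
  exact Relation.ReflTransGen.mono (fun x y h => ⟨h.1.mono hWZ, h.2.1.mono hWZ, h.2.2⟩) _ _
    (hc w w' hw hw')

/-- A unit vector orthogonal to two unit vectors in dimension at least four. -/
theorem exists_common (hF : Fintype.card F = q ^ 2) {W : Submodule F (Fin n → F)} (hW : ND q W)
    (h4 : 4 ≤ finrank F W) {v w : Fin n → F} (hv : Un q W v) (hw : w ∈ W) :
    ∃ u, Un q W u ∧ hermForm n F q u v = 0 ∧ hermForm n F q u w = 0 := by
  have h1 := finrank_pp hF hv
  obtain ⟨u, hu, hux⟩ := exists_un_perp hF (nd_pp hF hW hv) (by omega) (sub_mem_pp hF hv hw)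
  have hu' := (mem_pp hF).1 hu.1
  refine ⟨u, ⟨hu'.1, hu.2⟩, hu'.2, ?_⟩
  rw [hermForm_sub_right hF, hermForm_smul_right, hu'.2] at hux
  linear_combination hux

/-- A unit vector orthogonal to an orthonormal pair and a third vector, dimension at least five. -/
theorem exists_common3 (hF : Fintype.card F = q ^ 2) {W : Submodule F (Fin n → F)} (hW : ND q W)
    (h5 : 5 ≤ finrank F W) {v v' w : Fin n → F} (hv : Un q W v) (hv' : Un q W v')
    (hvv : hermForm n F q v' v = 0) (hw : w ∈ W) :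
    ∃ u, Un q W u ∧ hermForm n F q u v = 0 ∧ hermForm n F q u v' = 0 ∧
      hermForm n F q u w = 0 := by
  have h1 := finrank_pp hF hv
  obtain ⟨u, hu, hux, huw⟩ := exists_common hF (nd_pp hF hW hv) (by omega)
    (v := v') ⟨(mem_pp hF).2 ⟨hv'.1, hvv⟩, hv'.2⟩ (sub_mem_pp hF hv hw)
  have hu' := (mem_pp hF).1 hu.1
  refine ⟨u, ⟨hu'.1, hu.2⟩, hu'.2, hux, ?_⟩
  rw [hermForm_sub_right hF, hermForm_smul_right, hu'.2] at huw
  linear_combination huw

theorem form_proj (hF : Fintype.card F = q ^ 2) {v x : Fin n → F} (hv : hermForm n F q v v = 1) :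
    hermForm n F q (x - hermForm n F q x v • v) (x - hermForm n F q x v • v) =
      hermForm n F q x x - hermForm n F q x v * hermForm n F q x v ^ q := by
  have h1 : hermForm n F q v x = hermForm n F q x v ^ q := (hermForm_symm hF x v).symm
  rw [hermForm_sub_left, hermForm_sub_right hF, hermForm_sub_right hF, hermForm_smul_left,
    hermForm_smul_left, hermForm_smul_right, hermForm_smul_right, hv, h1]
  ring

/-- The same under the assumption that the Gram determinant is nonzero, dimension four. -/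
theorem exists_common3' (hF : Fintype.card F = q ^ 2) {W : Submodule F (Fin n → F)} (hW : ND q W)
    (h4 : 4 ≤ finrank F W) {v v' w : Fin n → F} (hv : Un q W v) (hv' : Un q W v')
    (hvv : hermForm n F q v' v = 0) (hw : w ∈ W)
    (hg : hermForm n F q w w ≠ hermForm n F q w v * hermForm n F q w v ^ q +
      hermForm n F q w v' * hermForm n F q w v' ^ q) :
    ∃ u, Un q W u ∧ hermForm n F q u v = 0 ∧ hermForm n F q u v' = 0 ∧
      hermForm n F q u w = 0 := by
  have h1 := finrank_pp hF hv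
  have hv'' : Un q (pp q W v) v' := ⟨(mem_pp hF).2 ⟨hv'.1, hvv⟩, hv'.2⟩
  have h2 := finrank_pp hF hv''
  have hx1 := sub_mem_pp hF hv hw
  have hx2 := sub_mem_pp hF hv'' hx1
  obtain ⟨x, hx⟩ : ∃ x, x = w - hermForm n F q w v • v := ⟨_, rfl⟩
  rw [← hx] at hx1 hx2
  have hxv' : hermForm n F q x v' = hermForm n F q w v' := by
    rw [hx, hermForm_sub_left, hermForm_smul_left, form_comm hF hvv]; ring
  obtain ⟨u, hu, hux⟩ := exists_un_perp' hF (nd_pp hF (nd_pp hF hW hv) hv'') (by omega) hx2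
    (Or.inr (by
      rw [form_proj hF hv'.2, hxv', hx, form_proj hF hv.2]
      intro h0
      apply hg
      linear_combination h0))
  have hu' := (mem_pp hF).1 hu.1
  have hu'' := (mem_pp hF).1 hu'.1
  refine ⟨u, ⟨hu''.1, hu.2⟩, hu''.2, hu'.2, ?_⟩
  rw [hermForm_sub_right hF, hermForm_smul_right, hu'.2, hx, hermForm_sub_right hF,
    hermForm_smul_right, hu''.2] at hux
  linear_combination hux

/-- The intermediate vertex needed in dimension four. -/
theorem exists_inter (hF : Fintype.card F = q ^ 2) (hq : 4 ≤ q) {W : Submodule F (Fin n → F)}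
    (hW : ND q W) (h4 : 4 ≤ finrank F W) {v v' w : Fin n → F} (hv : Un q W v) (hv' : Un q W v')
    (hvv : hermForm n F q v' v = 0) (hw : Un q W w) :
    (∃ u, Un q W u ∧ hermForm n F q u v = 0 ∧ hermForm n F q u v' = 0 ∧
      hermForm n F q u w = 0) ∨
    ∃ x u u', Un q W x ∧ Un q W u ∧ Un q W u' ∧ hermForm n F q x v = 0 ∧ hermForm n F q x v' = 0 ∧
      hermForm n F q u v = 0 ∧ hermForm n F q u x = 0 ∧ hermForm n F q u w = 0 ∧
      hermForm n F q u' v' = 0 ∧ hermForm n F q u' x = 0 ∧ hermForm n F q u' w = 0 := by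
  classical
  have h1 := finrank_pp hF hv
  have hv'' : Un q (pp q W v) v' := ⟨(mem_pp hF).2 ⟨hv'.1, hvv⟩, hv'.2⟩
  have h2 := finrank_pp hF hv''
  have hND := nd_pp hF (nd_pp hF hW hv) hv''
  obtain ⟨α, hα⟩ : ∃ α, α = hermForm n F q w v := ⟨_, rfl⟩
  obtain ⟨β, hβ⟩ : ∃ β, β = hermForm n F q w v' := ⟨_, rfl⟩
  have hx1 := sub_mem_pp hF hv hw.1
  have hx2 := sub_mem_pp hF hv'' hx1
  obtain ⟨y, hy⟩ : ∃ y, y = w - hermForm n F q w v • v := ⟨_, rfl⟩
  rw [← hy] at hx1 hx2
  have hyv' : hermForm n F q y v' = β := by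
    rw [hy, hermForm_sub_left, hermForm_smul_left, form_comm hF hvv, hβ]; ring
  obtain ⟨r, hr⟩ : ∃ r, r = y - hermForm n F q y v' • v' := ⟨_, rfl⟩
  rw [← hr] at hx2
  have hrr : hermForm n F q r r = 1 - α * α ^ q - β * β ^ q := by
    rw [hr, form_proj hF hv'.2, hyv', hy, form_proj hF hv.2, hw.2, hα]
  have hwr : w = α • v + β • v' + r := by
    rw [hr, hyv', hy, hα]; abel
  have hrm := (mem_pp hF).1 hx2
  have hrm' := (mem_pp hF).1 hrm.1
  by_cases hcase : r = 0 ∨ hermForm n F q r r ≠ 0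
  · left
    obtain ⟨u, hu, hur⟩ := exists_un_perp' hF hND (by omega) hx2 hcase
    have hu' := (mem_pp hF).1 hu.1
    have hu'' := (mem_pp hF).1 hu'.1
    refine ⟨u, ⟨hu''.1, hu.2⟩, hu''.2, hu'.2, ?_⟩
    rw [hwr, hermForm_add_right hF, hermForm_add_right hF, hermForm_smul_right,
      hermForm_smul_right, hu''.2, hu'.2, hur]
    ring
  push Not at hcase
  right
  -- choose a suitable `x`
  obtain ⟨x, hx, hxv, hxv', hxg1, hxg2⟩ : ∃ x, Un q W x ∧ hermForm n F q x v = 0 ∧
      hermForm n F q x v' = 0 ∧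
      1 ≠ α * α ^ q + hermForm n F q w x * hermForm n F q w x ^ q ∧
      1 ≠ β * β ^ q + hermForm n F q w x * hermForm n F q w x ^ q := by
    obtain ⟨s, hs, hrs⟩ := exists_hypW hF hND hx2 hcase.1 hcase.2
    have hs' := (mem_pp hF).1 hs
    have hs'' := (mem_pp hF).1 hs'.1
    obtain ⟨τ, hτ, hτS⟩ := exists_fixed_ne hF ({0, α * α ^ q, β * β ^ q} : Finset F)
      (lt_of_le_of_lt Finset.card_le_three (by omega))
    simp only [Finset.mem_insert, Finset.mem_singleton, not_or] at hτS
    obtain ⟨c, hc⟩ := exists_trace_eq hF (c := τ⁻¹) (by rw [inv_pow, hτ])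
    have hsr := (hrs.symm hF).2.2
    obtain ⟨x, hxdef⟩ : ∃ x, x = c • r + s := ⟨_, rfl⟩
    have hxW : x ∈ pp q (pp q W v) v' := by
      rw [hxdef]; exact Submodule.add_mem _ (Submodule.smul_mem _ _ hx2) hs
    have hxx : hermForm n F q x x = τ⁻¹ := by
      rw [hxdef, hermForm_add_left, hermForm_add_right hF, hermForm_add_right hF,
        hermForm_smul_left, hermForm_smul_left, hermForm_smul_right, hermForm_smul_right,
        hcase.2, hrs.2.2, hsr, hrs.2.1]
      linear_combination hc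
    obtain ⟨d, hd, hdx⟩ := exists_scale hF hxW (by rw [hxx]; exact inv_ne_zero hτS.1)
    have hdx' := (mem_pp hF).1 hdx.1
    have hdx'' := (mem_pp hF).1 hdx'.1
    have hd2 : d * d ^ q = τ := by
      have := hdx.2
      rw [hermForm_smul_left, hermForm_smul_right, hxx] at this
      field_simp [hτS.1] at this
      linear_combination this
    have hwx : hermForm n F q w (d • x) = d ^ q := by
      rw [hwr, hermForm_add_left, hermForm_add_left, hermForm_smul_left, hermForm_smul_left,
        form_comm hF hdx''.2, form_comm hF hdx'.2, hermForm_smul_right, hxdef,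
        hermForm_add_right hF, hermForm_smul_right, hcase.2, hrs.2.2]
      ring
    have hN : hermForm n F q w (d • x) * hermForm n F q w (d • x) ^ q = τ := by
      rw [hwx, pow_q_pow_q hF, mul_comm, hd2]
    rw [hcase.2] at hrr
    refine ⟨d • x, ⟨hdx''.1, hdx.2⟩, hdx''.2, hdx'.2, ?_, ?_⟩
    · rw [hN]
      intro h
      apply hτS.2.2
      linear_combination -hrr - h
    · rw [hN]
      intro h
      apply hτS.2.1
      linear_combination -hrr - h
  obtain ⟨u, hu, hu1, hu2, hu3⟩ := exists_common3' hF hW h4 hv hx hxv hw.1 (by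
    rw [hw.2, ← hα]; exact hxg1)
  obtain ⟨u', hu', hu'1, hu'2, hu'3⟩ := exists_common3' hF hW h4 hv' hx hxv' hw.1 (by
    rw [hw.2, ← hβ]; exact hxg2)
  exact ⟨x, u, u', hx, hu, hu', hxv, hxv', hu1, hu2, hu3, hu'1, hu'2, hu'3⟩

end Cfsg.Agent.Phan
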