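import Cfsg.Agent.Phan.Geo

/-!
# Auxiliary points for quadrangles both of whose diagonals are degenerate
-/

set_option autoImplicit false
set_option linter.unusedSectionVars false

namespace Cfsg.Agent.Phan

open Cfsg.Agent.Uni Module

variable {F : Type*} [Field F] [Fintype F] {q : ℕ} {n : ℕ}

/-- In dimension three two orthogonal isotropic vectors are proportional and there is a unit
vector orthogonal to both. -/
theorem exists_un_iso_perp (hF : Fintype.card F = q ^ 2) {W : Submodule F (Fin n → F)}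
    (hW : ND q W) (h3 : finrank F W = 3) {r r' : Fin n → F} (hr : r ∈ W) (hr' : r' ∈ W)
    (hr0 : r ≠ 0) (hrr : hermForm n F q r r = 0) (hrr' : hermForm n F q r' r' = 0)
    (hor : hermForm n F q r' r = 0) :
    ∃ e, Un q W e ∧ hermForm n F q e r = 0 ∧ hermForm n F q e r' = 0 := by
  obtain ⟨s, hs, hrs⟩ := exists_hypW hF hW hr hr0 hrr
  have h1 := finrank_pp2 hF hr hs hrs
  have hND := nd_pp2 hF hW hr hs hrs
  obtain ⟨e, he⟩ := exists_un hF hND (by omega)
  have he' := (mem_pp2 hF).1 he.1
  refine ⟨e, ⟨he'.1, he.2⟩, he'.2.1, ?_⟩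
  -- decompose `r'`
  have hsr := (hrs.symm hF).2.2
  obtain ⟨a, ha⟩ : ∃ a, a = hermForm n F q r' s := ⟨_, rfl⟩
  obtain ⟨b, hb⟩ : ∃ b, b = hermForm n F q r' e := ⟨_, rfl⟩
  have h2 : r' - a • r ∈ pp2 q W r s := by
    rw [mem_pp2 hF]
    refine ⟨W.sub_mem hr' (W.smul_mem _ hr), ?_, ?_⟩
    · rw [hermForm_sub_left, hermForm_smul_left, hor, hrr]; ring
    · rw [hermForm_sub_left, hermForm_smul_left, hrs.2.2, ha]; ring
  have h3' : r' - a • r = b • e := by
    have h4 := finrank_pp hF he
    have h5 : pp q (pp2 q W r s) e = ⊥ := Submodule.finrank_eq_zero.1 (by omega)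
    have h6 := sub_mem_pp hF he h2
    rw [h5, Submodule.mem_bot, sub_eq_zero] at h6
    rw [h6]
    congr 1
    rw [hermForm_sub_left, hermForm_smul_left, form_comm hF he'.2.1, hb]; ring
  have h7 : r' = a • r + b • e := by rw [← h3']; abel
  have h8 : b * b ^ q = 0 := by
    have := hrr'
    simp only [h7, hermForm_add_left, hermForm_add_right hF, hermForm_smul_left,
      hermForm_smul_right, hrr, he.2, he'.2.1, form_comm hF he'.2.1] at this
    linear_combination this
  have h9 : b = 0 := by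
    rcases mul_eq_zero.1 h8 with h | h
    · exact h
    · exact (pow_q_eq_zero hF).1 h
  rw [h7, h9, zero_smul, add_zero, hermForm_smul_right, he'.2.1, mul_zero]

/-- In dimension two an isotropic vector spans its orthogonal complement. -/
theorem iso_perp_two (hF : Fintype.card F = q ^ 2) {W : Submodule F (Fin n → F)}
    (hW : ND q W) (h2 : finrank F W = 2) {r r' : Fin n → F} (hr : r ∈ W) (hr' : r' ∈ W)
    (hr0 : r ≠ 0) (hrr : hermForm n F q r r = 0) (hor : hermForm n F q r' r = 0) :
    ∃ c : F, r' = c • r := by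
  obtain ⟨s, hs, hrs⟩ := exists_hypW hF hW hr hr0 hrr
  have h1 := finrank_pp2 hF hr hs hrs
  have hbot : pp2 q W r s = ⊥ := Submodule.finrank_eq_zero.1 (by omega)
  refine ⟨hermForm n F q r' s, ?_⟩
  have h3 : r' - hermForm n F q r' s • r ∈ pp2 q W r s := by
    rw [mem_pp2 hF]
    refine ⟨W.sub_mem hr' (W.smul_mem _ hr), ?_, ?_⟩
    · rw [hermForm_sub_left, hermForm_smul_left, hor, hrr]; ring
    · rw [hermForm_sub_left, hermForm_smul_left, hrs.2.2]; ring
  rw [hbot, Submodule.mem_bot, sub_eq_zero] at h3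
  exact h3

/-- Field arithmetic for the auxiliary point. -/
theorem exists_aux_field (hF : Fintype.card F = q ^ 2) (hq : 4 ≤ q) {a γ : F}
    (ha : a * a ^ q = 1) (hγ : γ ≠ 0) :
    ∃ x T : F, T ^ q = T ∧ T ≠ 0 ∧ T ≠ x * x ^ q ∧ T ≠ γ * γ ^ q ∧
      T ≠ (x * a ^ q + 1) * (x * a ^ q + 1) ^ q ∧
      T ≠ (x * a ^ q + 1) * (x * a ^ q + 1) ^ q + γ * γ ^ q ∧ T ≠ γ * γ ^ q + x * x ^ q := by
  classical
  obtain ⟨g, hg⟩ : ∃ g, g = γ * γ ^ q := ⟨_, rfl⟩
  have hgq : g ^ q = g := by rw [hg, mul_pow, pow_q_pow_q hF]; ring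
  have hg0 : g ≠ 0 := by rw [hg]; exact mul_ne_zero hγ (pow_ne_zero _ hγ)
  rw [← hg]
  by_cases h5 : 5 ≤ q
  · obtain ⟨T, hT, hTS⟩ := exists_fixed_ne hF ({0, 1, g, 1 + g} : Finset F)
      (lt_of_le_of_lt Finset.card_le_four (by omega))
    simp only [Finset.mem_insert, Finset.mem_singleton, not_or] at hTS
    refine ⟨0, T, hT, hTS.1, ?_, hTS.2.2.1, ?_, ?_, ?_⟩
    · simpa using hTS.1
    · simpa using hTS.2.1
    · simpa using hTS.2.2.2
    · simpa using hTS.2.2.1
  · have hq4 : q = 4 := by omega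
    subst hq4
    have h2 : (2 : F) = 0 := by
      have h16 := FiniteField.cast_card_eq_zero F
      rw [hF] at h16
      have : ((2 : F)) ^ 4 = 0 := by
        have h3 : (((4 ^ 2 : ℕ)) : F) = 2 ^ 4 := by norm_num
        rw [← h3]; exact h16
      exact pow_eq_zero_iff (by norm_num) |>.1 this
    by_cases hg1 : g = 1
    · obtain ⟨T, hT, hTS⟩ := exists_fixed_ne hF ({0, 1} : Finset F)
        (lt_of_le_of_lt Finset.card_le_two (by omega))
      simp only [Finset.mem_insert, Finset.mem_singleton, not_or] at hTS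
      have h11 : (1 : F) + 1 = 0 := by rw [← h2]; norm_num
      refine ⟨0, T, hT, hTS.1, ?_, ?_, ?_, ?_, ?_⟩
      · simpa using hTS.1
      · rw [hg1]; exact hTS.2
      · simpa using hTS.2
      · rw [hg1]; simpa [h11] using hTS.1
      · rw [hg1]; simpa using hTS.2
    · -- `g ^ 2 + g + 1 = 0`
      have hgg : g ^ 2 + g + 1 = 0 := by
        have h3 : g * (g - 1) * (g ^ 2 + g + 1) = 0 := by linear_combination hgq
        rcases mul_eq_zero.1 h3 with h | h
        · rcases mul_eq_zero.1 h with h | h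
          · exact absurd h hg0
          · exact absurd (sub_eq_zero.1 h) hg1
        · exact h
      obtain ⟨z, hz⟩ := exists_trace_eq hF (c := (1 : F)) (one_pow 4)
      obtain ⟨y, hy, hy4⟩ : ∃ y : F, y ^ 2 + y = g ∧ y ^ 4 = y + 1 := by
        have hfac : (z ^ 2 + z - g) * (z ^ 2 + z - (g + 1)) = 0 := by
          linear_combination hz + (z ^ 3 - g * z ^ 2 - z * g - z) * h2 + hgg
        rcases mul_eq_zero.1 hfac with h | h
        · exact ⟨z, by linear_combination h, by linear_combination hz - z * h2⟩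
        · refine ⟨z + g, ?_, ?_⟩
          · linear_combination h + hgg + z * g * h2
          · linear_combination hz + hgq + (-z + 2 * z * g ^ 3 + 3 * z ^ 2 * g ^ 2 + 2 * z ^ 3 * g) * h2
      obtain ⟨T, hT, hTS⟩ := exists_fixed_ne hF ({0, g} : Finset F)
        (lt_of_le_of_lt Finset.card_le_two (by omega))
      simp only [Finset.mem_insert, Finset.mem_singleton, not_or] at hTS
      have e1 : (a * y) * (a * y) ^ 4 = g := by
        rw [mul_pow]
        linear_combination (y ^ 5) * ha + y * hy4 + hy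
      have e2 : (a * y) * a ^ 4 + 1 = y ^ 4 := by
        linear_combination y * ha - hy4
      have e3 : y ^ 4 * (y ^ 4) ^ 4 = g := by
        rw [pow_q_pow_q hF]
        linear_combination y * hy4 + hy
      refine ⟨a * y, T, hT, hTS.1, ?_, hTS.2, ?_, ?_, ?_⟩
      · rw [e1]; exact hTS.2
      · rw [e2, e3]; exact hTS.2
      · rw [e2, e3]
        intro h
        exact hTS.1 (by linear_combination h + g * h2)
      · rw [e1]
        intro h
        exact hTS.1 (by linear_combination h + g * h2)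

/-- The auxiliary point for a quadrangle with two degenerate diagonals, dimension four. -/
theorem exists_aux_point (hF : Fintype.card F = q ^ 2) (hq : 4 ≤ q) {W : Submodule F (Fin n → F)}
    (hW : ND q W) {v u r : Fin n → F} (hv : Un q W v) (hu : Un q W u)
    (huv : hermForm n F q u v = 0) (hr : r ∈ W) (hr0 : r ≠ 0) (hrr : hermForm n F q r r = 0)
    (hrv : hermForm n F q r v = 0) (hru : hermForm n F q r u = 0) {a b γ : F}
    (ha : a * a ^ q = 1) (hγ : γ ≠ 0) :
    ∃ p, Un q W p ∧
      hermForm n F q p v * hermForm n F q p v ^ q ≠ 1 ∧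
      hermForm n F q p u * hermForm n F q p u ^ q ≠ 1 ∧
      hermForm n F q p (a • v + r) * hermForm n F q p (a • v + r) ^ q ≠ 1 ∧
      hermForm n F q p (b • u + γ • r) * hermForm n F q p (b • u + γ • r) ^ q ≠ 1 ∧
      1 ≠ hermForm n F q p v * hermForm n F q p v ^ q +
        hermForm n F q p u * hermForm n F q p u ^ q ∧
      1 ≠ hermForm n F q p u * hermForm n F q p u ^ q +
        hermForm n F q p (a • v + r) * hermForm n F q p (a • v + r) ^ q ∧
      1 ≠ hermForm n F q p (a • v + r) * hermForm n F q p (a • v + r) ^ q +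
        hermForm n F q p (b • u + γ • r) * hermForm n F q p (b • u + γ • r) ^ q ∧
      1 ≠ hermForm n F q p (b • u + γ • r) * hermForm n F q p (b • u + γ • r) ^ q +
        hermForm n F q p v * hermForm n F q p v ^ q := by
  obtain ⟨x, T, hT, hT0, hT1, hT2, hT3, hT4, hT5⟩ := exists_aux_field hF hq ha hγ
  have h1 := finrank_pp hF hv
  have hu' : Un q (pp q W v) u := ⟨(mem_pp hF).2 ⟨hu.1, huv⟩, hu.2⟩
  have hND := nd_pp hF (nd_pp hF hW hv) hu'
  have hr' : r ∈ pp q (pp q W v) u := (mem_pp hF).2 ⟨(mem_pp hF).2 ⟨hr, hrv⟩, hru⟩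
  obtain ⟨s, hs, hrs⟩ := exists_hypW hF hND hr' hr0 hrr
  have hsr := (hrs.symm hF).2.2
  have hs' := (mem_pp hF).1 hs
  have hs'' := (mem_pp hF).1 hs'.1
  have hNx : (x * x ^ q) ^ q = x * x ^ q := by rw [mul_pow, pow_q_pow_q hF]; ring
  obtain ⟨c, hc⟩ := exists_trace_eq hF (c := T - x * x ^ q) (by rw [sub_pow_q hF, hT, hNx])
  obtain ⟨P, hP⟩ : ∃ P, P = x • v + (c • r + s) := ⟨_, rfl⟩
  have hPW : P ∈ W := by
    rw [hP]; exact W.add_mem (W.smul_mem _ hv.1) (W.add_mem (W.smul_mem _ hr) hs''.1)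
  have vr := form_comm hF hrv
  have ur := form_comm hF hru
  have vs := form_comm hF hs''.2
  have us := form_comm hF hs'.2
  have vu := form_comm hF huv
  have hPP : hermForm n F q P P = T := by
    simp only [hP, hermForm_add_left, hermForm_add_right hF, hermForm_smul_left,
      hermForm_smul_right, hv.2, hrv, hrr, hrs.2.2, hsr, hrs.2.1, vr, vs, hs''.2]
    linear_combination hc
  have hPv : hermForm n F q P v = x := by
    simp only [hP, hermForm_add_left, hermForm_smul_left, hv.2, hrv, hs''.2]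
    ring
  have hPu : hermForm n F q P u = 0 := by
    simp only [hP, hermForm_add_left, hermForm_smul_left, vu, hru, hs'.2]
    ring
  have hPw : hermForm n F q P (a • v + r) = x * a ^ q + 1 := by
    simp only [hermForm_add_right hF, hermForm_smul_right, hPv]
    simp only [hP, hermForm_add_left, hermForm_smul_left, vr, hrr, hsr]
    ring
  have hPu' : hermForm n F q P (b • u + γ • r) = γ ^ q := by
    simp only [hermForm_add_right hF, hermForm_smul_right, hPu]
    simp only [hP, hermForm_add_left, hermForm_smul_left, vr, hrr, hsr]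
    ring
  obtain ⟨d, hd, hdP⟩ := exists_scale hF hPW (by rw [hPP]; exact hT0)
  obtain ⟨D, hD⟩ : ∃ D, D = d * d ^ q := ⟨_, rfl⟩
  have hDT : D * T = 1 := by
    have := hdP.2
    rw [hermForm_smul_left, hermForm_smul_right, hPP] at this
    rw [hD]; linear_combination this
  have hnorm : ∀ y, hermForm n F q (d • P) y * hermForm n F q (d • P) y ^ q =
      D * (hermForm n F q P y * hermForm n F q P y ^ q) := by
    intro y
    rw [hermForm_smul_left, mul_pow, hD]; ring
  have hcancel : ∀ y : F, D * y = 1 → T = y := by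
    intro y hy
    have hD0 : D ≠ 0 := by
      rintro rfl
      rw [zero_mul] at hDT
      exact zero_ne_one hDT
    exact mul_left_cancel₀ hD0 (hDT.trans hy.symm)
  have hγq : γ ^ q * (γ ^ q) ^ q = γ * γ ^ q := by rw [pow_q_pow_q hF]; ring
  have h0q : (0 : F) * 0 ^ q = 0 := zero_mul _
  refine ⟨d • P, hdP, ?_, ?_, ?_, ?_, ?_, ?_, ?_, ?_⟩
  · rw [hnorm, hPv]; exact fun h => hT1 (hcancel _ h)
  · rw [hnorm, hPu, h0q]; exact fun h => hT0 (hcancel _ h)
  · rw [hnorm, hPw]; exact fun h => hT3 (hcancel _ h)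
  · rw [hnorm, hPu', hγq]; exact fun h => hT2 (hcancel _ h)
  · rw [hnorm, hnorm, hPv, hPu, h0q, ← mul_add]
    exact fun h => hT1 (by have := hcancel _ h.symm; rwa [add_zero] at this)
  · rw [hnorm, hnorm, hPw, hPu, h0q, ← mul_add]
    exact fun h => hT3 (by have := hcancel _ h.symm; rwa [zero_add] at this)
  · rw [hnorm, hnorm, hPw, hPu', hγq, ← mul_add]
    exact fun h => hT4 (hcancel _ h.symm)
  · rw [hnorm, hnorm, hPv, hPu', hγq, ← mul_add]
    exact fun h => hT5 (hcancel _ h.symm)

end Cfsg.Agent.Phan
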