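import Cfsg.Agent.Phan.Build

/-!
# Gluing along intervals of coordinates
-/

set_option autoImplicit false
set_option linter.unusedSectionVars false

namespace Cfsg.Agent.Phan

open Cfsg.Agent.Uni Module

variable {F : Type*} [Field F] [Fintype F] {q : ℕ} {n : ℕ}

/-- The interval `[i, i + m)` of coordinates. -/
def iv (n i m : ℕ) : Finset (Fin n) := Finset.univ.filter fun k => i ≤ (k : ℕ) ∧ (k : ℕ) < i + m

theorem mem_iv {n i m : ℕ} {k : Fin n} : k ∈ iv n i m ↔ i ≤ (k : ℕ) ∧ (k : ℕ) < i + m := by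
  simp [iv]

theorem iv_erase_left {n i m : ℕ} (hi : i < n) :
    (iv n i (m + 1)).erase ⟨i, hi⟩ = iv n (i + 1) m := by
  ext k
  rw [Finset.mem_erase, mem_iv, mem_iv, Ne, Fin.ext_iff]
  simp only
  omega

theorem iv_erase_right {n i m : ℕ} (hi : i + m < n) :
    (iv n i (m + 1)).erase ⟨i + m, hi⟩ = iv n i m := by
  ext k
  rw [Finset.mem_erase, mem_iv, mem_iv, Ne, Fin.ext_iff]
  simp only
  omega

theorem iv_card {n i m : ℕ} (h : i + m ≤ n) : (iv n i m).card = m := by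
  induction m generalizing i with
  | zero =>
    rw [Finset.card_eq_zero]
    ext k
    rw [mem_iv]
    simp only [Finset.notMem_empty, iff_false]
    omega
  | succ m ih =>
    have h1 : i + m < n := by omega
    rw [← Finset.card_erase_add_one (a := (⟨i + m, h1⟩ : Fin n)) (by rw [mem_iv]; simp only; omega),
      iv_erase_right h1, ih (by omega)]

theorem iv_mono {n i m j l : ℕ} (h1 : i ≤ j) (h2 : j + l ≤ i + m) : iv n j l ⊆ iv n i m := by
  intro k hk
  rw [mem_iv] at hk ⊢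
  omega

/-- Interval subgroups are generated by the rank one ones. -/
theorem HH_iv_le (hF : Fintype.card F = q ^ 2) (hq : 3 ≤ q) (m : ℕ) (hm : 2 ≤ m) (i : ℕ)
    (him : i + m ≤ n) : HH F q (iv n i m) ≤
      Subgroup.closure {g | ∃ j, i ≤ j ∧ j + 2 ≤ i + m ∧ g ∈ HH F q (iv n j 2)} := by
  induction m, hm using Nat.le_induction generalizing i with
  | base =>
    intro g hg
    exact Subgroup.subset_closure ⟨i, le_rfl, le_rfl, hg⟩
  | succ m hm ih =>
    have h1 : i < n := by omega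
    have h2 : i + 1 < n := by omega
    have h3 : i + m < n := by omega
    rw [HH_gen hF hq (S := iv n i (m + 1)) (a := ⟨i, h1⟩) (b := ⟨i + 1, h2⟩) (z := ⟨i + m, h3⟩)
      (by rw [mem_iv]; simp only; omega) (by rw [mem_iv]; simp only; omega)
      (by rw [mem_iv]; simp only; omega) (by rw [Ne, Fin.ext_iff]; simp only; omega)
      (by rw [Ne, Fin.ext_iff]; simp only; omega) (by rw [Ne, Fin.ext_iff]; simp only; omega),
      iv_erase_left, iv_erase_right]
    apply sup_le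
    · refine (ih (i + 1) (by omega)).trans (Subgroup.closure_mono ?_)
      rintro g ⟨j, h4, h5, h6⟩
      exact ⟨j, by omega, by omega, h6⟩
    · refine (ih i (by omega)).trans (Subgroup.closure_mono ?_)
      rintro g ⟨j, h4, h5, h6⟩
      exact ⟨j, by omega, by omega, h6⟩

theorem HH_ind (hF : Fintype.card F = q ^ 2) (hq : 3 ≤ q) {m : ℕ} (hm : 2 ≤ m) {i : ℕ}
    (him : i + m ≤ n) {P : SU n F q → Prop}
    (h1 : ∀ j, i ≤ j → j + 2 ≤ i + m → ∀ g ∈ HH F q (iv n j 2), P g)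
    (hmul : ∀ g ∈ HH F q (iv n i m), ∀ h ∈ HH F q (iv n i m), P g → P h → P (g * h))
    (hinv : ∀ g ∈ HH F q (iv n i m), P g → P g⁻¹) : ∀ g ∈ HH F q (iv n i m), P g := by
  intro g hg
  have h2 : Subgroup.closure {g : SU n F q | ∃ j, i ≤ j ∧ j + 2 ≤ i + m ∧ g ∈ HH F q (iv n j 2)} ≤
      HH F q (iv n i m) := by
    rw [Subgroup.closure_le]
    rintro x ⟨j, h3, h4, h5⟩
    exact HH_mono (iv_mono h3 h4) h5
  have h3 := HH_iv_le hF hq m hm i him hg
  induction h3 using Subgroup.closure_induction with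
  | mem x hx =>
    obtain ⟨j, h4, h5, h6⟩ := hx
    exact h1 j h4 h5 x h6
  | one => exact h1 i le_rfl (by omega) 1 (one_mem _)
  | mul x y hx hy ihx ihy => exact hmul x (h2 hx) y (h2 hy) (ihx (h2 hx)) (ihy (h2 hy))
  | inv x hx ih => exact hinv x (h2 hx) (ih (h2 hx))

/-- **Gluing along intervals.** -/
theorem exists_glue_iv {G : Type*} [Group G] (hF : Fintype.card F = q ^ 2)
    (θ : ∀ j : ℕ, HH F q (iv n j 2) →* G)
    (hcomm : ∀ i j, i + 2 ≤ j → j + 2 ≤ n → ∀ g h, θ i g * θ j h = θ j h * θ i g)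
    (m0 : ℕ) (hm0 : (m0 = 3 ∧ 4 ≤ q) ∨ (m0 = 4 ∧ 3 ≤ q))
    (hbase : ∀ i, i + m0 ≤ n → ∃ Φ : HH F q (iv n i m0) →* G,
      ∀ j, i ≤ j → j + 2 ≤ i + m0 → ∀ (g : SU n F q) (hg : g ∈ HH F q (iv n j 2))
        (hg' : g ∈ HH F q (iv n i m0)), Φ ⟨g, hg'⟩ = θ j ⟨g, hg⟩)
    (m : ℕ) (hm : m0 ≤ m) (i : ℕ) (him : i + m ≤ n) :
    ∃ Φ : HH F q (iv n i m) →* G,
      ∀ j, i ≤ j → j + 2 ≤ i + m → ∀ (g : SU n F q) (hg : g ∈ HH F q (iv n j 2))
        (hg' : g ∈ HH F q (iv n i m)), Φ ⟨g, hg'⟩ = θ j ⟨g, hg⟩ := by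
  have hq : 3 ≤ q := by omega
  suffices h : ∀ S : Finset (Fin n), S = iv n i m → ∃ Φ : HH F q S →* G,
      ∀ j, i ≤ j → j + 2 ≤ i + m → ∀ (g : SU n F q) (hg : g ∈ HH F q (iv n j 2))
        (hg' : g ∈ HH F q S), Φ ⟨g, hg'⟩ = θ j ⟨g, hg⟩ from h _ rfl
  induction m, hm using Nat.le_induction generalizing i with
  | base =>
    rintro S rfl
    exact hbase i him
  | succ m hm ih =>
    rintro S rfl
    have h1 : i < n := by omega
    have h2 : i + 1 < n := by omega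
    have h3 : i + m < n := by omega
    have h2' : i + 2 < n := by omega
    obtain ⟨ΦA, hΦA⟩ := ih (i + 1) (by omega) ((iv n i (m + 1)).erase ⟨i, h1⟩)
      (iv_erase_left h1)
    obtain ⟨ΦB, hΦB⟩ := ih i (by omega) ((iv n i (m + 1)).erase ⟨i + m, h3⟩)
      (iv_erase_right h3)
    have hagree : ∀ (g : SU n F q) (hA : g ∈ HH F q ((iv n i (m + 1)).erase ⟨i, h1⟩))
        (hB : g ∈ HH F q ((iv n i (m + 1)).erase ⟨i + m, h3⟩)),
        ΦA ⟨g, hA⟩ = ΦB ⟨g, hB⟩ := by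
      intro g hA hB
      have hsubA : HH F q (iv n (i + 1) (m - 1)) ≤ HH F q ((iv n i (m + 1)).erase ⟨i, h1⟩) := by
        rw [iv_erase_left]; exact HH_mono (iv_mono (by omega) (by omega))
      have hsubB : HH F q (iv n (i + 1) (m - 1)) ≤
          HH F q ((iv n i (m + 1)).erase ⟨i + m, h3⟩) := by
        rw [iv_erase_right]; exact HH_mono (iv_mono (by omega) (by omega))
      have hg : g ∈ HH F q (iv n (i + 1) (m - 1)) := by
        rw [iv_erase_left] at hA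
        rw [iv_erase_right] at hB
        intro k hk
        rw [mem_iv] at hk
        by_cases hki : i + 1 ≤ (k : ℕ) ∧ (k : ℕ) < i + 1 + m
        · exact hB k (by rw [mem_iv]; omega)
        · exact hA k (by rw [mem_iv]; omega)
      refine HH_ind hF hq (m := m - 1) (by omega) (i := i + 1) (by omega)
        (P := fun g => ∀ hA hB, ΦA ⟨g, hA⟩ = ΦB ⟨g, hB⟩) ?_ ?_ ?_ g hg hA hB
      · intro j hj1 hj2 g hg hA hB
        rw [hΦA j hj1 (by omega) g hg hA, hΦB j (by omega) (by omega) g hg hB]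
      · intro g hg h hh ihg ihh hA hB
        have e1 := ihg (hsubA hg) (hsubB hg)
        have e2 := ihh (hsubA hh) (hsubB hh)
        have e3 : ΦA ⟨g * h, hA⟩ = ΦA ⟨g, hsubA hg⟩ * ΦA ⟨h, hsubA hh⟩ := by
          rw [← map_mul]; rfl
        have e4 : ΦB ⟨g * h, hB⟩ = ΦB ⟨g, hsubB hg⟩ * ΦB ⟨h, hsubB hh⟩ := by
          rw [← map_mul]; rfl
        rw [e3, e4, e1, e2]
      · intro g hg ihg hA hB
        have e1 := ihg (hsubA hg) (hsubB hg)
        have e3 : ΦA ⟨g⁻¹, hA⟩ = (ΦA ⟨g, hsubA hg⟩)⁻¹ := by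
          rw [← map_inv]; rfl
        have e4 : ΦB ⟨g⁻¹, hB⟩ = (ΦB ⟨g, hsubB hg⟩)⁻¹ := by
          rw [← map_inv]; rfl
        rw [e3, e4, e1]
    have hcomm' : ∀ (g : SU n F q) (hgB : g ∈ HH F q ((iv n i (m + 1)).erase ⟨i + m, h3⟩))
        (_ : g ∈ HH F q {(⟨i, h1⟩ : Fin n), (⟨i + 1, h2⟩ : Fin n)}) (h : SU n F q)
        (hhA : h ∈ HH F q ((iv n i (m + 1)).erase ⟨i, h1⟩))
        (_ : h ∈ HH F q (((iv n i (m + 1)).erase ⟨i, h1⟩).erase ⟨i + 1, h2⟩)),
        ΦB ⟨g, hgB⟩ * ΦA ⟨h, hhA⟩ = ΦA ⟨h, hhA⟩ * ΦB ⟨g, hgB⟩ := by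
      intro g hgB hg h hhA hh
      have hg2 : g ∈ HH F q (iv n i 2) := by
        intro k hk
        refine hg k ?_
        rw [mem_iv] at hk
        simp only [Finset.mem_insert, Finset.mem_singleton, Fin.ext_iff]
        omega
      have hh2 : h ∈ HH F q (iv n (i + 2) (m - 1)) := by
        intro k hk
        refine hh k ?_
        rw [mem_iv] at hk
        rw [iv_erase_left, Finset.mem_erase, mem_iv, Ne, Fin.ext_iff]
        simp only
        omega
      rw [hΦB i le_rfl (by omega) g hg2 hgB]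
      have hsub : HH F q (iv n (i + 2) (m - 1)) ≤ HH F q ((iv n i (m + 1)).erase ⟨i, h1⟩) := by
        rw [iv_erase_left]; exact HH_mono (iv_mono (by omega) (by omega))
      refine HH_ind hF hq (m := m - 1) (by omega) (i := i + 2) (by omega)
        (P := fun h => ∀ hhA, θ i ⟨g, hg2⟩ * ΦA ⟨h, hhA⟩ = ΦA ⟨h, hhA⟩ * θ i ⟨g, hg2⟩)
        ?_ ?_ ?_ h hh2 hhA
      · intro j hj1 hj2 x hx hxA
        rw [hΦA j (by omega) (by omega) x hx hxA]
        exact hcomm i j hj1 (by omega) _ _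
      · intro x hx y hy ihx ihy hxy
        have e1 := ihx (hsub hx)
        have e2 := ihy (hsub hy)
        have e3 : ΦA ⟨x * y, hxy⟩ = ΦA ⟨x, hsub hx⟩ * ΦA ⟨y, hsub hy⟩ := by
          rw [← map_mul]; rfl
        rw [e3, ← mul_assoc, e1, mul_assoc, e2, mul_assoc]
      · intro x hx ihx hxA
        have e1 := ihx (hsub hx)
        have e3 : ΦA ⟨x⁻¹, hxA⟩ = (ΦA ⟨x, hsub hx⟩)⁻¹ := by
          rw [← map_inv]; rfl
        rw [e3]
        exact (Commute.inv_right (show Commute (θ i ⟨g, hg2⟩) (ΦA ⟨x, hsub hx⟩) from e1)).eq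
    obtain ⟨Φ, hA, hB⟩ := exists_glue (a := ⟨i, h1⟩) (z := ⟨i + m, h3⟩) ΦA ΦB hagree
      ⟨i + 1, h2⟩ ⟨i + 2, h2'⟩ (by rw [mem_iv]; simp only; omega)
      (by rw [mem_iv]; simp only; omega) (by rw [mem_iv]; simp only; omega)
      (by rw [mem_iv]; simp only; omega) (by rw [Ne, Fin.ext_iff]; simp only; omega)
      (by rw [Ne, Fin.ext_iff]; simp only; omega) (by rw [Ne, Fin.ext_iff]; simp only; omega)
      (by rw [Ne, Fin.ext_iff]; simp only; omega) (by rw [Ne, Fin.ext_iff]; simp only; omega)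
      (by rw [Ne, Fin.ext_iff]; simp only; omega) hcomm' hF (by rw [iv_card (by omega)]; omega)
    refine ⟨Φ, ?_⟩
    intro j hj1 hj2 g hg hg'
    by_cases hji : j = i
    · subst hji
      have hgB : g ∈ HH F q ((iv n j (m + 1)).erase ⟨j + m, h3⟩) := by
        rw [iv_erase_right]; exact HH_mono (iv_mono (by omega) (by omega)) hg
      rw [← hΦB j le_rfl (by omega) g hg hgB, ← hB g hgB]
    · have hgA : g ∈ HH F q ((iv n i (m + 1)).erase ⟨i, h1⟩) := by
        rw [iv_erase_left]; exact HH_mono (iv_mono (by omega) (by omega)) hg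
      rw [← hΦA j (by omega) (by omega) g hg hgA, ← hA g hgA]

end Cfsg.Agent.Phan
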