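import Cfsg.Agent.Phan.Twist
import Cfsg.Prelude.Def_PhanSystems

/-!
# Recognition of `SU(n+1, q²)` from weak Phan systems
-/

set_option autoImplicit false
set_option linter.unusedSectionVars false

namespace Cfsg.Agent.Phan

open Cfsg.Agent.Uni Module Matrix

variable {F : Type*} [Field F] [Fintype F] {q : ℕ} {n : ℕ}

theorem suBlock_eq (hF : Fintype.card F = q ^ 2) {s : Set (Fin n)} {S : Finset (Fin n)}
    (h : ∀ k, k ∈ s ↔ k ∈ S) : suBlock n F q s = HH F q S := by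
  apply le_antisymm
  · unfold suBlock
    rw [Subgroup.closure_le]
    intro A hA
    rw [SetLike.mem_coe, mem_HH_iff_mt]
    intro i hi k
    have h1 := hA i (fun h' => hi ((h i).1 h'))
    by_cases hki : k = i
    · subst hki
      rw [if_pos rfl]; exact h1.1
    · rw [if_neg hki]; exact (h1.2 k hki).2
  · intro g hg
    apply Subgroup.subset_closure
    intro k hk
    have hk' : k ∉ S := fun h' => hk ((h k).2 h')
    refine ⟨?_, ?_⟩
    · have := mem_HH_iff_mt.1 hg k hk' k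
      rwa [if_pos rfl] at this
    · intro l hl
      refine ⟨?_, ?_⟩
      · have := mt_row hF hg hk' l
        rwa [if_neg hl.symm] at this
      · have := mem_HH_iff_mt.1 hg k hk' l
        rwa [if_neg hl] at this

theorem std_of_hom {G : Type*} [Group G] (hF : Fintype.card F = q ^ 2) {j : ℕ} (hj : j + 3 ≤ n)
    (f : SU 3 F q →* G) {V A B : Subgroup G} (hV : f.range = V)
    (hker : ∀ x, f x = 1 → x ∈ Subgroup.center (SU 3 F q))
    (hA : (suBlock 3 F q {0, 1}).map f = A) (hB : (suBlock 3 F q {1, 2}).map f = B) :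
    ∃ ψ : HH F q (iv n j 3) →* G, Std j ψ V A B := by
  have e1 : ∀ x : HH F q (iv n j 3), kap hj hF x ∈ HH F q ({0, 1} : Finset (Fin 3)) ↔
      (x : SU n F q) ∈ HH F q (iv n j 2) := by
    intro x
    apply kap_mem_iff hj hF
    intro a
    rw [mem_iv]
    simp only [ix, Finset.mem_insert, Finset.mem_singleton, Fin.ext_iff]
    fin_cases a <;> simp
  have e2 : ∀ x : HH F q (iv n j 3), kap hj hF x ∈ HH F q ({1, 2} : Finset (Fin 3)) ↔
      (x : SU n F q) ∈ HH F q (iv n (j + 1) 2) := by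
    intro x
    apply kap_mem_iff hj hF
    intro a
    rw [mem_iv]
    simp only [ix, Finset.mem_insert, Finset.mem_singleton, Fin.ext_iff]
    fin_cases a <;> simp
  rw [suBlock_eq hF (S := {0, 1}) (by intro k; simp)] at hA
  rw [suBlock_eq hF (S := {1, 2}) (by intro k; simp)] at hB
  refine ⟨f.comp (kap hj hF).toMonoidHom, ⟨?_, ?_, ?_, ?_⟩⟩
  · intro x
    rw [← hV]
    constructor
    · rintro ⟨y, rfl⟩
      exact ⟨(kap hj hF).symm y, by simp⟩
    · rintro ⟨y, rfl⟩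
      exact ⟨kap hj hF y, rfl⟩
  · intro g hg
    have h1 := hker (kap hj hF g) hg
    rw [mem_center_SU_iff hF (by omega)] at h1
    obtain ⟨c, hc⟩ := h1
    refine ⟨c, fun k hk => ?_⟩
    obtain ⟨a, rfl⟩ := exists_ix hj hk
    funext r
    rw [act_ee]
    by_cases hr : r ∈ iv n j 3
    · obtain ⟨b, rfl⟩ := exists_ix hj hr
      rw [← kap_apply hj hF]
      have h2 := congrFun (congrFun hc b) a
      change mt (kap hj hF g) b a = _ at h2
      rw [h2]
      by_cases hab : b = a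
      · subst hab
        rw [Matrix.diagonal_apply_eq]; simp
      · rw [Matrix.diagonal_apply_ne _ hab]
        have : ix hj b ≠ ix hj a := fun h => hab (ix_injective hj h)
        simp [this]
    · have hne : r ≠ ix hj a := by
        rintro rfl
        exact hr hk
      rw [mt_row hF g.2 hr, if_neg hne]
      simp [hne]
  · intro x
    rw [← hA]
    constructor
    · rintro ⟨y, hy, rfl⟩
      refine ⟨(kap hj hF).symm y, ?_, by simp⟩
      rw [← e1, MulEquiv.apply_symm_apply]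
      exact hy
    · rintro ⟨y, hy, rfl⟩
      exact ⟨kap hj hF y, (e1 y).2 hy, rfl⟩
  · intro x
    rw [← hB]
    constructor
    · rintro ⟨y, hy, rfl⟩
      refine ⟨(kap hj hF).symm y, ?_, by simp⟩
      rw [← e2, MulEquiv.apply_symm_apply]
      exact hy
    · rintro ⟨y, hy, rfl⟩
      exact ⟨kap hj hF y, (e2 y).2 hy, rfl⟩

theorem std_of_pair {G : Type*} [Group G] (hF : Fintype.card F = q ^ 2) {j : ℕ} (hj : j + 3 ≤ n)
    {V A B : Subgroup G} (h : IsStandardUnitaryPair V A B F q) :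
    ∃ ψ : HH F q (iv n j 3) →* G, Std j ψ V A B := by
  rcases h with ⟨ψ, hA, hB⟩ | ⟨ψ, hA, hB⟩
  · refine std_of_hom hF hj (V.subtype.comp ψ.toMonoidHom) ?_ ?_ hA hB
    · ext x
      constructor
      · rintro ⟨y, rfl⟩
        exact (ψ y).2
      · intro hx
        exact ⟨ψ.symm ⟨x, hx⟩, by simp⟩
    · intro x hx
      have h1 : ψ x = 1 := Subtype.ext hx
      have h2 : x = 1 := by
        apply ψ.injective
        rw [h1, map_one]
      rw [h2]
      exact one_mem _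
  · refine std_of_hom hF hj
      (V.subtype.comp (ψ.toMonoidHom.comp (QuotientGroup.mk' (Subgroup.center (SU 3 F q))))) ?_ ?_
      hA hB
    · ext x
      constructor
      · rintro ⟨y, rfl⟩
        exact (ψ _).2
      · intro hx
        obtain ⟨z, hz⟩ := QuotientGroup.mk_surjective (ψ.symm ⟨x, hx⟩)
        refine ⟨z, ?_⟩
        change ((ψ (QuotientGroup.mk z) : V) : G) = x
        rw [hz, MulEquiv.apply_symm_apply]
    · intro x hx
      have h1 : ψ (QuotientGroup.mk x) = 1 := Subtype.ext hx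
      have h2 : (QuotientGroup.mk x : PSU 3 F q) = 1 := by
        apply ψ.injective
        rw [h1, map_one]
      exact (QuotientGroup.eq_one_iff x).1 h2

/-- Compatible standard homomorphisms. -/
theorem exists_family {G : Type*} [Group G] (hF : Fintype.card F = q ^ 2)
    (V U : ℕ → Subgroup G)
    (hstd : ∀ j, j + 3 ≤ n → ∃ ψ : HH F q (iv n j 3) →* G, Std j ψ (V j) (U j) (U (j + 1)))
    (hcomm : ∀ i j, i + 2 ≤ j → ∀ x ∈ U i, ∀ y ∈ U j, x * y = y * x) :
    ∃ Ψ : ∀ j, HH F q (iv n j 3) →* G,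
      (∀ j, j + 3 ≤ n → Std j (Ψ j) (V j) (U j) (U (j + 1))) ∧
      ∀ j, j + 4 ≤ n → ∀ (g : SU n F q) (_ : g ∈ HH F q (iv n (j + 1) 2))
        (h1 : g ∈ HH F q (iv n (j + 1) 3)) (h2 : g ∈ HH F q (iv n j 3)),
        Ψ (j + 1) ⟨g, h1⟩ = Ψ j ⟨g, h2⟩ := by
  classical
  have key : ∀ m, ∃ Ψ : ∀ j, HH F q (iv n j 3) →* G,
      (∀ j, j + 3 ≤ n → Std j (Ψ j) (V j) (U j) (U (j + 1))) ∧
      ∀ j, j < m → j + 4 ≤ n → ∀ (g : SU n F q) (_ : g ∈ HH F q (iv n (j + 1) 2))
        (h1 : g ∈ HH F q (iv n (j + 1) 3)) (h2 : g ∈ HH F q (iv n j 3)),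
        Ψ (j + 1) ⟨g, h1⟩ = Ψ j ⟨g, h2⟩ := by
    intro m
    induction m with
    | zero =>
      have h1 : ∀ j, ∃ ψ : HH F q (iv n j 3) →* G, j + 3 ≤ n → Std j ψ (V j) (U j) (U (j + 1)) := by
        intro j
        by_cases hj : j + 3 ≤ n
        · obtain ⟨ψ, hψ⟩ := hstd j hj
          exact ⟨ψ, fun _ => hψ⟩
        · exact ⟨1, fun h => absurd h hj⟩
      choose Ψ hΨ using h1
      exact ⟨Ψ, hΨ, fun j hj => absurd hj (by omega)⟩
    | succ m ih =>
      obtain ⟨Ψ, hΨ, hc⟩ := ih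
      by_cases hm : m + 4 ≤ n
      · obtain ⟨φ', hφ', hc'⟩ := exists_twist hF hm (hΨ m (by omega)) (hΨ (m + 1) (by omega))
          (hcomm m (m + 2) le_rfl)
        refine ⟨Function.update Ψ (m + 1) φ', ?_, ?_⟩
        · intro j hj
          by_cases hjm : j = m + 1
          · subst hjm
            rw [Function.update_self]; exact hφ'
          · rw [Function.update_of_ne hjm]; exact hΨ j hj
        · intro j hj hjn g hg h1 h2
          by_cases hjm : j = m
          · subst hjm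
            rw [Function.update_self, Function.update_of_ne (by omega)]
            exact hc' g hg h1 h2
          · rw [Function.update_of_ne (by omega), Function.update_of_ne (by omega)]
            exact hc j (by omega) hjn g hg h1 h2
      · exact ⟨Ψ, hΨ, fun j hj hjn => hc j (by omega) hjn⟩
  obtain ⟨Ψ, hΨ, hc⟩ := key n
  exact ⟨Ψ, hΨ, fun j hj => hc j (by omega) hj⟩

/-- **The recognition theorem**, given completions of the first interval length `m0`. -/
theorem exists_hom {G : Type*} [Group G] (hF : Fintype.card F = q ^ 2) (hn : 4 ≤ n)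
    (V U : ℕ → Subgroup G) (Ψ : ∀ j, HH F q (iv n j 3) →* G)
    (hΨ : ∀ j, j + 3 ≤ n → Std j (Ψ j) (V j) (U j) (U (j + 1)))
    (hΨc : ∀ j, j + 4 ≤ n → ∀ (g : SU n F q) (_ : g ∈ HH F q (iv n (j + 1) 2))
        (h1 : g ∈ HH F q (iv n (j + 1) 3)) (h2 : g ∈ HH F q (iv n j 3)),
        Ψ (j + 1) ⟨g, h1⟩ = Ψ j ⟨g, h2⟩)
    (hcomm : ∀ i j, i + 2 ≤ j → ∀ x ∈ U i, ∀ y ∈ U j, x * y = y * x)
    (hcase : 4 ≤ q ∨ (3 ≤ q ∧ ∀ i, i + 4 ≤ n → ∃ Φ : HH F q (iv n i 4) →* G,
      ∀ j, i ≤ j → j ≤ i + 1 → ∀ (g : SU n F q) (_ : g ∈ HH F q (iv n j 3))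
        (h1 : g ∈ HH F q (iv n i 4)) (h2 : g ∈ HH F q (iv n j 3)), Φ ⟨g, h1⟩ = Ψ j ⟨g, h2⟩)) :
    ∃ f : SU n F q →* G, ∀ j, j + 3 ≤ n → ∀ x ∈ V j, ∃ y, f y = x := by
  classical
  have hq : 3 ≤ q := by omega
  -- the rank one homomorphisms
  obtain ⟨θ, hθ⟩ : ∃ θ : ∀ j : ℕ, HH F q (iv n j 2) →* G,
      ∀ i j, i + 3 ≤ n → i ≤ j → j ≤ i + 1 → ∀ (g : SU n F q) (hg : g ∈ HH F q (iv n j 2))
        (h1 : g ∈ HH F q (iv n i 3)), Ψ i ⟨g, h1⟩ = θ j ⟨g, hg⟩ := by
    obtain ⟨θ, hθ1, hθ2⟩ : ∃ θ : ∀ j : ℕ, HH F q (iv n j 2) →* G,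
        (∀ j, j + 3 ≤ n → ∀ (g : SU n F q) (hg : g ∈ HH F q (iv n j 2))
          (h1 : g ∈ HH F q (iv n j 3)), Ψ j ⟨g, h1⟩ = θ j ⟨g, hg⟩) ∧
        (∀ j, j + 3 = n → ∀ (g : SU n F q) (hg : g ∈ HH F q (iv n (j + 1) 2))
          (h1 : g ∈ HH F q (iv n j 3)), Ψ j ⟨g, h1⟩ = θ (j + 1) ⟨g, hg⟩) := by
      refine ⟨fun j => if h : j + 3 ≤ n then
          (Ψ j).comp (Subgroup.inclusion (HH_mono (iv_mono le_rfl (by omega))))
        else if h' : 1 ≤ j then
          (Ψ (j - 1)).comp (Subgroup.inclusion (HH_mono (iv_mono (by omega) (by omega))))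
        else 1, ?_, ?_⟩
      · intro j hj g hg h1
        simp only [dif_pos hj]
        rfl
      · intro j hj g hg h1
        simp only [dif_neg (show ¬ j + 1 + 3 ≤ n by omega), dif_pos (show 1 ≤ j + 1 by omega)]
        rfl
    refine ⟨θ, ?_⟩
    intro i j hi hij hji g hg h1
    by_cases h : j = i
    · subst h; exact hθ1 j hi g hg h1
    · obtain rfl : j = i + 1 := by omega
      by_cases h' : i + 4 ≤ n
      · have h2 : g ∈ HH F q (iv n (i + 1) 3) := HH_mono (iv_mono le_rfl (by omega)) hg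
        rw [← hΨc i h' g hg h2 h1]
        exact hθ1 (i + 1) (by omega) g hg h2
      · exact hθ2 i (by omega) g hg h1
  -- values
  have hval : ∀ j, j + 2 ≤ n → ∀ g, θ j g ∈ U j := by
    intro j hj g
    by_cases h : j + 3 ≤ n
    · have h1 : (g : SU n F q) ∈ HH F q (iv n j 3) := HH_mono (iv_mono le_rfl (by omega)) g.2
      rw [← hθ j j h le_rfl (by omega) g g.2 h1]
      exact ((hΨ j h).low _).2 ⟨_, g.2, rfl⟩
    · obtain ⟨i, rfl⟩ : ∃ i, j = i + 1 := ⟨j - 1, by omega⟩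
      have h1 : (g : SU n F q) ∈ HH F q (iv n i 3) := HH_mono (iv_mono (by omega) (by omega)) g.2
      rw [← hθ i (i + 1) (by omega) (by omega) le_rfl g g.2 h1]
      exact ((hΨ i (by omega)).up _).2 ⟨_, g.2, rfl⟩
  have hθcomm : ∀ i j, i + 2 ≤ j → j + 2 ≤ n → ∀ g h, θ i g * θ j h = θ j h * θ i g := by
    intro i j hij hj g h
    exact hcomm i j hij _ (hval i (by omega) g) _ (hval j hj h)
  -- the glued homomorphism
  obtain ⟨Φ, hΦ⟩ : ∃ Φ : HH F q (iv n 0 n) →* G,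
      ∀ j, 0 ≤ j → j + 2 ≤ 0 + n → ∀ (g : SU n F q) (hg : g ∈ HH F q (iv n j 2))
        (hg' : g ∈ HH F q (iv n 0 n)), Φ ⟨g, hg'⟩ = θ j ⟨g, hg⟩ := by
    rcases hcase with h4 | ⟨h3, hbase⟩
    · refine exists_glue_iv hF θ hθcomm 3 (Or.inl ⟨rfl, h4⟩) ?_ n (by omega) 0 (by omega)
      intro i hi
      exact ⟨Ψ i, fun j hj1 hj2 g hg hg' => hθ i j hi hj1 (by omega) g hg hg'⟩
    · refine exists_glue_iv hF θ hθcomm 4 (Or.inr ⟨rfl, h3⟩) ?_ n (by omega) 0 (by omega)
      intro i hi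
      obtain ⟨Φ, hΦ⟩ := hbase i hi
      refine ⟨Φ, fun j hj1 hj2 g hg hg' => ?_⟩
      by_cases hj : j ≤ i + 1
      · have h1 : g ∈ HH F q (iv n j 3) := HH_mono (iv_mono le_rfl (by omega)) hg
        rw [hΦ j hj1 hj g h1 hg' h1]
        exact hθ j j (by omega) le_rfl (by omega) g hg h1
      · obtain rfl : j = i + 2 := by omega
        have h1 : g ∈ HH F q (iv n (i + 1) 3) := HH_mono (iv_mono (by omega) (by omega)) hg
        rw [hΦ (i + 1) (by omega) le_rfl g h1 hg' h1]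
        exact hθ (i + 1) (i + 2) (by omega) (by omega) le_rfl g hg h1
  have htop : ∀ g : SU n F q, g ∈ HH F q (iv n 0 n) := by
    intro g k hk
    exact absurd (by rw [mem_iv]; omega) hk
  obtain ⟨f, hf⟩ : ∃ f : SU n F q →* G, ∀ g, f g = Φ ⟨g, htop g⟩ :=
    ⟨Φ.comp ((MonoidHom.id (SU n F q)).codRestrict _ htop), fun g => rfl⟩
  refine ⟨f, ?_⟩
  intro j hj x hx
  obtain ⟨y, hy⟩ := ((hΨ j hj).range x).1 hx
  refine ⟨y, ?_⟩
  rw [← hy]
  refine HH_ind hF hq (m := 3) (by omega) (i := j) hj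
    (P := fun g => ∀ (h1 : g ∈ HH F q (iv n j 3)), f g = Ψ j ⟨g, h1⟩) ?_ ?_ ?_ y y.2 y.2
  · intro k hk1 hk2 g hg h1
    rw [hf, hΦ k (by omega) (by omega) g hg (htop g), hθ j k hj hk1 (by omega) g hg h1]
  · intro g hg h hh ihg ihh hgh
    rw [map_mul, ihg hg, ihh hh, ← map_mul]
    rfl
  · intro g hg ih h1
    rw [map_inv, ih hg, ← map_inv]
    rfl

end Cfsg.Agent.Phan
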