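import Cfsg.Agent.Phan.BuildTwo
import Cfsg.Agent.Phan.Main

/-!
# Gluing along intervals of coordinates, arbitrary field
-/

set_option autoImplicit false
set_option linter.unusedSectionVars false

namespace Cfsg.Agent.Phan

open Cfsg.Agent.Uni Module

variable {F : Type*} [Field F] [Fintype F] {q : ℕ} {n : ℕ}

/-- Interval subgroups are generated by the rank two ones. -/
theorem HH_iv3_le (hF : Fintype.card F = q ^ 2) (m : ℕ) (hm : 3 ≤ m) (i : ℕ)
    (him : i + m ≤ n) : HH F q (iv n i m) ≤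
      Subgroup.closure {g | ∃ j, i ≤ j ∧ j + 3 ≤ i + m ∧ g ∈ HH F q (iv n j 3)} := by
  induction m, hm using Nat.le_induction generalizing i with
  | base =>
    intro g hg
    exact Subgroup.subset_closure ⟨i, le_rfl, le_rfl, hg⟩
  | succ m hm ih =>
    have h1 : i < n := by omega
    have h2 : i + 1 < n := by omega
    have h3 : i + m < n := by omega
    rw [HH_gen' hF (S := iv n i (m + 1)) (a := ⟨i, h1⟩) (b := ⟨i + 1, h2⟩) (z := ⟨i + m, h3⟩)
      (by rw [mem_iv]; simp only; omega) (by rw [mem_iv]; simp only; omega)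
      (by rw [mem_iv]; simp only; omega) (by rw [Ne, Fin.ext_iff]; simp only; omega)
      (by rw [Ne, Fin.ext_iff]; simp only; omega) (by rw [Ne, Fin.ext_iff]; simp only; omega)
      (by rw [iv_card (by omega)]; omega),
      iv_erase_left, iv_erase_right]
    apply sup_le
    · refine (ih (i + 1) (by omega)).trans (Subgroup.closure_mono ?_)
      rintro g ⟨j, h4, h5, h6⟩
      exact ⟨j, by omega, by omega, h6⟩
    · refine (ih i (by omega)).trans (Subgroup.closure_mono ?_)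
      rintro g ⟨j, h4, h5, h6⟩
      exact ⟨j, by omega, by omega, h6⟩

theorem HH_ind3 (hF : Fintype.card F = q ^ 2) {m : ℕ} (hm : 3 ≤ m) {i : ℕ}
    (him : i + m ≤ n) {P : SU n F q → Prop}
    (h1 : ∀ j, i ≤ j → j + 3 ≤ i + m → ∀ g ∈ HH F q (iv n j 3), P g)
    (hmul : ∀ g ∈ HH F q (iv n i m), ∀ h ∈ HH F q (iv n i m), P g → P h → P (g * h))
    (hinv : ∀ g ∈ HH F q (iv n i m), P g → P g⁻¹) : ∀ g ∈ HH F q (iv n i m), P g := by
  intro g hg
  have h2 : Subgroup.closure {g : SU n F q | ∃ j, i ≤ j ∧ j + 3 ≤ i + m ∧ g ∈ HH F q (iv n j 3)} ≤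
      HH F q (iv n i m) := by
    rw [Subgroup.closure_le]
    rintro x ⟨j, h3, h4, h5⟩
    exact HH_mono (iv_mono h3 h4) h5
  have h3 := HH_iv3_le hF m hm i him hg
  induction h3 using Subgroup.closure_induction with
  | mem x hx =>
    obtain ⟨j, h4, h5, h6⟩ := hx
    exact h1 j h4 h5 x h6
  | one => exact h1 i le_rfl (by omega) 1 (one_mem _)
  | mul x y hx hy ihx ihy => exact hmul x (h2 hx) y (h2 hy) (ihx (h2 hx)) (ihy (h2 hy))
  | inv x hx ih => exact hinv x (h2 hx) (ih (h2 hx))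

/-- **Gluing along intervals.** -/
theorem exists_glue_iv3 {G : Type*} [Group G] (hF : Fintype.card F = q ^ 2)
    (Ψ : ∀ j : ℕ, HH F q (iv n j 3) →* G)
    (hcomm : ∀ i j, i + 2 ≤ j → j + 3 ≤ n → ∀ (g : HH F q (iv n i 3)) (h : HH F q (iv n j 3)),
      (g : SU n F q) ∈ HH F q (iv n i 2) → Ψ i g * Ψ j h = Ψ j h * Ψ i g)
    (hcomm3 : ∀ i j, i + 3 ≤ j → j + 3 ≤ n → ∀ (g : HH F q (iv n i 3)) (h : HH F q (iv n j 3)),
      Ψ i g * Ψ j h = Ψ j h * Ψ i g)
    (hbase : ∀ i, i + 4 ≤ n → ∃ Φ : HH F q (iv n i 4) →* G,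
      ∀ j, i ≤ j → j + 3 ≤ i + 4 → ∀ (g : SU n F q) (hg : g ∈ HH F q (iv n j 3))
        (hg' : g ∈ HH F q (iv n i 4)), Φ ⟨g, hg'⟩ = Ψ j ⟨g, hg⟩)
    (m : ℕ) (hm : 4 ≤ m) (i : ℕ) (him : i + m ≤ n) :
    ∃ Φ : HH F q (iv n i m) →* G,
      ∀ j, i ≤ j → j + 3 ≤ i + m → ∀ (g : SU n F q) (hg : g ∈ HH F q (iv n j 3))
        (hg' : g ∈ HH F q (iv n i m)), Φ ⟨g, hg'⟩ = Ψ j ⟨g, hg⟩ := by
  suffices h : ∀ S : Finset (Fin n), S = iv n i m → ∃ Φ : HH F q S →* G,
      ∀ j, i ≤ j → j + 3 ≤ i + m → ∀ (g : SU n F q) (hg : g ∈ HH F q (iv n j 3))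
        (hg' : g ∈ HH F q S), Φ ⟨g, hg'⟩ = Ψ j ⟨g, hg⟩ from h _ rfl
  induction m, hm using Nat.le_induction generalizing i with
  | base =>
    rintro S rfl
    exact hbase i him
  | succ m hm ih =>
    rintro S rfl
    have h1 : i < n := by omega
    have h2 : i + 1 < n := by omega
    have h3 : i + m < n := by omega
    have h2' : i + 3 < n := by omega
    have h2d : i + 2 < n := by omega
    obtain ⟨ΦA, hΦA⟩ := ih (i + 1) (by omega) ((iv n i (m + 1)).erase ⟨i, h1⟩)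
      (iv_erase_left h1)
    obtain ⟨ΦB, hΦB⟩ := ih i (by omega) ((iv n i (m + 1)).erase ⟨i + m, h3⟩)
      (iv_erase_right h3)
    have hagree : ∀ (g : SU n F q) (hA : g ∈ HH F q ((iv n i (m + 1)).erase ⟨i, h1⟩))
        (hB : g ∈ HH F q ((iv n i (m + 1)).erase ⟨i + m, h3⟩)),
        ΦA ⟨g, hA⟩ = ΦB ⟨g, hB⟩ := by
      intro g hA hB
      have hsubA : HH F q (iv n (i + 1) (m - 1)) ≤ HH F q ((iv n i (m + 1)).erase ⟨i, h1⟩) := by
        rw [iv_erase_left]; exact HH_mono (iv_mono (by omega) (by omega))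
      have hsubB : HH F q (iv n (i + 1) (m - 1)) ≤
          HH F q ((iv n i (m + 1)).erase ⟨i + m, h3⟩) := by
        rw [iv_erase_right]; exact HH_mono (iv_mono (by omega) (by omega))
      have hg : g ∈ HH F q (iv n (i + 1) (m - 1)) := by
        rw [iv_erase_left] at hA
        rw [iv_erase_right] at hB
        intro k hk
        rw [mem_iv] at hk
        by_cases hki : i + 1 ≤ (k : ℕ) ∧ (k : ℕ) < i + 1 + m
        · exact hB k (by rw [mem_iv]; omega)
        · exact hA k (by rw [mem_iv]; omega)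
      refine HH_ind3 hF (m := m - 1) (by omega) (i := i + 1) (by omega)
        (P := fun g => ∀ hA hB, ΦA ⟨g, hA⟩ = ΦB ⟨g, hB⟩) ?_ ?_ ?_ g hg hA hB
      · intro j hj1 hj2 g hg hA hB
        rw [hΦA j hj1 (by omega) g hg hA, hΦB j (by omega) (by omega) g hg hB]
      · intro g hg h hh ihg ihh hA hB
        have e1 := ihg (hsubA hg) (hsubB hg)
        have e2 := ihh (hsubA hh) (hsubB hh)
        have e3 : ΦA ⟨g * h, hA⟩ = ΦA ⟨g, hsubA hg⟩ * ΦA ⟨h, hsubA hh⟩ := by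
          rw [← map_mul]; rfl
        have e4 : ΦB ⟨g * h, hB⟩ = ΦB ⟨g, hsubB hg⟩ * ΦB ⟨h, hsubB hh⟩ := by
          rw [← map_mul]; rfl
        rw [e3, e4, e1, e2]
      · intro g hg ihg hA hB
        have e1 := ihg (hsubA hg) (hsubB hg)
        have e3 : ΦA ⟨g⁻¹, hA⟩ = (ΦA ⟨g, hsubA hg⟩)⁻¹ := by
          rw [← map_inv]; rfl
        have e4 : ΦB ⟨g⁻¹, hB⟩ = (ΦB ⟨g, hsubB hg⟩)⁻¹ := by
          rw [← map_inv]; rfl
        rw [e3, e4, e1]
    have hcomm' : ∀ (g : SU n F q) (hgB : g ∈ HH F q ((iv n i (m + 1)).erase ⟨i + m, h3⟩))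
        (_ : g ∈ HH F q {(⟨i, h1⟩ : Fin n), (⟨i + 1, h2⟩ : Fin n)}) (h : SU n F q)
        (hhA : h ∈ HH F q ((iv n i (m + 1)).erase ⟨i, h1⟩))
        (_ : h ∈ HH F q (((iv n i (m + 1)).erase ⟨i, h1⟩).erase ⟨i + 1, h2⟩)),
        ΦB ⟨g, hgB⟩ * ΦA ⟨h, hhA⟩ = ΦA ⟨h, hhA⟩ * ΦB ⟨g, hgB⟩ := by
      intro g hgB hg h hhA hh
      have hg2 : g ∈ HH F q (iv n i 2) := by
        intro k hk
        refine hg k ?_
        rw [mem_iv] at hk
        simp only [Finset.mem_insert, Finset.mem_singleton, Fin.ext_iff]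
        omega
      have hg3 : g ∈ HH F q (iv n i 3) := HH_mono (iv_mono le_rfl (by omega)) hg2
      have hh2 : h ∈ HH F q (iv n (i + 2) (m - 1)) := by
        intro k hk
        refine hh k ?_
        rw [mem_iv] at hk
        rw [iv_erase_left, Finset.mem_erase, mem_iv, Ne, Fin.ext_iff]
        simp only
        omega
      rw [hΦB i le_rfl (by omega) g hg3 hgB]
      have hsub : HH F q (iv n (i + 2) (m - 1)) ≤ HH F q ((iv n i (m + 1)).erase ⟨i, h1⟩) := by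
        rw [iv_erase_left]; exact HH_mono (iv_mono (by omega) (by omega))
      refine HH_ind3 hF (m := m - 1) (by omega) (i := i + 2) (by omega)
        (P := fun h => ∀ hhA, Ψ i ⟨g, hg3⟩ * ΦA ⟨h, hhA⟩ = ΦA ⟨h, hhA⟩ * Ψ i ⟨g, hg3⟩)
        ?_ ?_ ?_ h hh2 hhA
      · intro j hj1 hj2 x hx hxA
        rw [hΦA j (by omega) (by omega) x hx hxA]
        exact hcomm i j hj1 (by omega) _ _ hg2
      · intro x hx y hy ihx ihy hxy
        have e1 := ihx (hsub hx)
        have e2 := ihy (hsub hy)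
        have e3 : ΦA ⟨x * y, hxy⟩ = ΦA ⟨x, hsub hx⟩ * ΦA ⟨y, hsub hy⟩ := by
          rw [← map_mul]; rfl
        rw [e3, ← mul_assoc, e1, mul_assoc, e2, mul_assoc]
      · intro x hx ihx hxA
        have e1 := ihx (hsub hx)
        have e3 : ΦA ⟨x⁻¹, hxA⟩ = (ΦA ⟨x, hsub hx⟩)⁻¹ := by
          rw [← map_inv]; rfl
        rw [e3]
        exact (Commute.inv_right (show Commute (Ψ i ⟨g, hg3⟩) (ΦA ⟨x, hsub hx⟩) from e1)).eq
    obtain ⟨Φ, hA, hB⟩ := exists_glue2 (a := ⟨i, h1⟩) (z := ⟨i + m, h3⟩) ΦA ΦB hagree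
      ⟨i + 1, h2⟩ ⟨i + 3, h2'⟩ (by rw [mem_iv]; simp only; omega)
      (by rw [mem_iv]; simp only; omega) (by rw [mem_iv]; simp only; omega)
      (by rw [mem_iv]; simp only; omega) (by rw [Ne, Fin.ext_iff]; simp only; omega)
      (by rw [Ne, Fin.ext_iff]; simp only; omega) (by rw [Ne, Fin.ext_iff]; simp only; omega)
      (by rw [Ne, Fin.ext_iff]; simp only; omega) (by rw [Ne, Fin.ext_iff]; simp only; omega)
      (by rw [Ne, Fin.ext_iff]; simp only; omega) hcomm' hF (by rw [iv_card (by omega)]; omega) (by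
        intro h6
        rw [iv_card (by omega)] at h6
        refine ⟨⟨i + 2, h2d⟩, by rw [mem_iv]; simp only; omega,
          by rw [Ne, Fin.ext_iff]; simp only; omega, by rw [Ne, Fin.ext_iff]; simp only; omega,
          by rw [Ne, Fin.ext_iff]; simp only; omega, by rw [Ne, Fin.ext_iff]; simp only; omega, ?_⟩
        intro g hgB hg h hhA hh
        have hg3 : g ∈ HH F q (iv n i 3) := by
          intro k hk
          refine hg k ?_
          rw [mem_iv] at hk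
          simp only [Finset.mem_insert, Finset.mem_singleton, Fin.ext_iff]
          omega
        have hh3 : h ∈ HH F q (iv n (i + 3) 3) := by
          intro k hk
          refine hh k ?_
          rw [mem_iv] at hk
          rw [iv_erase_left, Finset.mem_erase, Finset.mem_erase, mem_iv, Ne, Ne, Fin.ext_iff,
            Fin.ext_iff]
          simp only
          omega
        rw [hΦB i le_rfl (by omega) g hg3 hgB, hΦA (i + 3) (by omega) (by omega) h hh3 hhA]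
        exact hcomm3 i (i + 3) le_rfl (by omega) _ _)
    refine ⟨Φ, ?_⟩
    intro j hj1 hj2 g hg hg'
    by_cases hji : j = i
    · subst hji
      have hgB : g ∈ HH F q ((iv n j (m + 1)).erase ⟨j + m, h3⟩) := by
        rw [iv_erase_right]; exact HH_mono (iv_mono (by omega) (by omega)) hg
      rw [← hΦB j le_rfl (by omega) g hg hgB, ← hB g hgB]
    · have hgA : g ∈ HH F q ((iv n i (m + 1)).erase ⟨i, h1⟩) := by
        rw [iv_erase_left]; exact HH_mono (iv_mono (by omega) (by omega)) hg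
      rw [← hΦA j (by omega) (by omega) g hg hgA, ← hA g hgA]

/-- **The recognition theorem over an arbitrary field.** -/
theorem exists_hom2 {G : Type*} [Group G] (hF : Fintype.card F = q ^ 2) (hn : 4 ≤ n)
    (V : ℕ → Subgroup G) (Ψ : ∀ j, HH F q (iv n j 3) →* G)
    (hΨ : ∀ j, j + 3 ≤ n → ∀ x ∈ V j, ∃ g, Ψ j g = x)
    (hcomm : ∀ i j, i + 2 ≤ j → j + 3 ≤ n → ∀ (g : HH F q (iv n i 3)) (h : HH F q (iv n j 3)),
      (g : SU n F q) ∈ HH F q (iv n i 2) → Ψ i g * Ψ j h = Ψ j h * Ψ i g)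
    (hcomm3 : ∀ i j, i + 3 ≤ j → j + 3 ≤ n → ∀ (g : HH F q (iv n i 3)) (h : HH F q (iv n j 3)),
      Ψ i g * Ψ j h = Ψ j h * Ψ i g)
    (hbase : ∀ i, i + 4 ≤ n → ∃ Φ : HH F q (iv n i 4) →* G,
      ∀ j, i ≤ j → j + 3 ≤ i + 4 → ∀ (g : SU n F q) (hg : g ∈ HH F q (iv n j 3))
        (hg' : g ∈ HH F q (iv n i 4)), Φ ⟨g, hg'⟩ = Ψ j ⟨g, hg⟩) :
    ∃ f : SU n F q →* G, ∀ j, j + 3 ≤ n → ∀ x ∈ V j, ∃ y, f y = x := by
  classical
  obtain ⟨Φ, hΦ⟩ := exists_glue_iv3 hF Ψ hcomm hcomm3 hbase n hn 0 (by omega)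
  have htop : ∀ g : SU n F q, g ∈ HH F q (iv n 0 n) := by
    intro g k hk
    exact absurd (by rw [mem_iv]; omega) hk
  obtain ⟨f, hf⟩ : ∃ f : SU n F q →* G, ∀ g, f g = Φ ⟨g, htop g⟩ :=
    ⟨Φ.comp ((MonoidHom.id (SU n F q)).codRestrict _ htop), fun g => rfl⟩
  refine ⟨f, ?_⟩
  intro j hj x hx
  obtain ⟨y, hy⟩ := hΨ j hj x hx
  refine ⟨y, ?_⟩
  rw [← hy, hf]
  exact hΦ j (by omega) (by omega) y y.2 (htop y)

end Cfsg.Agent.Phan
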