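import Cfsg.Agent.Phan.Comp
import Cfsg.Agent.Uni.Simple

/-!
# Identification of the rank one subgroups in images of `SU_4(3)`
-/

set_option autoImplicit false
set_option linter.unusedSectionVars false
set_option linter.unusedSimpArgs false

namespace Cfsg.Agent.Phan

open Cfsg.Agent.Uni Module Matrix

variable {F : Type*} [Field F] [Fintype F]

theorem three_eq_zero (hF : Fintype.card F = 3 ^ 2) : (3 : F) = 0 := by
  have := FiniteField.cast_card_eq_zero F
  rw [hF] at this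
  have h9 : (9 : F) = 0 := by exact_mod_cast this
  have : (3 : F) * 3 = 0 := by linear_combination h9
  exact mul_self_eq_zero.1 this

theorem two_ne_zero3 (hF : Fintype.card F = 3 ^ 2) : (2 : F) ≠ 0 := by
  intro h
  have : (1 : F) = 0 := by linear_combination three_eq_zero hF - h
  exact one_ne_zero this

theorem cube_one (hF : Fintype.card F = 3 ^ 2) {c : F} (h : c ^ 3 = 1) : c = 1 := by
  have h1 : (c - 1) ^ 3 = 0 := by linear_combination h - (c ^ 2 - c) * three_eq_zero hF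
  exact sub_eq_zero.1 (pow_eq_zero_iff (by norm_num) |>.1 h1)

/-- `SU_2(3)` is generated by elements of order three. -/
theorem three_ind (hF : Fintype.card F = 3 ^ 2) (P : SU 2 F 3 → Prop)
    (h3 : ∀ s, s ^ 3 = 1 → P s) (hmul : ∀ a b, P a → P b → P (a * b)) : ∀ x, P x := by
  obtain ⟨S, P', Q, φ, -, -, -, -⟩ := exists_iso_SL2 hF
  have key : ∀ A : Matrix.SpecialLinearGroup (Fin 2) S, P (φ A) := by
    intro A
    refine Matrix.SL2.transvection_induction (fun A => P (φ A)) ?_ ?_ A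
    · intro i j hij b
      apply h3
      rw [← map_pow]
      have : Matrix.SpecialLinearGroup.transvection hij b ^ 3 = 1 := by
        rw [pow_succ, pow_two, ← Matrix.SpecialLinearGroup.transvection_add,
          ← Matrix.SpecialLinearGroup.transvection_add]
        have h : b + b + b = 0 := by
          have h3S : (3 : S) = 0 := by
            have h : ((3 : S) : F) = ((0 : S) : F) := three_eq_zero hF
            exact Subtype.ext h
          linear_combination b * h3S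
        rw [h, Matrix.SpecialLinearGroup.transvection_coeff_zero]
      rw [this, map_one]
    · intro A B hA hB
      rw [map_mul]
      exact hmul _ _ hA hB
  intro x
  have := key (φ.symm x)
  rwa [MulEquiv.apply_symm_apply] at this

theorem HH_three_ind (hF : Fintype.card F = 3 ^ 2) {n j : ℕ} (hj : j + 2 ≤ n)
    (P : HH F 3 (iv n j 2) → Prop)
    (h3 : ∀ s, s ^ 3 = 1 → P s) (hmul : ∀ a b, P a → P b → P (a * b)) : ∀ x, P x := by
  have key := three_ind hF (fun y => P ((kap hj hF).symm y)) (by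
    intro s hs
    apply h3
    rw [← map_pow, hs, map_one]) (by
    intro a b ha hb
    rw [map_mul]
    exact hmul _ _ ha hb)
  intro x
  have := key (kap hj hF x)
  rwa [MulEquiv.symm_apply_apply] at this

/-- scalars of determinant one -/
theorem scalar_pow {q n : ℕ} {x : SU n F q} {ζ : F} (h : ∀ v, act x v = ζ • v) : ζ ^ n = 1 := by
  have h1 : mt x = Matrix.diagonal (fun _ => ζ) := by
    ext k l
    rw [← act_ee, h]
    by_cases hkl : k = l
    · subst hkl; simp
    · rw [Matrix.diagonal_apply_ne _ hkl]; simp [hkl]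
  have h2 : (mt x).det = 1 := x.1.2
  rw [h1, Matrix.det_diagonal, Finset.prod_const, Finset.card_univ, Fintype.card_fin] at h2
  exact h2

section
variable {G : Type*} [Group G] (hF : Fintype.card F = 3 ^ 2) {γ : SU 4 F 3 →* G}
  (hker : ∀ x, γ x = 1 → ∃ ζ : F, ∀ v, act x v = ζ • v)

include hF hker in
theorem ker_central {x : SU 4 F 3} (hx : γ x = 1) (r : SU 4 F 3) : x * r = r * x := by
  obtain ⟨ζ, hζ⟩ := hker x hx
  apply act_ext
  intro v
  rw [act_mul, act_mul, hζ, hζ, act_smul]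

include hF hker in
theorem ker_cube {x : SU 4 F 3} (hx : γ x = 1) (h3 : x ^ 3 = 1) : x = 1 := by
  obtain ⟨ζ, hζ⟩ := hker x hx
  have h1 : ∀ k : ℕ, ∀ v, act (x ^ k) v = ζ ^ k • v := by
    intro k
    induction k with
    | zero => intro v; rw [pow_zero, pow_zero, one_smul, act_one]
    | succ k ih => intro v; rw [pow_succ, act_mul, hζ, act_smul, ih, smul_smul, pow_succ, mul_comm]
  have h2 := h1 3 (ee F 0)
  rw [h3, act_one] at h2
  have h4 : ζ ^ 3 = 1 := by
    have := congrFun h2 0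
    simpa using this.symm
  have h5 := cube_one hF h4
  apply act_ext
  intro v
  rw [hζ, h5, one_smul, act_one]

include hF hker in
/-- Elements of order three commute with lifts of commuting elements. -/
theorem comm_lift {s r : SU 4 F 3} (hs : s ^ 3 = 1) (h : γ s * γ r = γ r * γ s) :
    s * r = r * s := by
  obtain ⟨x, hx⟩ : ∃ x, x = s * r * s⁻¹ * r⁻¹ := ⟨_, rfl⟩
  have hγ : γ x = 1 := by
    rw [hx, map_mul, map_mul, map_mul, h, map_inv, map_inv]; group
  have hc := ker_central hF hker hγ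
  have h1 : s * r = x * (r * s) := by rw [hx]; group
  have h2 : s ^ 3 * r = x ^ 3 * (r * s ^ 3) := by
    calc s ^ 3 * r = s * (s * (s * r)) := by simp only [pow_succ, pow_zero, one_mul, mul_assoc]
      _ = s * (s * (x * (r * s))) := by rw [h1]
      _ = s * ((s * x) * (r * s)) := by group
      _ = s * ((x * s) * (r * s)) := by rw [← hc s]
      _ = (s * x) * ((s * r) * s) := by group
      _ = (x * s) * ((x * (r * s)) * s) := by rw [← hc s, h1]
      _ = x * ((s * x) * (r * s * s)) := by group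
      _ = x * ((x * s) * (r * s * s)) := by rw [← hc s]
      _ = x * x * ((s * r) * s * s) := by group
      _ = x * x * (x * (r * s) * s * s) := by rw [h1]
      _ = x ^ 3 * (r * s ^ 3) := by simp only [pow_succ, pow_zero, one_mul, mul_assoc]
  rw [hs, one_mul, mul_one] at h2
  have h3 : x ^ 3 = 1 := by
    have : x ^ 3 * r = 1 * r := by rw [one_mul]; exact h2.symm
    exact mul_right_cancel this
  have h4 := ker_cube hF hker hγ h3
  rw [h4, one_mul] at h1
  exact h1

include hF hker in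
/-- Elements of order three lift to elements of order three. -/
theorem lift_three {y : SU 4 F 3} (hy : γ y ^ 3 = 1) : ∃ s, γ s = γ y ∧ s ^ 3 = 1 := by
  have h1 : γ (y ^ 3) = 1 := by rw [map_pow, hy]
  obtain ⟨ζ, hζ⟩ := hker _ h1
  have h2 := scalar_pow hζ
  have h3 : (y ^ 3) ^ 4 = 1 := by
    have h4 : ∀ k : ℕ, ∀ v, act ((y ^ 3) ^ k) v = ζ ^ k • v := by
      intro k
      induction k with
      | zero => intro v; rw [pow_zero, pow_zero, one_smul, act_one]
      | succ k ih =>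
        intro v; rw [pow_succ, act_mul, hζ, act_smul, ih, smul_smul, pow_succ, mul_comm]
    apply act_ext
    intro v
    rw [h4, h2, one_smul, act_one]
  refine ⟨y ^ 4, ?_, ?_⟩
  · rw [map_pow, pow_succ, hy, one_mul]
  · rw [← pow_mul] at h3 ⊢
    exact h3

include hF hker in
/-- good lifts -/
theorem exists_good {j : ℕ} (hj : j + 2 ≤ 4) (E : HH F 3 (iv 4 j 2) →* G)
    (hr : ∀ x, ∃ y, γ y = E x) (x : HH F 3 (iv 4 j 2)) :
    ∃ s, γ s = E x ∧ ∀ r, (∀ y, γ r * E y = E y * γ r) → s * r = r * s := by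
  refine HH_three_ind hF hj (fun x => ∃ s, γ s = E x ∧ ∀ r,
    (∀ y, γ r * E y = E y * γ r) → s * r = r * s) ?_ ?_ x
  · intro x hx
    obtain ⟨y, hy⟩ := hr x
    obtain ⟨s, hs, hs3⟩ := lift_three hF hker (y := y) (by rw [hy, ← map_pow, hx, map_one])
    refine ⟨s, hs.trans hy, fun r hr => ?_⟩
    apply comm_lift hF hker hs3
    rw [hs, hy]
    exact (hr x).symm
  · rintro a b ⟨s, hs, hs'⟩ ⟨t, ht, ht'⟩
    refine ⟨s * t, by rw [map_mul, hs, ht, map_mul], fun r hr => ?_⟩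
    rw [mul_assoc, ht' r hr, ← mul_assoc, hs' r hr, mul_assoc]

end

/-! ### Involutions of `SU_4(3)` -/

theorem exists_neg_one (hF : Fintype.card F = 3 ^ 2) :
    ∃ m : SU 4 F 3, ∀ v, act m v = -v := by
  have hp : Pres 3 (-1 : Matrix (Fin 4) (Fin 4) F) := by
    intro u v
    rw [Matrix.neg_mulVec, Matrix.neg_mulVec, Matrix.one_mulVec, Matrix.one_mulVec,
      hermForm_neg_left, hermForm_neg_right hF, neg_neg]
  have hd : (-1 : Matrix (Fin 4) (Fin 4) F).det = 1 := by
    rw [Matrix.det_neg, Matrix.det_one, Fintype.card_fin]; ring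
  refine ⟨mkSU (-1) hp hd, fun v => ?_⟩
  rw [act_def, mkSU_coe, Matrix.neg_mulVec, Matrix.one_mulVec]

/-- An element of `SU_4` acting as the identity on three orthonormal vectors is trivial. -/
theorem eq_one_of_fix3 {q : ℕ} (hF : Fintype.card F = q ^ 2) {a b c : Fin 4 → F}
    (ha : hermForm 4 F q a a = 1) (hb : hermForm 4 F q b b = 1) (hc : hermForm 4 F q c c = 1)
    (hab : hermForm 4 F q a b = 0) (hac : hermForm 4 F q a c = 0) (hbc : hermForm 4 F q b c = 0)
    {g : SU 4 F q} (hga : act g a = a) (hgb : act g b = b) (hgc : act g c = c) : g = 1 := by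
  obtain ⟨k, -, hk0, hk1, hk2⟩ := exists_HH3 hF (S := (Finset.univ : Finset (Fin 4)))
    (a := 0) (b := 1) (c := 2) (i0 := 3) (Finset.mem_univ _) (Finset.mem_univ _)
    (Finset.mem_univ _) (by decide) (by decide) (by decide) (Finset.mem_univ _) (by decide)
    (by decide) (by decide) (u := a) (v := b) (w := c)
    ⟨fun l hl => absurd (Finset.mem_univ l) hl, ha⟩
    ⟨fun l hl => absurd (Finset.mem_univ l) hl, hb⟩
    ⟨fun l hl => absurd (Finset.mem_univ l) hl, hc⟩ hab hac hbc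
  have h1 : k⁻¹ * g * k ∈ HH F q ({3} : Finset (Fin 4)) := by
    intro i hi
    rw [Finset.mem_singleton] at hi
    rw [act_mul, act_mul]
    fin_cases i
    · change act k⁻¹ (act g (act k (ee F 0))) = ee F 0
      rw [hk0, hga, ← hk0, act_inv_act]
    · change act k⁻¹ (act g (act k (ee F 1))) = ee F 1
      rw [hk1, hgb, ← hk1, act_inv_act]
    · change act k⁻¹ (act g (act k (ee F 2))) = ee F 2
      rw [hk2, hgc, ← hk2, act_inv_act]
    · exact absurd rfl hi
  have h2 := HH_singleton hF h1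
  have h3 : g = k * (k⁻¹ * g * k) * k⁻¹ := by group
  rw [h3, h2]; group

/-- unit eigenvectors of involutions -/
theorem exists_eig {q n : ℕ} (hF : Fintype.card F = q ^ 2) (h2 : (2 : F) ≠ 0) {z : SU n F q}
    (hz : ∀ v, act z (act z v) = v) {W : Submodule F (Fin n → F)} (hW : ND q W)
    (hWz : ∀ w ∈ W, act z w ∈ W) {ε : F} (hε : ε = 1 ∨ ε = -1)
    (h : ∃ w ∈ W, act z w ≠ -ε • w) : ∃ u, Un q W u ∧ act z u = ε • u := by
  obtain ⟨w, hw, hne⟩ := h
  have hεε : ε * ε = 1 := by rcases hε with rfl | rfl <;> ring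
  obtain ⟨P, hP⟩ : ∃ P : (Fin n → F) → (Fin n → F), P = fun v => v + ε • act z v := ⟨_, rfl⟩
  have hPz : ∀ v, act z (P v) = ε • P v := by
    intro v
    rw [hP]
    simp only
    rw [act_add, act_smul, hz, smul_add, smul_smul, hεε, one_smul, add_comm]
  have hPW : ∀ v ∈ W, P v ∈ W := by
    intro v hv
    rw [hP]
    exact W.add_mem hv (W.smul_mem _ (hWz v hv))
  have hP0 : P w ≠ 0 := by
    intro h0
    apply hne
    rw [hP] at h0
    have h1 : ε • (w + ε • act z w) = 0 := by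
      have := congrArg (fun v => ε • v) h0
      simpa using this
    rw [smul_add, smul_smul, hεε, one_smul] at h1
    rw [neg_smul]
    exact eq_neg_of_add_eq_zero_right h1
  obtain ⟨y, hy, hyne⟩ : ∃ y ∈ W, hermForm n F q (P w) y ≠ 0 := by
    by_contra hcon
    push Not at hcon
    exact hP0 (hW _ (hPW w hw) hcon)
  obtain ⟨E, hE⟩ : ∃ E : Submodule F (Fin n → F), ∀ v, v ∈ E ↔ v ∈ W ∧ act z v = ε • v := by
    refine ⟨{ carrier := {v | v ∈ W ∧ act z v = ε • v}, add_mem' := ?_, zero_mem' := ?_,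
              smul_mem' := ?_ }, fun v => Iff.rfl⟩
    · rintro a b ⟨ha, ha'⟩ ⟨hb, hb'⟩
      exact ⟨W.add_mem ha hb, by rw [act_add, ha', hb', smul_add]⟩
    · exact ⟨W.zero_mem, by rw [act_zero, smul_zero]⟩
    · rintro c v ⟨hv, hv'⟩
      exact ⟨W.smul_mem _ hv, by rw [act_smul, hv', smul_comm]⟩
  obtain ⟨u, huE, hu⟩ := exists_unit_mem hF E (u := P w) (w := P y)
    ((hE _).2 ⟨hPW w hw, hPz w⟩) ((hE _).2 ⟨hPW y hy, hPz y⟩) (by
      have h1 : hermForm n F q (P w) (act z y) = ε * hermForm n F q (P w) y := by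
        have h3 : hermForm n F q (act z (P w)) (act z (act z y)) = hermForm n F q (P w) (act z y) :=
          act_form _ _ _
        rw [hz, hPz, hermForm_smul_left] at h3
        exact h3.symm
      have h4 : hermForm n F q (P w) (ε • act z y) = hermForm n F q (P w) y := by
        rcases hε with rfl | rfl
        · rw [one_smul, h1, one_mul]
        · rw [neg_one_smul, hermForm_neg_right hF, h1]; ring
      have h5 : hermForm n F q (P w) (P y) = 2 * hermForm n F q (P w) y := by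
        have h6 : P y = y + ε • act z y := by rw [hP]
        rw [h6, hermForm_add_right hF, h4]; ring
      rw [h5]
      exact mul_ne_zero h2 hyne)
  obtain ⟨h6, h7⟩ := (hE u).1 huE
  exact ⟨u, ⟨h6, hu⟩, h7⟩

/-- Noncentral involutions of `SU_4(3)` have two dimensional eigenspaces. -/
theorem eig_split (hF : Fintype.card F = 3 ^ 2) {z : SU 4 F 3} (hzz : z * z = 1)
    (hns : ¬ ∃ ζ : F, ∀ v, act z v = ζ • v) :
    ∃ h : SU 4 F 3, act z (act h (ee F 0)) = -act h (ee F 0) ∧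
      act z (act h (ee F 1)) = -act h (ee F 1) ∧ act z (act h (ee F 2)) = act h (ee F 2) ∧
      act z (act h (ee F 3)) = act h (ee F 3) := by
  have h2 := two_ne_zero3 hF
  have hz : ∀ v, act z (act z v) = v := by intro v; rw [← act_mul, hzz, act_one]
  have hsc : ∀ ε : F, (ε = 1 ∨ ε = -1) → ∀ a b c : Fin 4 → F, hermForm 4 F 3 a a = 1 →
      hermForm 4 F 3 b b = 1 → hermForm 4 F 3 c c = 1 → hermForm 4 F 3 a b = 0 →
      hermForm 4 F 3 a c = 0 → hermForm 4 F 3 b c = 0 → act z a = ε • a → act z b = ε • b →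
      act z c = ε • c → False := by
    intro ε hε a b c ha hb hc hab hac hbc hza hzb hzc
    rcases hε with rfl | rfl
    · rw [one_smul] at hza hzb hzc
      have := eq_one_of_fix3 hF ha hb hc hab hac hbc hza hzb hzc
      exact hns ⟨1, fun v => by rw [this, act_one, one_smul]⟩
    · obtain ⟨m, hm⟩ := exists_neg_one hF
      have h3 : m * z = 1 := by
        refine eq_one_of_fix3 hF ha hb hc hab hac hbc ?_ ?_ ?_ <;> rw [act_mul]
        · rw [hza, hm, neg_one_smul, neg_neg]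
        · rw [hzb, hm, neg_one_smul, neg_neg]
        · rw [hzc, hm, neg_one_smul, neg_neg]
      refine hns ⟨-1, fun v => ?_⟩
      have h4 : act (m * z) v = v := by rw [h3, act_one]
      rw [act_mul, hm] at h4
      rw [neg_one_smul, ← h4, neg_neg, h4]
  have hND := nd_top (n := 4) (q := 3) hF
  obtain ⟨a, haW, hza⟩ := exists_eig hF h2 hz hND (fun w _ => Submodule.mem_top) (ε := 1)
    (Or.inl rfl) (by
      by_contra hcon
      push Not at hcon
      exact hns ⟨-1, fun v => hcon v Submodule.mem_top⟩)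
  obtain ⟨b, hbW, hzb⟩ := exists_eig hF h2 hz hND (fun w _ => Submodule.mem_top) (ε := -1)
    (Or.inr rfl) (by
      by_contra hcon
      push Not at hcon
      exact hns ⟨1, fun v => by rw [hcon v Submodule.mem_top, neg_neg]⟩)
  rw [one_smul] at hza
  rw [neg_one_smul] at hzb
  have hab : hermForm 4 F 3 a b = 0 := by
    have h3 : hermForm 4 F 3 (act z a) (act z b) = hermForm 4 F 3 a b := act_form _ _ _
    rw [hza, hzb, hermForm_neg_right hF] at h3
    have h4 : (2 : F) * hermForm 4 F 3 a b = 0 := by linear_combination -h3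
    exact (mul_eq_zero.1 h4).resolve_left h2
  have hba := form_comm hF hab
  have hbW' : Un 3 (pp 3 ⊤ a) b := ⟨(mem_pp hF).2 ⟨Submodule.mem_top, hba⟩, hbW.2⟩
  obtain ⟨W, hW⟩ : ∃ W, W = pp 3 (pp 3 ⊤ a) b := ⟨_, rfl⟩
  have hWmem : ∀ w, w ∈ W ↔ hermForm 4 F 3 w a = 0 ∧ hermForm 4 F 3 w b = 0 := by
    intro w
    rw [hW, mem_pp hF, mem_pp hF]
    simp
  have hWND : ND 3 W := by rw [hW]; exact nd_pp hF (nd_pp hF hND haW) hbW'
  have hfin : finrank F W = 2 := by
    have h3 := finrank_pp hF haW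
    have h4 := finrank_pp hF hbW'
    have h5 : finrank F (⊤ : Submodule F (Fin 4 → F)) = 4 := by simp
    rw [hW]; omega
  have hWz : ∀ w ∈ W, act z w ∈ W := by
    intro w hw
    rw [hWmem] at hw ⊢
    constructor
    · rw [← hza, act_form]; exact hw.1
    · have h3 : hermForm 4 F 3 (act z w) (act z b) = 0 := by rw [act_form]; exact hw.2
      rw [hzb, hermForm_neg_right hF, neg_eq_zero] at h3
      exact h3
  -- two orthonormal vectors of `W`
  obtain ⟨u1, hu1⟩ := exists_un hF hWND (by omega)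
  obtain ⟨u2, hu2⟩ := exists_un hF (nd_pp hF hWND hu1) (by
    have := finrank_pp hF hu1; omega)
  have hu2' := (mem_pp hF).1 hu2.1
  have m1 := (hWmem u1).1 hu1.1
  have m2 := (hWmem u2).1 hu2'.1
  obtain ⟨a', ha'W, hza'⟩ := exists_eig hF h2 hz hWND hWz (ε := 1) (Or.inl rfl) (by
    by_contra hcon
    push Not at hcon
    refine hsc (-1) (Or.inr rfl) b u1 u2 hbW.2 hu1.2 hu2.2 (form_comm hF m1.2)
      (form_comm hF m2.2) (form_comm hF hu2'.2) (by rw [hzb, neg_one_smul]) (hcon u1 hu1.1)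
      (hcon u2 hu2'.1))
  obtain ⟨b', hb'W, hzb'⟩ := exists_eig hF h2 hz hWND hWz (ε := -1) (Or.inr rfl) (by
    by_contra hcon
    push Not at hcon
    refine hsc 1 (Or.inl rfl) a u1 u2 haW.2 hu1.2 hu2.2 (form_comm hF m1.1)
      (form_comm hF m2.1) (form_comm hF hu2'.2) (by rw [hza, one_smul])
      (by rw [hcon u1 hu1.1, neg_neg]) (by rw [hcon u2 hu2'.1, neg_neg]))
  rw [one_smul] at hza'
  rw [neg_one_smul] at hzb'
  have ma' := (hWmem a').1 ha'W.1
  have mb' := (hWmem b').1 hb'W.1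
  have ha'b' : hermForm 4 F 3 a' b' = 0 := by
    have h3 : hermForm 4 F 3 (act z a') (act z b') = hermForm 4 F 3 a' b' := act_form _ _ _
    rw [hza', hzb', hermForm_neg_right hF] at h3
    have h4 : (2 : F) * hermForm 4 F 3 a' b' = 0 := by linear_combination -h3
    exact (mul_eq_zero.1 h4).resolve_left h2
  obtain ⟨h, -, hh0, hh1, hh2⟩ := exists_HH3 hF (S := (Finset.univ : Finset (Fin 4)))
    (a := 0) (b := 1) (c := 2) (i0 := 3) (Finset.mem_univ _) (Finset.mem_univ _)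
    (Finset.mem_univ _) (by decide) (by decide) (by decide) (Finset.mem_univ _) (by decide)
    (by decide) (by decide) (u := b) (v := b') (w := a)
    ⟨fun l hl => absurd (Finset.mem_univ l) hl, hbW.2⟩
    ⟨fun l hl => absurd (Finset.mem_univ l) hl, hb'W.2⟩
    ⟨fun l hl => absurd (Finset.mem_univ l) hl, haW.2⟩ (form_comm hF mb'.2) hba mb'.1
  refine ⟨h, by rw [hh0, hzb], by rw [hh1, hzb'], by rw [hh2, hza], ?_⟩
  -- `h e₃` is proportional to `a'`
  have h3 : act h⁻¹ a' = (act h⁻¹ a' 3) • ee F 3 := by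
    have h4 : ∀ k : Fin 4, k ≠ 3 → act h⁻¹ a' k = 0 := by
      intro k hk
      have h5 : hermForm 4 F 3 (act h⁻¹ a') (act h⁻¹ (act h (ee F k))) =
          hermForm 4 F 3 a' (act h (ee F k)) := act_form _ _ _
      rw [act_inv_act, form_ee hF] at h5
      rw [h5]
      fin_cases k
      · change hermForm 4 F 3 a' (act h (ee F 0)) = 0
        rw [hh0]; exact ma'.2
      · change hermForm 4 F 3 a' (act h (ee F 1)) = 0
        rw [hh1]; exact ha'b'
      · change hermForm 4 F 3 a' (act h (ee F 2)) = 0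
        rw [hh2]; exact ma'.1
      · exact absurd rfl hk
    funext k
    by_cases hk : k = 3
    · subst hk; simp
    · rw [h4 k hk]; simp [hk]
  have h4 : a' = (act h⁻¹ a' 3) • act h (ee F 3) := by
    have := congrArg (act h) h3
    rw [act_act_inv, act_smul] at this
    exact this
  obtain ⟨c, hc⟩ : ∃ c, c = act h⁻¹ a' 3 := ⟨_, rfl⟩
  rw [← hc] at h4
  have hc0 : c ≠ 0 := by
    rintro rfl
    rw [zero_smul] at h4
    have := ha'W.2
    rw [h4, hermForm_zero_left] at this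
    exact zero_ne_one this
  rw [h4, act_smul] at hza'
  exact smul_right_injective _ hc0 hza'

/-! ### Block analysis -/

theorem alg_cross {K : Type*} [Field K] {w0 w1 w2 v0 v1 v2 u0 u1 u2 : K}
    (h1 : v1 * w2 = w1 * v2) (h2 : v0 * w1 = v1 * w0) (h3 : v2 * w0 = v0 * w2)
    (h1' : u1 * w2 = w1 * u2) (h2' : u0 * w1 = u1 * w0) (h3' : u2 * w0 = u0 * w2)
    (hne : v1 * u2 - v2 * u1 ≠ 0 ∨ v0 * u1 - v1 * u0 ≠ 0 ∨ v2 * u0 - v0 * u2 ≠ 0) :
    w0 = 0 ∧ w1 = 0 ∧ w2 = 0 := by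
  have a0 : w0 * (v1 * u2 - v2 * u1) = 0 := by
    linear_combination (-u2) * h2 + (-u1) * h3 + v0 * (- h1')
  have a1 : w1 * (v1 * u2 - v2 * u1) = 0 := by
    linear_combination u1 * h1 - v1 * h1'
  have a2 : w2 * (v1 * u2 - v2 * u1) = 0 := by
    linear_combination u2 * h1 - v2 * h1'
  have b0 : w0 * (v0 * u1 - v1 * u0) = 0 := by
    linear_combination u0 * h2 - v0 * h2'
  have b1 : w1 * (v0 * u1 - v1 * u0) = 0 := by
    linear_combination u1 * h2 - v1 * h2'
  have b2 : w2 * (v0 * u1 - v1 * u0) = 0 := by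
    linear_combination (-u0) * h1 + (-u1) * h3 + v2 * (-h2')
  have c0 : w0 * (v2 * u0 - v0 * u2) = 0 := by
    linear_combination u0 * h3 - v0 * h3'
  have c1 : w1 * (v2 * u0 - v0 * u2) = 0 := by
    linear_combination (-u2) * h2 + (-u0) * h1 + v1 * (-h3')
  have c2 : w2 * (v2 * u0 - v0 * u2) = 0 := by
    linear_combination u2 * h3 - v2 * h3'
  rcases hne with h | h | h
  · exact ⟨(mul_eq_zero.1 a0).resolve_right h, (mul_eq_zero.1 a1).resolve_right h,
      (mul_eq_zero.1 a2).resolve_right h⟩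
  · exact ⟨(mul_eq_zero.1 b0).resolve_right h, (mul_eq_zero.1 b1).resolve_right h,
      (mul_eq_zero.1 b2).resolve_right h⟩
  · exact ⟨(mul_eq_zero.1 c0).resolve_right h, (mul_eq_zero.1 c1).resolve_right h,
      (mul_eq_zero.1 c2).resolve_right h⟩

theorem mt_mul4 (g h : SU 4 F 3) (k l : Fin 4) : mt (g * h) k l =
    mt g k 0 * mt h 0 l + mt g k 1 * mt h 1 l + mt g k 2 * mt h 2 l + mt g k 3 * mt h 3 l := by
  have h1 : mt (g * h) k l = ∑ r, mt g k r * mt h r l := Matrix.mul_apply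
  rw [h1, Fin.sum_univ_four]

/-- Elements commuting with `D = diag(-1,-1,1,1)` are block diagonal. -/
theorem blk_of_comm (hF : Fintype.card F = 3 ^ 2) {D x : SU 4 F 3}
    (hD0 : act D (ee F 0) = -ee F 0) (hD1 : act D (ee F 1) = -ee F 1)
    (hD2 : act D (ee F 2) = ee F 2) (hD3 : act D (ee F 3) = ee F 3) (h : x * D = D * x) :
    mt x 0 2 = 0 ∧ mt x 0 3 = 0 ∧ mt x 1 2 = 0 ∧ mt x 1 3 = 0 ∧
    mt x 2 0 = 0 ∧ mt x 2 1 = 0 ∧ mt x 3 0 = 0 ∧ mt x 3 1 = 0 := by
  have h2 := two_ne_zero3 hF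
  have hDg : IsDg D := by
    intro k
    fin_cases k
    · exact ⟨-1, by rw [neg_one_smul]; exact hD0⟩
    · exact ⟨-1, by rw [neg_one_smul]; exact hD1⟩
    · exact ⟨1, by rw [one_smul]; exact hD2⟩
    · exact ⟨1, by rw [one_smul]; exact hD3⟩
  have d0 : mt D 0 0 = -1 := by rw [← act_ee, hD0]; simp
  have d1 : mt D 1 1 = -1 := by rw [← act_ee, hD1]; simp
  have d2 : mt D 2 2 = 1 := by rw [← act_ee, hD2]; simp
  have d3 : mt D 3 3 = 1 := by rw [← act_ee, hD3]; simp
  have key : ∀ k l, mt x k l * mt D l l = mt D k k * mt x k l := by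
    intro k l
    rw [← mt_mul_dg hDg, ← mt_dg_mul hDg, h]
  have e : ∀ {y : F}, y = -y → y = 0 := by
    intro y hy
    have : (2 : F) * y = 0 := by linear_combination hy
    exact (mul_eq_zero.1 this).resolve_left h2
  refine ⟨?_, ?_, ?_, ?_, ?_, ?_, ?_, ?_⟩
  · have := key 0 2; rw [d0, d2] at this; exact e (by linear_combination this)
  · have := key 0 3; rw [d0, d3] at this; exact e (by linear_combination this)
  · have := key 1 2; rw [d1, d2] at this; exact e (by linear_combination this)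
  · have := key 1 3; rw [d1, d3] at this; exact e (by linear_combination this)
  · have := key 2 0; rw [d0, d2] at this; exact e (by linear_combination -this)
  · have := key 2 1; rw [d1, d2] at this; exact e (by linear_combination -this)
  · have := key 3 0; rw [d0, d3] at this; exact e (by linear_combination -this)
  · have := key 3 1; rw [d1, d3] at this; exact e (by linear_combination -this)

/-- the commutant of an anticommuting pair on the first block -/
theorem scalar_of_comm (hF : Fintype.card F = 3 ^ 2) {D a b x : SU 4 F 3}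
    (hD0 : act D (ee F 0) = -ee F 0) (hD1 : act D (ee F 1) = -ee F 1)
    (hD2 : act D (ee F 2) = ee F 2) (hD3 : act D (ee F 3) = ee F 3)
    (haD : a * D = D * a) (hbD : b * D = D * b) (hab : a * b = D * b * a)
    (hxa : x * a = a * x) (hxb : x * b = b * x) :
    ∃ c : F, act x (ee F 0) = c • ee F 0 ∧ act x (ee F 1) = c • ee F 1 := by
  have h2 := two_ne_zero3 hF
  have hD : D = a * b * a⁻¹ * b⁻¹ := by rw [hab]; group
  have hxD : x * D = D * x := by
    have c1 : Commute x a := hxa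
    have c2 : Commute x b := hxb
    rw [hD]
    exact (((c1.mul_right c2).mul_right c1.inv_right).mul_right c2.inv_right).eq
  obtain ⟨a02, a03, a12, a13, a20, a21, a30, a31⟩ := blk_of_comm hF hD0 hD1 hD2 hD3 haD
  obtain ⟨b02, b03, b12, b13, b20, b21, b30, b31⟩ := blk_of_comm hF hD0 hD1 hD2 hD3 hbD
  obtain ⟨x02, x03, x12, x13, x20, x21, x30, x31⟩ := blk_of_comm hF hD0 hD1 hD2 hD3 hxD
  have hDg : IsDg D := by
    intro k
    fin_cases k
    · exact ⟨-1, by rw [neg_one_smul]; exact hD0⟩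
    · exact ⟨-1, by rw [neg_one_smul]; exact hD1⟩
    · exact ⟨1, by rw [one_smul]; exact hD2⟩
    · exact ⟨1, by rw [one_smul]; exact hD3⟩
  have d0 : mt D 0 0 = -1 := by rw [← act_ee, hD0]; simp
  have d1 : mt D 1 1 = -1 := by rw [← act_ee, hD1]; simp
  -- relations
  have xa : ∀ k l, mt (x * a) k l = mt (a * x) k l := by intro k l; rw [hxa]
  have xb : ∀ k l, mt (x * b) k l = mt (b * x) k l := by intro k l; rw [hxb]
  have xa00 := xa 0 0
  have xa01 := xa 0 1
  have xa10 := xa 1 0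
  have xb00 := xb 0 0
  have xb01 := xb 0 1
  have xb10 := xb 1 0
  simp only [mt_mul4, a02, a03, a12, a13, a20, a21, a30, a31, b02, b03, b12, b13, b20, b21, b30,
    b31, x02, x03, x12, x13, x20, x21, x30, x31, mul_zero, zero_mul, add_zero]
    at xa00 xa01 xa10 xb00 xb01 xb10
  -- anticommutation
  have ab : ∀ k, k = 0 ∨ k = 1 → mt (a * b) k 0 = -mt (b * a) k 0 := by
    intro k hk
    rw [hab, mul_assoc, mt_dg_mul hDg]
    rcases hk with rfl | rfl
    · rw [d0]; ring
    · rw [d1]; ring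
  have hne : mt (a * b) 0 0 ≠ 0 ∨ mt (a * b) 1 0 ≠ 0 := by
    by_contra hcon
    push Not at hcon
    have h3 : act (a * b) (ee F 0) = 0 := by
      funext k
      rw [act_ee]
      fin_cases k
      · exact hcon.1
      · exact hcon.2
      · change mt (a * b) 2 0 = 0
        rw [mt_mul4, a20, a21, b20, b30]; ring
      · change mt (a * b) 3 0 = 0
        rw [mt_mul4, a30, a31, b20, b30]; ring
    exact act_ne_zero (un_ee hF (Finset.mem_univ (0 : Fin 4))).ne_zero h3
  have ab0 := ab 0 (Or.inl rfl)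
  have ab1 := ab 1 (Or.inr rfl)
  simp only [mt_mul4, a02, a03, a12, a13, a20, a21, a30, a31, b02, b03, b12, b13, b20, b21, b30,
    b31, mul_zero, zero_mul, add_zero] at hne ab0 ab1
  obtain ⟨w0, w1, w2⟩ := alg_cross (w0 := mt x 0 0 - mt x 1 1) (w1 := mt x 0 1) (w2 := mt x 1 0)
    (v0 := mt a 0 0 - mt a 1 1) (v1 := mt a 0 1) (v2 := mt a 1 0)
    (u0 := mt b 0 0 - mt b 1 1) (u1 := mt b 0 1) (u2 := mt b 1 0)
    (by linear_combination -xa00) (by linear_combination -xa01) (by linear_combination -xa10)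
    (by linear_combination -xb00) (by linear_combination -xb01) (by linear_combination -xb10)
    (by
      rcases hne with h | h
      · left
        intro h3
        apply h
        have h4 : (2 : F) * (mt a 0 0 * mt b 0 0 + mt a 0 1 * mt b 1 0) = 0 := by
          linear_combination h3 + ab0
        exact (mul_eq_zero.1 h4).resolve_left h2
      · right; right
        intro h3
        apply h
        have h4 : (2 : F) * (mt a 1 0 * mt b 0 0 + mt a 1 1 * mt b 1 0) = 0 := by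
          linear_combination h3 + ab1
        exact (mul_eq_zero.1 h4).resolve_left h2)
  refine ⟨mt x 0 0, ?_, ?_⟩
  · funext k
    rw [act_ee]
    fin_cases k
    · change mt x 0 0 = mt x 0 0 * 1; rw [mul_one]
    · change mt x 1 0 = mt x 0 0 * 0; rw [mul_zero, w2]
    · change mt x 2 0 = mt x 0 0 * 0; rw [mul_zero, x20]
    · change mt x 3 0 = mt x 0 0 * 0; rw [mul_zero, x30]
  · funext k
    rw [act_ee]
    fin_cases k
    · change mt x 0 1 = mt x 0 0 * 0; rw [mul_zero, w1]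
    · change mt x 1 1 = mt x 0 0 * 1; rw [mul_one]; exact (sub_eq_zero.1 w0).symm
    · change mt x 2 1 = mt x 0 0 * 0; rw [mul_zero, x21]
    · change mt x 3 1 = mt x 0 0 * 0; rw [mul_zero, x31]

/-- Elements commuting with a rank one subgroup act as scalars on its plane. -/
theorem scalar_of_comm_HH {q n : ℕ} (hF : Fintype.card F = q ^ 2) {c d : Fin n} (hcd : c ≠ d)
    {s : SU n F q} (h : ∀ y ∈ HH F q ({c, d} : Finset (Fin n)), s * y = y * s) :
    ∃ μ : F, act s (ee F c) = μ • ee F c ∧ act s (ee F d) = μ • ee F d := by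
  obtain ⟨l, hl, hl2⟩ := exists_norm_one_sq_ne hF
  have hl0 := norm_ne_zero hl
  have hl1 : l ≠ 1 := by rintro rfl; exact hl2 (one_pow 2)
  obtain ⟨y, hy, hyd, hyc, hyd'⟩ := exists_dg hcd hl
  have h1 : act s (ee F c) = act s (ee F c) c • ee F c := by
    have h2 : ∀ k, mt s k c * mt y c c = mt y k k * mt s k c := by
      intro k
      rw [← mt_mul_dg hyd, ← mt_dg_mul hyd, h y hy]
    funext k
    by_cases hk : k = c
    · subst hk; simp
    · have h3 := h2 k
      have h4 : mt s k c = 0 := by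
        by_cases hkd : k = d
        · subst hkd
          rw [hyc, hyd'] at h3
          have h5 : (l ^ 2 - 1) * mt s k c = 0 := by
            have : l * (mt s k c * l) = l * (l⁻¹ * mt s k c) := by rw [h3]
            rw [← mul_assoc l l⁻¹, mul_inv_cancel₀ hl0, one_mul] at this
            linear_combination this
          exact (mul_eq_zero.1 h5).resolve_left (sub_ne_zero.2 hl2)
        · have h5 : mt y k k = 1 := by
            have := mem_HH_iff_mt.1 hy k (by simp [hk, hkd]) k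
            rwa [if_pos rfl] at this
          rw [hyc, h5] at h3
          have h6 : (l - 1) * mt s k c = 0 := by linear_combination h3
          exact (mul_eq_zero.1 h6).resolve_left (sub_ne_zero.2 hl1)
      rw [act_ee, h4]
      simp [hk]
  refine ⟨_, h1, ?_⟩
  obtain ⟨w, hw, hwc⟩ := exists_HH1 hF (S := {c, d}) (a := c) (i0 := d) (by simp) (by simp)
    hcd.symm (un_ee hF (i := d) (by simp))
  rw [← hwc, ← act_mul, h w hw, act_mul, h1, act_smul, hwc]
  simp

theorem range_eq_of_le {H G : Type*} [Group H] [Group G] [Finite H] {f g : H →* G}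
    (hf : Function.Injective f) (h : f.range ≤ g.range) : f.range = g.range := by
  have : Finite g.range := Finite.of_surjective g.rangeRestrict g.rangeRestrict_surjective
  apply Subgroup.eq_of_le_of_card_ge h
  have h1 : Nat.card f.range = Nat.card H := Nat.card_congr (MonoidHom.ofInjective hf).symm.toEquiv
  rw [h1]
  exact Nat.card_le_card_of_surjective g.rangeRestrict g.rangeRestrict_surjective

theorem iv402 : iv 4 0 2 = {(0 : Fin 4), 1} := by decide
theorem iv412 : iv 4 1 2 = {(1 : Fin 4), 2} := by decide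
theorem iv422 : iv 4 2 2 = {(2 : Fin 4), 3} := by decide

set_option maxHeartbeats 1000000 in
/-- **Stage 1**: the two commuting rank one subgroups come from the two blocks. -/
theorem stage1 {G : Type*} [Group G] (hF : Fintype.card F = 3 ^ 2) {γ : SU 4 F 3 →* G}
    (hker : ∀ x, γ x = 1 → ∃ ζ : F, ∀ v, act x v = ζ • v)
    (E0 : HH F 3 (iv 4 0 2) →* G) (E2 : HH F 3 (iv 4 2 2) →* G)
    (i2 : Function.Injective E2)
    (r0 : ∀ x, ∃ y, γ y = E0 x) (r2 : ∀ x, ∃ y, γ y = E2 x)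
    (hcomm : ∀ x y, E0 x * E2 y = E2 y * E0 x)
    (hnc : ∀ c : HH F 3 (iv 4 0 2), c ≠ 1 → ∃ y, γ y * E0 c ≠ E0 c * γ y) :
    ∃ h : SU 4 F 3, (∀ x : HH F 3 (iv 4 0 2), ∃ s ∈ HH F 3 (iv 4 0 2), γ (h * s * h⁻¹) = E0 x) ∧
      (∀ x : HH F 3 (iv 4 2 2), ∃ s ∈ HH F 3 (iv 4 2 2), γ (h * s * h⁻¹) = E2 x) ∧
      ∀ D : HH F 3 (iv 4 0 2), act (D : SU 4 F 3) (ee F 0) = -ee F 0 →
        act (D : SU 4 F 3) (ee F 1) = -ee F 1 → γ (h * D * h⁻¹) = E0 D := by
  obtain ⟨l, hl, hl2⟩ := exists_norm_one_sq_ne hF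
  have hl0 := norm_ne_zero hl
  have hl2' : l ^ 2 = -1 := by
    have h1 : (l ^ 2 - 1) * (l ^ 2 + 1) = 0 := by linear_combination hl
    exact eq_neg_of_add_eq_zero_left ((mul_eq_zero.1 h1).resolve_left (sub_ne_zero.2 hl2))
  have hli : l⁻¹ = -l := by
    apply inv_eq_of_mul_eq_one_right
    linear_combination -hl2'
  obtain ⟨a, ha, had, ha0, ha1⟩ := exists_dg (q := 3) (show (0 : Fin 4) ≠ 1 by decide) hl
  obtain ⟨b, hb, hb0⟩ := exists_HH1 hF (S := ({0, 1} : Finset (Fin 4))) (a := 0) (i0 := 1)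
    (by simp) (by simp) (by decide) (un_ee hF (i := 1) (by simp))
  have ae0 : act a (ee F 0) = l • ee F 0 := by
    obtain ⟨c, hc⟩ := had 0
    have : c = l := by
      have := congrFun hc 0
      rw [act_ee, ha0] at this
      simpa using this.symm
    rw [hc, this]
  have ae1 : act a (ee F 1) = l⁻¹ • ee F 1 := by
    obtain ⟨c, hc⟩ := had 1
    have : c = l⁻¹ := by
      have := congrFun hc 1
      rw [act_ee, ha1] at this
      simpa using this.symm
    rw [hc, this]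
  have ae2 : act a (ee F 2) = ee F 2 := ha 2 (by decide)
  have ae3 : act a (ee F 3) = ee F 3 := ha 3 (by decide)
  have be2 : act b (ee F 2) = ee F 2 := hb 2 (by decide)
  have be3 : act b (ee F 3) = ee F 3 := hb 3 (by decide)
  obtain ⟨c, be1⟩ : ∃ c : F, act b (ee F 1) = c • ee F 0 := by
    refine ⟨act b (ee F 1) 0, ?_⟩
    have h1 := act_mem_WS hF hb (ee_mem_WS (F := F) (S := ({0, 1} : Finset (Fin 4))) (i := 1)
      (by simp))
    have h2 : hermForm 4 F 3 (act b (ee F 1)) (act b (ee F 0)) = 0 := by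
      rw [act_form, form_ee_ee hF, if_neg (by decide)]
    rw [hb0, form_ee hF] at h2
    funext k
    fin_cases k
    · change _ = act b (ee F 1) 0 * 1; rw [mul_one]; rfl
    · change act b (ee F 1) 1 = act b (ee F 1) 0 * 0; rw [mul_zero, h2]
    · change act b (ee F 1) 2 = act b (ee F 1) 0 * 0; rw [mul_zero, h1 2 (by decide)]
    · change act b (ee F 1) 3 = act b (ee F 1) 0 * 0; rw [mul_zero, h1 3 (by decide)]
  obtain ⟨D, hD⟩ : ∃ D, D = a * a := ⟨_, rfl⟩
  have hDm : D ∈ HH F 3 ({0, 1} : Finset (Fin 4)) := by rw [hD]; exact mul_mem ha ha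
  have hD0 : act D (ee F 0) = -ee F 0 := by
    rw [hD, act_mul, ae0, act_smul, ae0, smul_smul, ← neg_one_smul F]
    congr 1
    linear_combination hl2'
  have hD1 : act D (ee F 1) = -ee F 1 := by
    rw [hD, act_mul, ae1, act_smul, ae1, smul_smul, ← neg_one_smul F, hli]
    congr 1
    linear_combination hl2'
  have hD2 : act D (ee F 2) = ee F 2 := hDm 2 (by decide)
  have hD3 : act D (ee F 3) = ee F 3 := hDm 3 (by decide)
  have hab : a * b = D * b * a := by
    apply act_ext_ee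
    intro k
    simp only [act_mul]
    fin_cases k
    · change act a (act b (ee F 0)) = act D (act b (act a (ee F 0)))
      rw [hb0, ae0, ae1, act_smul, act_smul, hb0, hD1, hli, neg_smul, smul_neg]
    · change act a (act b (ee F 1)) = act D (act b (act a (ee F 1)))
      rw [be1, ae1, act_smul, act_smul, act_smul, ae0, be1, act_smul, hD0, hli, smul_smul,
        smul_neg, smul_neg, neg_smul, neg_neg, smul_smul, mul_comm]
    · change act a (act b (ee F 2)) = act D (act b (act a (ee F 2)))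
      rw [be2, ae2, be2, hD2]
    · change act a (act b (ee F 3)) = act D (act b (act a (ee F 3)))
      rw [be3, ae3, be3, hD3]
  have hDg : IsDg D := by
    intro k
    fin_cases k
    · exact ⟨-1, by rw [neg_one_smul]; exact hD0⟩
    · exact ⟨-1, by rw [neg_one_smul]; exact hD1⟩
    · exact ⟨1, by rw [one_smul]; exact hD2⟩
    · exact ⟨1, by rw [one_smul]; exact hD3⟩
  have d0 : mt D 0 0 = -1 := by rw [← act_ee, hD0]; simp
  have d1 : mt D 1 1 = -1 := by rw [← act_ee, hD1]; simp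
  have hDc : ∀ y ∈ HH F 3 ({0, 1} : Finset (Fin 4)), D * y = y * D := by
    intro y hy
    apply HH_ext hF (mul_mem hDm hy) (mul_mem hy hDm)
    intro k hk r hr
    rw [mt_dg_mul hDg, mt_mul_dg hDg]
    have h1 : ∀ k ∈ ({0, 1} : Finset (Fin 4)), mt D k k = -1 := by
      intro k hk
      simp only [Finset.mem_insert, Finset.mem_singleton] at hk
      rcases hk with rfl | rfl
      · exact d0
      · exact d1
    rw [h1 k hk, h1 r hr, mul_comm]
  -- subtypes
  obtain ⟨A, hA⟩ : ∃ A : HH F 3 (iv 4 0 2), (A : SU 4 F 3) = a := ⟨⟨a, by rw [iv402]; exact ha⟩, rfl⟩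
  obtain ⟨B, hB⟩ : ∃ B : HH F 3 (iv 4 0 2), (B : SU 4 F 3) = b := ⟨⟨b, by rw [iv402]; exact hb⟩, rfl⟩
  obtain ⟨DD, hDD⟩ : ∃ DD : HH F 3 (iv 4 0 2), (DD : SU 4 F 3) = D :=
    ⟨⟨D, by rw [iv402]; exact hDm⟩, rfl⟩
  have hAA : DD = A * A := Subtype.ext (by rw [hDD, hD, Subgroup.coe_mul, hA])
  have hAB : A * B = DD * B * A := Subtype.ext (by
    rw [Subgroup.coe_mul, Subgroup.coe_mul, Subgroup.coe_mul, hA, hB, hDD, hab])
  have hDDc : ∀ y, DD * y = y * DD := fun y => Subtype.ext (by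
    rw [Subgroup.coe_mul, Subgroup.coe_mul, hDD]
    exact hDc y (by rw [← iv402]; exact y.2))
  obtain ⟨sa, hsa, hsa'⟩ := exists_good hF hker (by omega) E0 r0 A
  obtain ⟨sb, hsb, hsb'⟩ := exists_good hF hker (by omega) E0 r0 B
  obtain ⟨z, hz⟩ : ∃ z, z = sa * sb * sa⁻¹ * sb⁻¹ := ⟨_, rfl⟩
  have hγz : γ z = E0 DD := by
    have : DD = A * B * A⁻¹ * B⁻¹ := by rw [hAB]; group
    rw [this, hz, map_mul, map_mul, map_mul, map_inv, map_inv, hsa, hsb, map_mul, map_mul,
      map_mul, map_inv, map_inv]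
  have hzc : ∀ y, γ z * E0 y = E0 y * γ z := by
    intro y
    rw [hγz, ← map_mul, ← map_mul, hDDc]
  have hza := hsa' z hzc
  have hzb := hsb' z hzc
  have hzab : sa * sb = z * sb * sa := by rw [hz]; group
  have hzz : z * z = 1 := by
    have h1 : γ (sa * sa * z⁻¹) = 1 := by
      rw [map_mul, map_mul, hsa, map_inv, hγz, hAA, map_mul, mul_inv_cancel]
    have h2 := ker_central hF hker h1 sb
    have h3 : sa * sa * sb = sb * (sa * sa) := by
      have h4 : sa * sa * z⁻¹ * sb = sb * (sa * sa * z⁻¹) := h2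
      have h5 : z⁻¹ * sb = sb * z⁻¹ := by
        rw [inv_mul_eq_iff_eq_mul, ← mul_assoc, ← hzb, mul_assoc, mul_inv_cancel, mul_one]
      rw [mul_assoc, h5, ← mul_assoc, ← mul_assoc] at h4
      exact mul_right_cancel h4
    have h7 : sa * sa * sb = z * z * (sb * (sa * sa)) := by
      calc sa * sa * sb = sa * (sa * sb) := by group
        _ = sa * (z * sb * sa) := by rw [hzab]
        _ = (sa * z) * sb * sa := by group
        _ = (z * sa) * sb * sa := by rw [hza]
        _ = z * (sa * sb) * sa := by group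
        _ = z * (z * sb * sa) * sa := by rw [hzab]
        _ = z * z * (sb * (sa * sa)) := by group
    rw [h3] at h7
    have h8 : 1 * (sb * (sa * sa)) = z * z * (sb * (sa * sa)) := by rw [one_mul]; exact h7
    exact (mul_right_cancel h8).symm
  have hDD1 : DD ≠ 1 := by
    intro h1
    have h2 : D = 1 := by rw [← hDD, h1]; rfl
    rw [h2, mt_one, Matrix.one_apply_eq] at d0
    apply two_ne_zero3 hF
    linear_combination d0
  obtain ⟨h, hh0, hh1, hh2, hh3⟩ := eig_split hF hzz (by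
    rintro ⟨ζ, hζ⟩
    obtain ⟨y, hy⟩ := hnc DD hDD1
    apply hy
    rw [← hγz, ← map_mul, ← map_mul]
    congr 1
    apply act_ext
    intro v
    rw [act_mul, act_mul, hζ, hζ, act_smul])
  have hconj : h⁻¹ * z * h = D := by
    apply act_ext_ee
    intro k
    rw [act_mul, act_mul]
    fin_cases k
    · change act h⁻¹ (act z (act h (ee F 0))) = act D (ee F 0)
      rw [hh0, act_neg, act_inv_act, hD0]
    · change act h⁻¹ (act z (act h (ee F 1))) = act D (ee F 1)
      rw [hh1, act_neg, act_inv_act, hD1]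
    · change act h⁻¹ (act z (act h (ee F 2))) = act D (ee F 2)
      rw [hh2, act_inv_act, hD2]
    · change act h⁻¹ (act z (act h (ee F 3))) = act D (ee F 3)
      rw [hh3, act_inv_act, hD3]
  have hzD : z = h * D * h⁻¹ := by rw [← hconj]; group
  -- general: an order three lift commuting with `sa`, `sb`
  have hcj : ∀ x y : SU 4 F 3, x * y = y * x →
      (h⁻¹ * x * h) * (h⁻¹ * y * h) = (h⁻¹ * y * h) * (h⁻¹ * x * h) := by
    intro x y hxy
    calc (h⁻¹ * x * h) * (h⁻¹ * y * h) = h⁻¹ * (x * y) * h := by group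
      _ = h⁻¹ * (y * x) * h := by rw [hxy]
      _ = _ := by group
  have hE2 : ∀ x : HH F 3 (iv 4 2 2), ∃ s ∈ HH F 3 (iv 4 2 2), γ (h * s * h⁻¹) = E2 x := by
    intro x
    refine HH_three_ind hF (by omega) (fun x => ∃ s ∈ HH F 3 (iv 4 2 2), γ (h * s * h⁻¹) = E2 x)
      ?_ ?_ x
    · intro x hx
      obtain ⟨y, hy⟩ := r2 x
      obtain ⟨s, hs, hs3⟩ := lift_three hF hker (y := y) (by rw [hy, ← map_pow, hx, map_one])
      have c1 : s * sa = sa * s := comm_lift hF hker hs3 (by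
        rw [hs, hy, hsa]; exact (hcomm A x).symm)
      have c2 : s * sb = sb * s := comm_lift hF hker hs3 (by
        rw [hs, hy, hsb]; exact (hcomm B x).symm)
      have e1 := hcj sa z hza
      have e2 := hcj sb z hzb
      rw [hconj] at e1 e2
      obtain ⟨c, hc0, hc1⟩ := scalar_of_comm hF hD0 hD1 hD2 hD3 (a := h⁻¹ * sa * h)
        (b := h⁻¹ * sb * h) (x := h⁻¹ * s * h) e1 e2 (by
          rw [← hconj]
          calc h⁻¹ * sa * h * (h⁻¹ * sb * h) = h⁻¹ * (sa * sb) * h := by group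
            _ = h⁻¹ * (z * sb * sa) * h := by rw [hzab]
            _ = _ := by group) (hcj s sa c1) (hcj s sb c2)
      have hs3' : (h⁻¹ * s * h) ^ 3 = 1 := by
        have : (h⁻¹ * s * h) ^ 3 = h⁻¹ * s ^ 3 * h := by
          simp only [pow_succ, pow_zero, one_mul]; group
        rw [this, hs3]; group
      have hc3 : c = 1 := by
        apply cube_one hF
        have h5 : act ((h⁻¹ * s * h) ^ 3) (ee F 0) = c ^ 3 • ee F 0 := by
          rw [pow_succ, pow_two, act_mul, act_mul, hc0, act_smul, act_smul, hc0, act_smul, hc0,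
            smul_smul, smul_smul]
          congr 1
          ring
        rw [hs3', act_one] at h5
        have := congrFun h5 0
        simpa using this.symm
      rw [hc3, one_smul] at hc0 hc1
      refine ⟨h⁻¹ * s * h, ?_, ?_⟩
      · rw [iv422]
        intro k hk
        fin_cases k
        · exact hc0
        · exact hc1
        · exact absurd (by decide) hk
        · exact absurd (by decide) hk
      · have : h * (h⁻¹ * s * h) * h⁻¹ = s := by group
        rw [this, hs, hy]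
    · rintro x y ⟨s, hs, hs'⟩ ⟨t, ht, ht'⟩
      refine ⟨s * t, mul_mem hs ht, ?_⟩
      have e : h * (s * t) * h⁻¹ = (h * s * h⁻¹) * (h * t * h⁻¹) := by group
      rw [e, map_mul γ, hs', ht', map_mul]
  -- the range is everything
  have hE2' : ∀ y ∈ HH F 3 (iv 4 2 2), ∃ x, E2 x = γ (h * y * h⁻¹) := by
    intro y hy
    have h1 := range_eq_of_le (g := (γ.comp (MulAut.conj h).toMonoidHom).comp
      (HH F 3 (iv 4 2 2)).subtype) i2 (by
      rintro _ ⟨x, rfl⟩
      obtain ⟨s, hs, hs'⟩ := hE2 x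
      exact ⟨⟨s, hs⟩, hs'⟩)
    have h2 : γ (h * y * h⁻¹) ∈ ((γ.comp (MulAut.conj h).toMonoidHom).comp
      (HH F 3 (iv 4 2 2)).subtype).range := ⟨⟨y, hy⟩, rfl⟩
    rw [← h1] at h2
    exact h2
  refine ⟨h, ?_, hE2, ?_⟩
  · intro x
    refine HH_three_ind hF (by omega) (fun x => ∃ s ∈ HH F 3 (iv 4 0 2), γ (h * s * h⁻¹) = E0 x)
      ?_ ?_ x
    · intro x hx
      obtain ⟨y, hy⟩ := r0 x
      obtain ⟨s, hs, hs3⟩ := lift_three hF hker (y := y) (by rw [hy, ← map_pow, hx, map_one])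
      have hs3' : (h⁻¹ * s * h) ^ 3 = 1 := by
        have : (h⁻¹ * s * h) ^ 3 = h⁻¹ * s ^ 3 * h := by
          simp only [pow_succ, pow_zero, one_mul]; group
        rw [this, hs3]; group
      obtain ⟨c, hc2, hc3⟩ := scalar_of_comm_HH hF (show (2 : Fin 4) ≠ 3 by decide)
        (s := h⁻¹ * s * h) (by
          intro w hw
          rw [← iv422] at hw
          obtain ⟨x', hx'⟩ := hE2' w hw
          have h5 : s * (h * w * h⁻¹) = (h * w * h⁻¹) * s := comm_lift hF hker hs3 (by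
            rw [hs, hy, ← hx']; exact hcomm x x')
          have h6 := hcj _ _ h5
          have h7 : h⁻¹ * (h * w * h⁻¹) * h = w := by group
          rw [h7] at h6
          exact h6)
      have hc1 : c = 1 := by
        apply cube_one hF
        have h5 : act ((h⁻¹ * s * h) ^ 3) (ee F 2) = c ^ 3 • ee F 2 := by
          rw [pow_succ, pow_two, act_mul, act_mul, hc2, act_smul, act_smul, hc2, act_smul, hc2,
            smul_smul, smul_smul]
          congr 1
          ring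
        rw [hs3', act_one] at h5
        have := congrFun h5 2
        simpa using this.symm
      rw [hc1, one_smul] at hc2 hc3
      refine ⟨h⁻¹ * s * h, ?_, ?_⟩
      · rw [iv402]
        intro k hk
        fin_cases k
        · exact absurd (by decide) hk
        · exact absurd (by decide) hk
        · exact hc2
        · exact hc3
      · have : h * (h⁻¹ * s * h) * h⁻¹ = s := by group
        rw [this, hs, hy]
    · rintro x y ⟨s, hs, hs'⟩ ⟨t, ht, ht'⟩
      refine ⟨s * t, mul_mem hs ht, ?_⟩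
      have e : h * (s * t) * h⁻¹ = (h * s * h⁻¹) * (h * t * h⁻¹) := by group
      rw [e, map_mul γ, hs', ht', map_mul]
  · intro D' hD0' hD1'
    have h1 : D' = DD := by
      apply Subtype.ext
      rw [hDD]
      apply act_ext_ee
      intro k
      fin_cases k
      · exact hD0'.trans hD0.symm
      · exact hD1'.trans hD1.symm
      · exact (D'.2 2 (by decide)).trans hD2.symm
      · exact (D'.2 3 (by decide)).trans hD3.symm
    rw [h1, ← hγz, hDD, ← hzD]

theorem mem_WS_iff {S : Finset (Fin 4)} {v : Fin 4 → F} :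
    v ∈ WS F S ↔ ∀ i, i ∉ S → v i = 0 := Iff.rfl

theorem mem_WS01 {v : Fin 4 → F} : v ∈ WS F (iv 4 0 2) ↔ v 2 = 0 ∧ v 3 = 0 := by
  rw [iv402, mem_WS]
  constructor
  · intro h; exact ⟨h 2 (by decide), h 3 (by decide)⟩
  · rintro ⟨h2, h3⟩ k hk
    fin_cases k
    · exact absurd (by decide) hk
    · exact absurd (by decide) hk
    · exact h2
    · exact h3

theorem mem_WS23 {v : Fin 4 → F} : v ∈ WS F (iv 4 2 2) ↔ v 0 = 0 ∧ v 1 = 0 := by
  rw [iv422, mem_WS]
  constructor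
  · intro h; exact ⟨h 0 (by decide), h 1 (by decide)⟩
  · rintro ⟨h2, h3⟩ k hk
    fin_cases k
    · exact h2
    · exact h3
    · exact absurd (by decide) hk
    · exact absurd (by decide) hk

theorem fix01 {q : ℕ} {s : SU 4 F q} (hs : s ∈ HH F q (iv 4 0 2)) {v : Fin 4 → F}
    (h : v ∈ WS F (iv 4 2 2)) : act s v = v :=
  act_eq_self (S := iv 4 0 2) (T := iv 4 2 2) (by rw [iv402, iv422]; decide) hs h

theorem fix23 {q : ℕ} {s : SU 4 F q} (hs : s ∈ HH F q (iv 4 2 2)) {v : Fin 4 → F}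
    (h : v ∈ WS F (iv 4 0 2)) : act s v = v :=
  act_eq_self (S := iv 4 2 2) (T := iv 4 0 2) (by rw [iv402, iv422]; decide) hs h

set_option maxHeartbeats 1000000 in
/-- **Stage 3**: locating the middle rank one subgroup. -/
theorem stage3 {G : Type*} [Group G] (hF : Fintype.card F = 3 ^ 2) {γ : SU 4 F 3 →* G}
    (hker : ∀ x, γ x = 1 → ∃ ζ : F, ∀ v, act x v = ζ • v)
    (ψ0 : HH F 3 (iv 4 0 3) →* G) (ψ1 : HH F 3 (iv 4 1 3) →* G)
    (i0 : Function.Injective ψ0) (i1 : Function.Injective ψ1)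
    (r0 : ∀ x, ∃ y, γ y = ψ0 x)
    (hagree : ∀ g (h0 : g ∈ HH F 3 (iv 4 0 3)) (h1 : g ∈ HH F 3 (iv 4 1 3)),
      ψ0 ⟨g, h0⟩ = ψ1 ⟨g, h1⟩)
    (s0 : ∀ x ∈ HH F 3 (iv 4 0 2), ∀ hx : x ∈ HH F 3 (iv 4 0 3),
      ∃ s ∈ HH F 3 (iv 4 0 2), γ s = ψ0 ⟨x, hx⟩)
    (s2 : ∀ x ∈ HH F 3 (iv 4 2 2), ∀ hx : x ∈ HH F 3 (iv 4 1 3),
      ∃ s ∈ HH F 3 (iv 4 2 2), γ s = ψ1 ⟨x, hx⟩)
    {l m : F} (hl : l ^ 2 = -1) (hm : m ^ 2 = -1) {t0 T0 : SU 4 F 3}
    (ht0 : t0 ∈ HH F 3 (iv 4 0 2)) (ht0' : t0 ∈ HH F 3 (iv 4 0 3))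
    (ht00 : act t0 (ee F 0) = l • ee F 0) (ht01 : act t0 (ee F 1) = l⁻¹ • ee F 1)
    (hT0 : T0 ∈ HH F 3 (iv 4 0 2))
    (hT00 : act T0 (ee F 0) = m • ee F 0) (hT01 : act T0 (ee F 1) = m⁻¹ • ee F 1)
    (hγT : γ T0 = ψ0 ⟨t0, ht0'⟩) :
    ∃ h : SU 4 F 3,
      (∀ x ∈ HH F 3 (iv 4 0 2), ∀ hx : x ∈ HH F 3 (iv 4 0 3),
        ∃ s ∈ HH F 3 (iv 4 0 2), γ (h * s * h⁻¹) = ψ0 ⟨x, hx⟩) ∧
      (∀ x ∈ HH F 3 (iv 4 1 2), ∀ hx : x ∈ HH F 3 (iv 4 0 3),
        ∃ s ∈ HH F 3 (iv 4 1 2), γ (h * s * h⁻¹) = ψ0 ⟨x, hx⟩) ∧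
      (∀ x ∈ HH F 3 (iv 4 2 2), ∀ hx : x ∈ HH F 3 (iv 4 1 3),
        ∃ s ∈ HH F 3 (iv 4 2 2), γ (h * s * h⁻¹) = ψ1 ⟨x, hx⟩) := by
  have h2 := two_ne_zero3 hF
  have sub02 : HH F 3 (iv 4 0 2) ≤ HH F 3 (iv 4 0 3) := HH_mono (iv_mono le_rfl (by omega))
  have sub12 : HH F 3 (iv 4 1 2) ≤ HH F 3 (iv 4 0 3) := HH_mono (iv_mono (by omega) (by omega))
  have sub12' : HH F 3 (iv 4 1 2) ≤ HH F 3 (iv 4 1 3) := HH_mono (iv_mono (by omega) (by omega))
  have sub22 : HH F 3 (iv 4 2 2) ≤ HH F 3 (iv 4 1 3) := HH_mono (iv_mono (by omega) (by omega))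
  have hinv : ∀ {c : F}, c ^ 2 = -1 → c ≠ 0 ∧ c⁻¹ = -c ∧ c ≠ 1 ∧ c⁻¹ ≠ 1 ∧ c⁻¹ ≠ c := by
    intro c hc
    have hc0 : c ≠ 0 := by
      rintro rfl
      rw [zero_pow (by norm_num)] at hc
      have : (1 : F) = 0 := by linear_combination hc
      exact one_ne_zero this
    have hci : c⁻¹ = -c := by
      apply inv_eq_of_mul_eq_one_right
      linear_combination -hc
    have hc1 : c ≠ 1 := by
      rintro rfl
      apply h2
      linear_combination hc
    refine ⟨hc0, hci, hc1, ?_, ?_⟩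
    · intro h
      apply hc1
      rw [← inv_inv c, h, inv_one]
    · intro h
      rw [hci] at h
      have : (2 : F) * c = 0 := by linear_combination -h
      rcases mul_eq_zero.1 this with h' | h'
      · exact h2 h'
      · exact hc0 h'
  obtain ⟨hl0, hli, hl1, hli1, hll⟩ := hinv hl
  obtain ⟨hm0, hmi, hm1, hmi1, hmm⟩ := hinv hm
  -- reverse inclusions
  have s0' : ∀ s ∈ HH F 3 (iv 4 0 2), ∃ x, ∃ hx : x ∈ HH F 3 (iv 4 0 2),
      ψ0 ⟨x, sub02 hx⟩ = γ s := by
    intro s hs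
    have h1 := range_eq_of_le (f := ψ0.comp (Subgroup.inclusion sub02))
      (g := γ.comp (HH F 3 (iv 4 0 2)).subtype)
      (i0.comp (Subgroup.inclusion_injective _)) (by
      rintro _ ⟨x, rfl⟩
      obtain ⟨s, hs, hs'⟩ := s0 x x.2 (sub02 x.2)
      exact ⟨⟨s, hs⟩, hs'⟩)
    have h3 : γ s ∈ (γ.comp (HH F 3 (iv 4 0 2)).subtype).range := ⟨⟨s, hs⟩, rfl⟩
    rw [← h1] at h3
    obtain ⟨x, hx⟩ := h3
    exact ⟨x, x.2, hx⟩
  have s2' : ∀ s ∈ HH F 3 (iv 4 2 2), ∃ x, ∃ hx : x ∈ HH F 3 (iv 4 2 2),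
      ψ1 ⟨x, sub22 hx⟩ = γ s := by
    intro s hs
    have h1 := range_eq_of_le (f := ψ1.comp (Subgroup.inclusion sub22))
      (g := γ.comp (HH F 3 (iv 4 2 2)).subtype)
      (i1.comp (Subgroup.inclusion_injective _)) (by
      rintro _ ⟨x, rfl⟩
      obtain ⟨s, hs, hs'⟩ := s2 x x.2 (sub22 x.2)
      exact ⟨⟨s, hs⟩, hs'⟩)
    have h3 : γ s ∈ (γ.comp (HH F 3 (iv 4 2 2)).subtype).range := ⟨⟨s, hs⟩, rfl⟩
    rw [← h1] at h3
    obtain ⟨x, hx⟩ := h3
    exact ⟨x, x.2, hx⟩
  -- the element `κ`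
  have e3 : iv 4 0 3 = ({0, 1, 2} : Finset (Fin 4)) := by decide
  obtain ⟨κ, hκ, hκ0, hκ1⟩ := exists_HH2 hF (S := ({0, 1, 2} : Finset (Fin 4))) (a := 0) (b := 1)
    (i0 := 2) (by decide) (by decide) (by decide) (by decide) (by decide) (by decide)
    (un_ee hF (i := 1) (by decide)) (un_ee hF (i := 2) (by decide)) (by
      rw [form_ee_ee hF, if_neg (by decide)])
  obtain ⟨c, hκ2⟩ : ∃ c : F, act κ (ee F 2) = c • ee F 0 := by
    refine ⟨act κ (ee F 2) 0, ?_⟩
    have h1 := act_mem_WS hF hκ (ee_mem_WS (F := F) (S := ({0, 1, 2} : Finset (Fin 4))) (i := 2)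
      (by decide))
    have h3 : hermForm 4 F 3 (act κ (ee F 2)) (act κ (ee F 0)) = 0 := by
      rw [act_form, form_ee_ee hF, if_neg (by decide)]
    have h4 : hermForm 4 F 3 (act κ (ee F 2)) (act κ (ee F 1)) = 0 := by
      rw [act_form, form_ee_ee hF, if_neg (by decide)]
    rw [hκ0, form_ee hF] at h3
    rw [hκ1, form_ee hF] at h4
    funext k
    fin_cases k
    · change _ = act κ (ee F 2) 0 * 1; rw [mul_one]; rfl
    · change act κ (ee F 2) 1 = act κ (ee F 2) 0 * 0; rw [mul_zero, h3]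
    · change act κ (ee F 2) 2 = act κ (ee F 2) 0 * 0; rw [mul_zero, h4]
    · change act κ (ee F 2) 3 = act κ (ee F 2) 0 * 0; rw [mul_zero, h1 3 (by decide)]
  have hc0 : c ≠ 0 := by
    rintro rfl
    rw [zero_smul] at hκ2
    exact act_ne_zero (un_ee hF (Finset.mem_univ (2 : Fin 4))).ne_zero hκ2
  have hκi0 : act κ⁻¹ (ee F 0) = c⁻¹ • ee F 2 := by
    have h1 := congrArg (act κ⁻¹) hκ2
    rw [act_inv_act, act_smul] at h1
    rw [eq_inv_smul_iff₀ hc0]
    exact h1.symm
  have hκi1 : act κ⁻¹ (ee F 1) = ee F 0 := by rw [← hκ0, act_inv_act]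
  have hκi2 : act κ⁻¹ (ee F 2) = ee F 1 := by rw [← hκ1, act_inv_act]
  rw [← e3] at hκ
  obtain ⟨t1, ht1⟩ : ∃ t1, t1 = κ * t0 * κ⁻¹ := ⟨_, rfl⟩
  have t1e0 : act t1 (ee F 0) = ee F 0 := by
    rw [ht1, act_mul, act_mul, hκi0, act_smul, ht0 2 (by decide), ← hκi0, act_act_inv]
  have t1e1 : act t1 (ee F 1) = l • ee F 1 := by
    rw [ht1, act_mul, act_mul, hκi1, ht00, act_smul, hκ0]
  have t1e2 : act t1 (ee F 2) = l⁻¹ • ee F 2 := by
    rw [ht1, act_mul, act_mul, hκi2, ht01, act_smul, hκ1]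
  have t1e3 : act t1 (ee F 3) = ee F 3 := by
    rw [ht1, act_mul, act_mul, inv_mem hκ 3 (by decide), ht0 3 (by decide), hκ 3 (by decide)]
  have ht1m : t1 ∈ HH F 3 (iv 4 1 2) := by
    rw [iv412]
    intro k hk
    fin_cases k
    · exact t1e0
    · exact absurd (by decide) hk
    · exact absurd (by decide) hk
    · exact t1e3
  have htt : t0 * t1 = t1 * t0 := by
    apply act_ext_ee
    intro k
    rw [act_mul, act_mul]
    fin_cases k
    · change act t0 (act t1 (ee F 0)) = act t1 (act t0 (ee F 0))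
      rw [t1e0, ht00, act_smul, t1e0]
    · change act t0 (act t1 (ee F 1)) = act t1 (act t0 (ee F 1))
      rw [t1e1, ht01, act_smul, act_smul, ht01, t1e1, smul_comm]
    · change act t0 (act t1 (ee F 2)) = act t1 (act t0 (ee F 2))
      rw [t1e2, act_smul, ht0 2 (by decide), t1e2]
    · change act t0 (act t1 (ee F 3)) = act t1 (act t0 (ee F 3))
      rw [t1e3, ht0 3 (by decide), t1e3]
  obtain ⟨K, hK⟩ := r0 ⟨κ, hκ⟩
  obtain ⟨T1, hT1⟩ : ∃ T1, T1 = K * T0 * K⁻¹ := ⟨_, rfl⟩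
  have hγT1 : γ T1 = ψ0 ⟨t1, sub12 ht1m⟩ := by
    rw [hT1, map_mul, map_mul, map_inv, hK, hγT, ← map_inv, ← map_mul, ← map_mul]
    congr 1
    exact Subtype.ext ht1.symm
  -- `T0` and `T1` commute
  have hTT : T1 * T0 = T0 * T1 := by
    obtain ⟨x, hx⟩ : ∃ x, x = T1 * T0 * T1⁻¹ * T0⁻¹ := ⟨_, rfl⟩
    have hγx : γ x = 1 := by
      have h3 : γ (T1 * T0) = γ (T0 * T1) := by
        rw [map_mul, map_mul, hγT, hγT1, ← map_mul, ← map_mul]
        congr 1
        exact Subtype.ext htt.symm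
      have h4 : x = T1 * T0 * (T0 * T1)⁻¹ := by rw [hx]; group
      rw [h4, map_mul, map_inv, h3, mul_inv_cancel]
    obtain ⟨ζ, hζ⟩ := hker x hγx
    have h3 : T1 * T0 * T1⁻¹ = x * T0 := by rw [hx]; group
    have h4 : mt (x * T0) = ζ • mt T0 := by
      ext k r
      rw [← act_ee, act_mul, hζ, Matrix.smul_apply, ← act_ee]
      rfl
    have h5 : (mt (T1 * T0 * T1⁻¹)).trace = (mt T0).trace := by
      rw [mt_mul, Matrix.trace_mul_comm, ← mt_mul]
      congr 2
      group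
    rw [h3, h4, Matrix.trace_smul] at h5
    have h6 : (mt T0).trace = 2 := by
      rw [Matrix.trace, Fin.sum_univ_four]
      simp only [Matrix.diag_apply, ← act_ee]
      rw [hT00, hT01, hT0 2 (by decide), hT0 3 (by decide), hmi]
      change m * 1 + -m * 1 + 1 + 1 = 2
      ring
    rw [h6, smul_eq_mul] at h5
    have h7 : (ζ - 1) * 2 = 0 := by linear_combination h5
    have h8 : ζ = 1 := sub_eq_zero.1 ((mul_eq_zero.1 h7).resolve_right h2)
    have h9 : x = 1 := by
      apply act_ext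
      intro v
      rw [hζ, h8, one_smul, act_one]
    rw [h9, one_mul, mul_inv_eq_iff_eq_mul] at h3
    exact h3
  -- eigenvectors of `T0`
  have hT0v : ∀ v k, act T0 v k = (if k = 0 then m else if k = 1 then m⁻¹ else 1) * v k := by
    intro v k
    have h3 : hermForm 4 F 3 (act T0 v) (act T0 (ee F k)) = v k := by
      rw [act_form, form_ee hF]
    have hm4 : m * m ^ 3 = 1 := by
      have : m * m ^ 3 = (m ^ 2) ^ 2 := by ring
      rw [this, hm]; ring
    have hm4' : m⁻¹ * m⁻¹ ^ 3 = 1 := by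
      have : m⁻¹ * m⁻¹ ^ 3 = (m * m ^ 3)⁻¹ := by rw [mul_inv, inv_pow]
      rw [this, hm4, inv_one]
    fin_cases k
    · change act T0 v 0 = m * v 0
      change hermForm 4 F 3 (act T0 v) (act T0 (ee F 0)) = v 0 at h3
      rw [hT00, hermForm_smul_right, form_ee hF] at h3
      linear_combination m * h3 - act T0 v 0 * hm4
    · change act T0 v 1 = m⁻¹ * v 1
      change hermForm 4 F 3 (act T0 v) (act T0 (ee F 1)) = v 1 at h3
      rw [hT01, hermForm_smul_right, form_ee hF] at h3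
      linear_combination m⁻¹ * h3 - act T0 v 1 * hm4'
    · change act T0 v 2 = 1 * v 2
      change hermForm 4 F 3 (act T0 v) (act T0 (ee F 2)) = v 2 at h3
      rw [hT0 2 (by decide), form_ee hF] at h3
      rw [h3, one_mul]
    · change act T0 v 3 = 1 * v 3
      change hermForm 4 F 3 (act T0 v) (act T0 (ee F 3)) = v 3 at h3
      rw [hT0 3 (by decide), form_ee hF] at h3
      rw [h3, one_mul]
  have eig0 : ∀ v, act T0 v = m • v → v = v 0 • ee F 0 := by
    intro v hv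
    have h3 : ∀ k, (if k = 0 then m else if k = 1 then m⁻¹ else 1) * v k = m * v k := by
      intro k
      rw [← hT0v, hv]; rfl
    funext k
    fin_cases k
    · change v 0 = v 0 * 1; rw [mul_one]
    · change v 1 = v 0 * 0
      have h4 : m⁻¹ * v 1 = m * v 1 := h3 1
      have h5 : (m⁻¹ - m) * v 1 = 0 := by linear_combination h4
      rw [mul_zero]
      exact (mul_eq_zero.1 h5).resolve_left (sub_ne_zero.2 hmm)
    · change v 2 = v 0 * 0
      have h4 : 1 * v 2 = m * v 2 := h3 2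
      have h5 : (m - 1) * v 2 = 0 := by linear_combination -h4
      rw [mul_zero]
      exact (mul_eq_zero.1 h5).resolve_left (sub_ne_zero.2 hm1)
    · change v 3 = v 0 * 0
      have h4 : 1 * v 3 = m * v 3 := h3 3
      have h5 : (m - 1) * v 3 = 0 := by linear_combination -h4
      rw [mul_zero]
      exact (mul_eq_zero.1 h5).resolve_left (sub_ne_zero.2 hm1)
  have eig1 : ∀ v, act T0 v = m⁻¹ • v → v = v 1 • ee F 1 := by
    intro v hv
    have h3 : ∀ k, (if k = 0 then m else if k = 1 then m⁻¹ else 1) * v k = m⁻¹ * v k := by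
      intro k
      rw [← hT0v, hv]; rfl
    funext k
    fin_cases k
    · change v 0 = v 1 * 0
      have h4 : m * v 0 = m⁻¹ * v 0 := h3 0
      have h5 : (m⁻¹ - m) * v 0 = 0 := by linear_combination -h4
      rw [mul_zero]
      exact (mul_eq_zero.1 h5).resolve_left (sub_ne_zero.2 hmm)
    · change v 1 = v 1 * 1; rw [mul_one]
    · change v 2 = v 1 * 0
      have h4 : 1 * v 2 = m⁻¹ * v 2 := h3 2
      have h5 : (m⁻¹ - 1) * v 2 = 0 := by linear_combination -h4
      rw [mul_zero]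
      exact (mul_eq_zero.1 h5).resolve_left (sub_ne_zero.2 hmi1)
    · change v 3 = v 1 * 0
      have h4 : 1 * v 3 = m⁻¹ * v 3 := h3 3
      have h5 : (m⁻¹ - 1) * v 3 = 0 := by linear_combination -h4
      rw [mul_zero]
      exact (mul_eq_zero.1 h5).resolve_left (sub_ne_zero.2 hmi1)
  have eig : ∀ (v : Fin 4 → F) (μ : F), act T0 v = μ • v → v = v 0 • ee F 0 ∨ v = v 1 • ee F 1 ∨
      (v 0 = 0 ∧ v 1 = 0) := by
    intro v μ hv
    by_cases hv0 : v 0 = 0
    · by_cases hv1 : v 1 = 0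
      · exact Or.inr (Or.inr ⟨hv0, hv1⟩)
      · right; left
        apply eig1
        have h3 : m⁻¹ * v 1 = μ * v 1 := by
          have := hT0v v 1
          rw [hv] at this
          exact this.symm
        have h4 : (m⁻¹ - μ) * v 1 = 0 := by linear_combination h3
        rw [sub_eq_zero.1 ((mul_eq_zero.1 h4).resolve_right hv1)]
        exact hv
    · left
      apply eig0
      have h3 : m * v 0 = μ * v 0 := by
        have := hT0v v 0
        rw [hv] at this
        exact this.symm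
      have h4 : (m - μ) * v 0 = 0 := by linear_combination h3
      rw [sub_eq_zero.1 ((mul_eq_zero.1 h4).resolve_right hv0)]
      exact hv
  -- the vectors `f0`, `f1`
  obtain ⟨f0, hf0⟩ : ∃ f0, f0 = act K (ee F 0) := ⟨_, rfl⟩
  obtain ⟨f1, hf1⟩ : ∃ f1, f1 = act K (ee F 1) := ⟨_, rfl⟩
  have hTK : ∀ v, act K⁻¹ (act T1 v) = act T0 (act K⁻¹ v) := by
    intro v
    rw [hT1, act_mul, act_mul, act_inv_act]
  have hKf0 : act K⁻¹ f0 = ee F 0 := by rw [hf0, act_inv_act]
  have hKf1 : act K⁻¹ f1 = ee F 1 := by rw [hf1, act_inv_act]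
  have hT1f0 : act T1 f0 = m • f0 := by
    rw [hT1, act_mul, act_mul, hKf0, hT00, act_smul, ← hf0]
  have hT1f1 : act T1 f1 = m⁻¹ • f1 := by
    rw [hT1, act_mul, act_mul, hKf1, hT01, act_smul, ← hf1]
  have hT0f0 : ∃ μ : F, act T0 f0 = μ • f0 := by
    have h3 : act T1 (act T0 f0) = m • act T0 f0 := by
      rw [← act_mul, hTT, act_mul, hT1f0, act_smul]
    have h4 := hTK (act T0 f0)
    rw [h3, act_smul] at h4
    have h5 := eig0 _ h4.symm
    refine ⟨act K⁻¹ (act T0 f0) 0, ?_⟩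
    have h6 := congrArg (act K) h5
    rw [act_act_inv, act_smul, ← hf0] at h6
    exact h6
  have hT0f1 : ∃ μ : F, act T0 f1 = μ • f1 := by
    have h3 : act T1 (act T0 f1) = m⁻¹ • act T0 f1 := by
      rw [← act_mul, hTT, act_mul, hT1f1, act_smul]
    have h4 := hTK (act T0 f1)
    rw [h3, act_smul] at h4
    have h5 := eig1 _ h4.symm
    refine ⟨act K⁻¹ (act T0 f1) 1, ?_⟩
    have h6 := congrArg (act K) h5
    rw [act_act_inv, act_smul, ← hf1] at h6
    exact h6
  have hf00 : hermForm 4 F 3 f0 f0 = 1 := by rw [hf0, act_form, form_ee_ee hF, if_pos rfl]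
  have hf11 : hermForm 4 F 3 f1 f1 = 1 := by rw [hf1, act_form, form_ee_ee hF, if_pos rfl]
  have hf01 : hermForm 4 F 3 f0 f1 = 0 := by
    rw [hf0, hf1, act_form, form_ee_ee hF, if_neg (by decide)]
  have hf10 := form_comm hF hf01
  -- the final frame
  have final : ∀ (v w u : Fin 4 → F), hermForm 4 F 3 v v = 1 → hermForm 4 F 3 w w = 1 →
      hermForm 4 F 3 u u = 1 → hermForm 4 F 3 u v = 0 → v ∈ WS F (iv 4 0 2) →
      u ∈ WS F (iv 4 0 2) → w ∈ WS F (iv 4 2 2) → (∀ x, hermForm 4 F 3 x u = 0 →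
        hermForm 4 F 3 x v = 0 → x ∈ WS F (iv 4 2 2)) →
      (∀ x, hermForm 4 F 3 x v = 0 → hermForm 4 F 3 x w = 0 →
        hermForm 4 F 3 x f0 = 0 ∧ hermForm 4 F 3 x f1 = 0) →
      ∃ h : SU 4 F 3,
      (∀ x ∈ HH F 3 (iv 4 0 2), ∀ hx : x ∈ HH F 3 (iv 4 0 3),
        ∃ s ∈ HH F 3 (iv 4 0 2), γ (h * s * h⁻¹) = ψ0 ⟨x, hx⟩) ∧
      (∀ x ∈ HH F 3 (iv 4 1 2), ∀ hx : x ∈ HH F 3 (iv 4 0 3),
        ∃ s ∈ HH F 3 (iv 4 1 2), γ (h * s * h⁻¹) = ψ0 ⟨x, hx⟩) ∧
      (∀ x ∈ HH F 3 (iv 4 2 2), ∀ hx : x ∈ HH F 3 (iv 4 1 3),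
        ∃ s ∈ HH F 3 (iv 4 2 2), γ (h * s * h⁻¹) = ψ1 ⟨x, hx⟩) := by
    intro v w u hv hw hu huv hvW huW hwW hperp hspan
    have hortho : ∀ a b : Fin 4 → F, a ∈ WS F (iv 4 0 2) → b ∈ WS F (iv 4 2 2) →
        hermForm 4 F 3 a b = 0 := by
      intro a b ha hb
      obtain ⟨a2, a3⟩ := mem_WS01.1 ha
      obtain ⟨b0, b1⟩ := mem_WS23.1 hb
      rw [hermForm_def, Fin.sum_univ_four, a2, a3, b0, b1]
      ring
    obtain ⟨h, -, hh0, hh1, hh2⟩ := exists_HH3 hF (S := (Finset.univ : Finset (Fin 4)))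
      (a := 0) (b := 1) (c := 2) (i0 := 3) (Finset.mem_univ _) (Finset.mem_univ _)
      (Finset.mem_univ _) (by decide) (by decide) (by decide) (Finset.mem_univ _) (by decide)
      (by decide) (by decide) (u := u) (v := v) (w := w)
      ⟨fun l hl => absurd (Finset.mem_univ l) hl, hu⟩
      ⟨fun l hl => absurd (Finset.mem_univ l) hl, hv⟩
      ⟨fun l hl => absurd (Finset.mem_univ l) hl, hw⟩ huv (hortho u w huW hwW)
      (hortho v w hvW hwW)
    have hh3u : hermForm 4 F 3 (act h (ee F 3)) u = 0 := by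
      rw [← hh0, act_form, form_ee_ee hF, if_neg (by decide)]
    have hh3v : hermForm 4 F 3 (act h (ee F 3)) v = 0 := by
      rw [← hh1, act_form, form_ee_ee hF, if_neg (by decide)]
    have hh3w : hermForm 4 F 3 (act h (ee F 3)) w = 0 := by
      rw [← hh2, act_form, form_ee_ee hF, if_neg (by decide)]
    have hh3W := hperp _ hh3u hh3v
    refine ⟨h, ?_, ?_, ?_⟩
    · intro x hx hx'
      obtain ⟨s, hs, hs'⟩ := s0 x hx hx'
      refine ⟨h⁻¹ * s * h, ?_, ?_⟩
      · rw [iv402]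
        intro k hk
        rw [act_mul, act_mul]
        fin_cases k
        · exact absurd (by decide) hk
        · exact absurd (by decide) hk
        · change act h⁻¹ (act s (act h (ee F 2))) = ee F 2
          rw [hh2, fix01 hs hwW, ← hh2, act_inv_act]
        · change act h⁻¹ (act s (act h (ee F 3))) = ee F 3
          rw [fix01 hs hh3W, act_inv_act]
      · have : h * (h⁻¹ * s * h) * h⁻¹ = s := by group
        rw [this, hs']
    · intro x hx hx'
      have hκx : κ⁻¹ * x * κ ∈ HH F 3 (iv 4 0 2) := by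
        rw [iv402]
        intro k hk
        rw [act_mul, act_mul]
        fin_cases k
        · exact absurd (by decide) hk
        · exact absurd (by decide) hk
        · change act κ⁻¹ (act x (act κ (ee F 2))) = ee F 2
          rw [hκ2, act_smul, hx 0 (by decide), ← hκ2, act_inv_act]
        · change act κ⁻¹ (act x (act κ (ee F 3))) = ee F 3
          rw [hκ 3 (by decide), hx 3 (by decide), inv_mem hκ 3 (by decide)]
      obtain ⟨s, hs, hs'⟩ := s0 _ hκx (sub02 hκx)
      refine ⟨h⁻¹ * (K * s * K⁻¹) * h, ?_, ?_⟩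
      · have hfix : ∀ y, hermForm 4 F 3 y v = 0 → hermForm 4 F 3 y w = 0 →
            act (K * s * K⁻¹) y = y := by
          intro y hyv hyw
          obtain ⟨h3, h4⟩ := hspan y hyv hyw
          have h5 : act K⁻¹ y ∈ WS F (iv 4 2 2) := by
            rw [mem_WS23]
            constructor
            · rw [← form_ee hF (act K⁻¹ y) 0, ← hKf0, act_form]; exact h3
            · rw [← form_ee hF (act K⁻¹ y) 1, ← hKf1, act_form]; exact h4
          rw [act_mul, act_mul, fix01 hs h5, act_act_inv]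
        rw [iv412]
        intro k hk
        rw [act_mul, act_mul]
        fin_cases k
        · change act h⁻¹ (act (K * s * K⁻¹) (act h (ee F 0))) = ee F 0
          rw [hh0, hfix u huv (hortho u w huW hwW), ← hh0, act_inv_act]
        · exact absurd (by decide) hk
        · exact absurd (by decide) hk
        · change act h⁻¹ (act (K * s * K⁻¹) (act h (ee F 3))) = ee F 3
          rw [hfix _ hh3v hh3w, act_inv_act]
      · have : h * (h⁻¹ * (K * s * K⁻¹) * h) * h⁻¹ = K * s * K⁻¹ := by group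
        rw [this, map_mul, map_mul, hs', map_inv, hK, ← map_inv, ← map_mul, ← map_mul]
        congr 1
        apply Subtype.ext
        change κ * (κ⁻¹ * x * κ) * κ⁻¹ = x
        group
    · intro x hx hx'
      obtain ⟨s, hs, hs'⟩ := s2 x hx hx'
      refine ⟨h⁻¹ * s * h, ?_, ?_⟩
      · rw [iv422]
        intro k hk
        rw [act_mul, act_mul]
        fin_cases k
        · change act h⁻¹ (act s (act h (ee F 0))) = ee F 0
          rw [hh0, fix23 hs huW, ← hh0, act_inv_act]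
        · change act h⁻¹ (act s (act h (ee F 1))) = ee F 1
          rw [hh1, fix23 hs hvW, ← hh1, act_inv_act]
        · exact absurd (by decide) hk
        · exact absurd (by decide) hk
      · have : h * (h⁻¹ * s * h) * h⁻¹ = s := by group
        rw [this, hs']
  -- the mixed case
  have mixed : ∀ v w : Fin 4 → F, hermForm 4 F 3 v v = 1 → hermForm 4 F 3 w w = 1 →
      (v = v 0 • ee F 0 ∨ v = v 1 • ee F 1) → w ∈ WS F (iv 4 2 2) →
      (∀ x, hermForm 4 F 3 x v = 0 → hermForm 4 F 3 x w = 0 →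
        hermForm 4 F 3 x f0 = 0 ∧ hermForm 4 F 3 x f1 = 0) →
      ∃ h : SU 4 F 3,
      (∀ x ∈ HH F 3 (iv 4 0 2), ∀ hx : x ∈ HH F 3 (iv 4 0 3),
        ∃ s ∈ HH F 3 (iv 4 0 2), γ (h * s * h⁻¹) = ψ0 ⟨x, hx⟩) ∧
      (∀ x ∈ HH F 3 (iv 4 1 2), ∀ hx : x ∈ HH F 3 (iv 4 0 3),
        ∃ s ∈ HH F 3 (iv 4 1 2), γ (h * s * h⁻¹) = ψ0 ⟨x, hx⟩) ∧
      (∀ x ∈ HH F 3 (iv 4 2 2), ∀ hx : x ∈ HH F 3 (iv 4 1 3),
        ∃ s ∈ HH F 3 (iv 4 2 2), γ (h * s * h⁻¹) = ψ1 ⟨x, hx⟩) := by
    intro v w hv hw hvv hwW hspan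
    have e0W : ee F (0 : Fin 4) ∈ WS F (iv 4 0 2) := ee_mem_WS (by decide)
    have e1W : ee F (1 : Fin 4) ∈ WS F (iv 4 0 2) := ee_mem_WS (by decide)
    rcases hvv with hvv | hvv
    · have hne : v 0 ≠ 0 := by
        intro h0
        rw [h0, zero_smul] at hvv
        rw [hvv, hermForm_zero_left] at hv
        exact zero_ne_one hv
      refine final v w (ee F 1) hv hw (by rw [form_ee_ee hF, if_pos rfl]) ?_ ?_ e1W hwW ?_ hspan
      · rw [hvv, hermForm_smul_right, form_ee_ee hF, if_neg (by decide), mul_zero]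
      · rw [hvv]; exact (WS F (iv 4 0 2)).smul_mem _ e0W
      · intro x hx1 hxv
        rw [hvv, hermForm_smul_right, form_ee hF] at hxv
        rw [form_ee hF] at hx1
        exact mem_WS23.2 ⟨(mul_eq_zero.1 hxv).resolve_left (pow_ne_zero _ hne), hx1⟩
    · have hne : v 1 ≠ 0 := by
        intro h0
        rw [h0, zero_smul] at hvv
        rw [hvv, hermForm_zero_left] at hv
        exact zero_ne_one hv
      refine final v w (ee F 0) hv hw (by rw [form_ee_ee hF, if_pos rfl]) ?_ ?_ e0W hwW ?_ hspan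
      · rw [hvv, hermForm_smul_right, form_ee_ee hF, if_neg (by decide), mul_zero]
      · rw [hvv]; exact (WS F (iv 4 0 2)).smul_mem _ e1W
      · intro x hx1 hxv
        rw [hvv, hermForm_smul_right, form_ee hF] at hxv
        rw [form_ee hF] at hx1
        exact mem_WS23.2 ⟨hx1, (mul_eq_zero.1 hxv).resolve_left (pow_ne_zero _ hne)⟩
  have hf0c : f0 ∈ WS F (iv 4 0 2) ∧ (f0 = f0 0 • ee F 0 ∨ f0 = f0 1 • ee F 1) ∨
      f0 ∈ WS F (iv 4 2 2) := by
    obtain ⟨μ, hμ⟩ := hT0f0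
    rcases eig f0 μ hμ with h3 | h3 | h3
    · left
      refine ⟨?_, Or.inl h3⟩
      rw [h3]; exact (WS F (iv 4 0 2)).smul_mem _ (ee_mem_WS (by decide))
    · left
      refine ⟨?_, Or.inr h3⟩
      rw [h3]; exact (WS F (iv 4 0 2)).smul_mem _ (ee_mem_WS (by decide))
    · right
      exact mem_WS23.2 h3
  have hf1c : f1 ∈ WS F (iv 4 0 2) ∧ (f1 = f1 0 • ee F 0 ∨ f1 = f1 1 • ee F 1) ∨
      f1 ∈ WS F (iv 4 2 2) := by
    obtain ⟨μ, hμ⟩ := hT0f1
    rcases eig f1 μ hμ with h3 | h3 | h3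
    · left
      refine ⟨?_, Or.inl h3⟩
      rw [h3]; exact (WS F (iv 4 0 2)).smul_mem _ (ee_mem_WS (by decide))
    · left
      refine ⟨?_, Or.inr h3⟩
      rw [h3]; exact (WS F (iv 4 0 2)).smul_mem _ (ee_mem_WS (by decide))
    · right
      exact mem_WS23.2 h3
  -- general: `T1` fixes the vectors orthogonal to `f0`, `f1`
  have hT1fix : ∀ v, hermForm 4 F 3 v f0 = 0 → hermForm 4 F 3 v f1 = 0 → act T1 v = v := by
    intro v h3 h4
    have h5 : act K⁻¹ v ∈ WS F (iv 4 2 2) := by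
      rw [mem_WS23]
      constructor
      · rw [← form_ee hF (act K⁻¹ v) 0, ← hKf0, act_form]; exact h3
      · rw [← form_ee hF (act K⁻¹ v) 1, ← hKf1, act_form]; exact h4
    rw [hT1, act_mul, act_mul, fix01 hT0 h5, act_act_inv]
  rcases hf0c with ⟨h3, h4⟩ | h3
  · rcases hf1c with ⟨h5, h6⟩ | h5
    · -- both in the first block
      exfalso
      have h7 : T1 ∈ HH F 3 (iv 4 0 2) := by
        obtain ⟨a2, a3⟩ := mem_WS01.1 h3
        obtain ⟨b2, b3⟩ := mem_WS01.1 h5
        rw [iv402]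
        intro k hk
        fin_cases k
        · exact absurd (by decide) hk
        · exact absurd (by decide) hk
        · refine hT1fix _ (form_comm hF ?_) (form_comm hF ?_)
          · change hermForm 4 F 3 f0 (ee F 2) = 0
            rw [form_ee hF, a2]
          · change hermForm 4 F 3 f1 (ee F 2) = 0
            rw [form_ee hF, b2]
        · refine hT1fix _ (form_comm hF ?_) (form_comm hF ?_)
          · change hermForm 4 F 3 f0 (ee F 3) = 0
            rw [form_ee hF, a3]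
          · change hermForm 4 F 3 f1 (ee F 3) = 0
            rw [form_ee hF, b3]
      obtain ⟨x, hx, hx'⟩ := s0' T1 h7
      rw [hγT1] at hx'
      have h8 := congrArg Subtype.val (i0 hx')
      change x = t1 at h8
      rw [h8] at hx
      have h9 := hx 2 (by decide)
      rw [t1e2] at h9
      have := congrFun h9 2
      apply hli1
      simpa using this
    · refine mixed f0 f1 hf00 hf11 h4 h5 (fun x hx hx' => ⟨hx, hx'⟩)
  · rcases hf1c with ⟨h5, h6⟩ | h5
    · refine mixed f1 f0 hf11 hf00 h6 h3 (fun x hx hx' => ⟨hx', hx⟩)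
    · exfalso
      have h7 : T1 ∈ HH F 3 (iv 4 2 2) := by
        obtain ⟨a2, a3⟩ := mem_WS23.1 h3
        obtain ⟨b2, b3⟩ := mem_WS23.1 h5
        rw [iv422]
        intro k hk
        fin_cases k
        · refine hT1fix _ (form_comm hF ?_) (form_comm hF ?_)
          · change hermForm 4 F 3 f0 (ee F 0) = 0
            rw [form_ee hF, a2]
          · change hermForm 4 F 3 f1 (ee F 0) = 0
            rw [form_ee hF, b2]
        · refine hT1fix _ (form_comm hF ?_) (form_comm hF ?_)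
          · change hermForm 4 F 3 f0 (ee F 1) = 0
            rw [form_ee hF, a3]
          · change hermForm 4 F 3 f1 (ee F 1) = 0
            rw [form_ee hF, b3]
        · exact absurd (by decide) hk
        · exact absurd (by decide) hk
      obtain ⟨x, hx, hx'⟩ := s2' T1 h7
      rw [hγT1, hagree t1 (sub12 ht1m) (sub12' ht1m)] at hx'
      have h8 := congrArg Subtype.val (i1 hx')
      change x = t1 at h8
      rw [h8] at hx
      have h9 := hx 1 (by decide)
      rw [t1e1] at h9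
      have := congrFun h9 1
      apply hl1
      simpa using this

theorem IsDg.act_eq {q n : ℕ} {g : SU n F q} (h : IsDg g) {k : Fin n} {c : F}
    (hc : mt g k k = c) : act g (ee F k) = c • ee F k := by
  obtain ⟨c', hc'⟩ := h k
  have : c' = c := by
    have h1 := congrFun hc' k
    rw [act_ee, hc] at h1
    simpa using h1.symm
  rw [hc', this]

theorem ker_conj {G : Type*} [Group G] {q : ℕ} {γ : SU 4 F q →* G}
    (hker : ∀ x, γ x = 1 → ∃ ζ : F, ∀ v, act x v = ζ • v) (g : SU 4 F q) :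
    ∀ x, (γ.comp (MulAut.conj g).toMonoidHom) x = 1 → ∃ ζ : F, ∀ v, act x v = ζ • v := by
  intro x hx
  obtain ⟨ζ, hζ⟩ := hker (g * x * g⁻¹) hx
  refine ⟨ζ, fun v => ?_⟩
  have h1 := hζ (act g v)
  rw [act_mul, act_mul, act_inv_act, ← act_smul, act_inj] at h1
  exact h1

set_option maxHeartbeats 1000000 in
/-- **Stage 2**: diagonalising the torus. -/
theorem stage2 {G : Type*} [Group G] (hF : Fintype.card F = 3 ^ 2) {γ : SU 4 F 3 →* G}
    (hker : ∀ x, γ x = 1 → ∃ ζ : F, ∀ v, act x v = ζ • v)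
    (ψ0 : HH F 3 (iv 4 0 3) →* G) (ψ1 : HH F 3 (iv 4 1 3) →* G)
    (i0 : Function.Injective ψ0) (i1 : Function.Injective ψ1)
    (r0 : ∀ x, ∃ y, γ y = ψ0 x)
    (hagree : ∀ g (h0 : g ∈ HH F 3 (iv 4 0 3)) (h1 : g ∈ HH F 3 (iv 4 1 3)),
      ψ0 ⟨g, h0⟩ = ψ1 ⟨g, h1⟩)
    (s0 : ∀ x ∈ HH F 3 (iv 4 0 2), ∀ hx : x ∈ HH F 3 (iv 4 0 3),
      ∃ s ∈ HH F 3 (iv 4 0 2), γ s = ψ0 ⟨x, hx⟩)
    (s2 : ∀ x ∈ HH F 3 (iv 4 2 2), ∀ hx : x ∈ HH F 3 (iv 4 1 3),
      ∃ s ∈ HH F 3 (iv 4 2 2), γ s = ψ1 ⟨x, hx⟩)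
    (sD : ∀ D ∈ HH F 3 (iv 4 0 2), ∀ hx : D ∈ HH F 3 (iv 4 0 3), act D (ee F 0) = -ee F 0 →
      act D (ee F 1) = -ee F 1 → γ D = ψ0 ⟨D, hx⟩) :
    ∃ h : SU 4 F 3,
      (∀ x ∈ HH F 3 (iv 4 0 2), ∀ hx : x ∈ HH F 3 (iv 4 0 3),
        ∃ s ∈ HH F 3 (iv 4 0 2), γ (h * s * h⁻¹) = ψ0 ⟨x, hx⟩) ∧
      (∀ x ∈ HH F 3 (iv 4 1 2), ∀ hx : x ∈ HH F 3 (iv 4 0 3),
        ∃ s ∈ HH F 3 (iv 4 1 2), γ (h * s * h⁻¹) = ψ0 ⟨x, hx⟩) ∧
      (∀ x ∈ HH F 3 (iv 4 2 2), ∀ hx : x ∈ HH F 3 (iv 4 1 3),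
        ∃ s ∈ HH F 3 (iv 4 2 2), γ (h * s * h⁻¹) = ψ1 ⟨x, hx⟩) := by
  have h2 := two_ne_zero3 hF
  have sub02 : HH F 3 (iv 4 0 2) ≤ HH F 3 (iv 4 0 3) := HH_mono (iv_mono le_rfl (by omega))
  obtain ⟨l, hl, hl2⟩ := exists_norm_one_sq_ne hF
  have hl0 := norm_ne_zero hl
  have hl2' : l ^ 2 = -1 := by
    have h1 : (l ^ 2 - 1) * (l ^ 2 + 1) = 0 := by linear_combination hl
    exact eq_neg_of_add_eq_zero_left ((mul_eq_zero.1 h1).resolve_left (sub_ne_zero.2 hl2))
  have hli : l⁻¹ = -l := by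
    apply inv_eq_of_mul_eq_one_right
    linear_combination -hl2'
  obtain ⟨t0, ht0, htd, ht00, ht01⟩ := exists_dg (q := 3) (show (0 : Fin 4) ≠ 1 by decide) hl
  rw [← iv402] at ht0
  have te0 := htd.act_eq ht00
  have te1 := htd.act_eq ht01
  obtain ⟨T0, hT0, hγT⟩ := s0 t0 ht0 (sub02 ht0)
  obtain ⟨D, hD⟩ : ∃ D, D = t0 * t0 := ⟨_, rfl⟩
  have hDm : D ∈ HH F 3 (iv 4 0 2) := by rw [hD]; exact mul_mem ht0 ht0
  have hD0 : act D (ee F 0) = -ee F 0 := by
    rw [hD, act_mul, te0, act_smul, te0, smul_smul, ← neg_one_smul F]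
    congr 1
    linear_combination hl2'
  have hD1 : act D (ee F 1) = -ee F 1 := by
    rw [hD, act_mul, te1, act_smul, te1, smul_smul, ← neg_one_smul F, hli]
    congr 1
    linear_combination hl2'
  have hγD := sD D hDm (sub02 hDm) hD0 hD1
  have hTT : T0 * T0 = D := by
    have h1 : γ (T0 * T0 * D⁻¹) = 1 := by
      rw [map_mul, map_mul, map_inv, hγT, hγD, ← map_mul, ← map_inv, ← map_mul]
      rw [← map_one ψ0]
      congr 1
      apply Subtype.ext
      change t0 * t0 * D⁻¹ = 1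
      rw [← hD, mul_inv_cancel]
    obtain ⟨ζ, hζ⟩ := hker _ h1
    have h3 := hζ (ee F 2)
    have k2 : (2 : Fin 4) ∉ iv 4 0 2 := by decide
    rw [act_mul, act_mul, inv_mem hDm 2 k2, hT0 2 k2, hT0 2 k2] at h3
    have h4 : ζ = 1 := by
      have := congrFun h3 2
      simpa using this.symm
    have h5 : T0 * T0 * D⁻¹ = 1 := act_ext (fun v => by rw [hζ, h4, one_smul, act_one])
    exact mul_inv_eq_one.1 h5
  -- eigenvectors
  obtain ⟨p, hp⟩ : ∃ p, p = act T0 (ee F 0) := ⟨_, rfl⟩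
  have hTp : act T0 p = -ee F 0 := by rw [hp, ← act_mul, hTT, hD0]
  have e0W : ee F (0 : Fin 4) ∈ WS F (iv 4 0 2) := ee_mem_WS (by decide)
  have hpW : p ∈ WS F (iv 4 0 2) := by rw [hp]; exact act_mem_WS hF hT0 e0W
  have hpp : hermForm 4 F 3 p p = 1 := by rw [hp, act_form, form_ee_ee hF, if_pos rfl]
  have h00 : hermForm 4 F 3 (ee F 0) (ee F 0) = 1 := by rw [form_ee_ee hF, if_pos rfl]
  have hsum : hermForm 4 F 3 (ee F 0 - l • p) (ee F 0 - l • p) +
      hermForm 4 F 3 (ee F 0 + l • p) (ee F 0 + l • p) = 4 := by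
    rw [hermForm_sub_left, hermForm_sub_right hF, hermForm_sub_right hF, hermForm_add_left,
      hermForm_add_right hF, hermForm_add_right hF, hermForm_smul_left, hermForm_smul_right,
      hermForm_smul_left, hermForm_smul_right, hpp, h00]
    linear_combination 2 * hl
  have h4 : (4 : F) ≠ 0 := by
    intro h
    have : (1 : F) = 0 := by linear_combination h - three_eq_zero hF
    exact one_ne_zero this
  obtain ⟨u, m, hu, hTu, hm⟩ : ∃ (u : Fin 4 → F) (m : F), Un 3 (WS F (iv 4 0 2)) u ∧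
      act T0 u = m • u ∧ m ^ 2 = -1 := by
    by_cases h : hermForm 4 F 3 (ee F 0 - l • p) (ee F 0 - l • p) = 0
    · have h' : hermForm 4 F 3 (ee F 0 + l • p) (ee F 0 + l • p) ≠ 0 := by
        rw [h, zero_add] at hsum
        rw [hsum]; exact h4
      obtain ⟨c, hc, hcu⟩ := exists_scale hF (W := WS F (iv 4 0 2))
        ((WS F (iv 4 0 2)).add_mem e0W ((WS F (iv 4 0 2)).smul_mem l hpW)) h'
      refine ⟨_, -l, hcu, ?_, by linear_combination hl2'⟩
      rw [act_smul, act_add, act_smul, hTp, ← hp, smul_comm (-l) c]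
      congr 1
      rw [smul_add, smul_smul, neg_smul, smul_neg]
      have : -l * l = 1 := by linear_combination -hl2'
      rw [this, one_smul, add_comm]
    · obtain ⟨c, hc, hcu⟩ := exists_scale hF (W := WS F (iv 4 0 2))
        ((WS F (iv 4 0 2)).sub_mem e0W ((WS F (iv 4 0 2)).smul_mem l hpW)) h
      refine ⟨_, l, hcu, ?_, hl2'⟩
      rw [act_smul, act_sub, act_smul, hTp, ← hp, smul_comm l c]
      congr 1
      rw [smul_sub, smul_smul, smul_neg]
      have : l * l = -1 := by linear_combination hl2'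
      rw [this, neg_one_smul, sub_neg_eq_add, sub_neg_eq_add, add_comm]
  have hm4 : m ^ (3 + 1) = 1 := by
    have : m ^ (3 + 1) = (m ^ 2) ^ 2 := by ring
    rw [this, hm]; ring
  have hm0 := norm_ne_zero hm4
  rw [iv402] at hu
  obtain ⟨g, hg, hge⟩ := exists_HH1 hF (S := ({0, 1} : Finset (Fin 4))) (a := 0) (i0 := 1)
    (by simp) (by simp) (by decide) hu
  rw [← iv402] at hg
  obtain ⟨d, hd, hdd, hd0, hd1⟩ := exists_dg (q := 3) (show (0 : Fin 4) ≠ 1 by decide) hm4
  rw [← iv402] at hd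
  have de0 := hdd.act_eq hd0
  have de1 := hdd.act_eq hd1
  have hconj : g⁻¹ * T0 * g = d := by
    have hm1 : g⁻¹ * T0 * g ∈ HH F 3 (iv 4 0 2) := mul_mem (mul_mem (inv_mem hg) hT0) hg
    have h3 : g⁻¹ * T0 * g * d⁻¹ ∈ HH F 3 ({1} : Finset (Fin 4)) := by
      intro k hk
      have hdi : act d⁻¹ (ee F 0) = m⁻¹ • ee F 0 := by
        have := congrArg (act d⁻¹) de0
        rw [act_inv_act, act_smul] at this
        rw [eq_inv_smul_iff₀ hm0]
        exact this.symm
      fin_cases k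
      · change act (g⁻¹ * T0 * g * d⁻¹) (ee F 0) = ee F 0
        rw [act_mul, act_mul, act_mul, hdi, act_smul, act_smul, act_smul, hge, hTu, act_smul,
          ← hge, act_inv_act, smul_smul, inv_mul_cancel₀ hm0, one_smul]
      · exact absurd (by decide) hk
      · exact mul_mem hm1 (inv_mem hd) 2 (by decide)
      · exact mul_mem hm1 (inv_mem hd) 3 (by decide)
    have h5 := HH_singleton hF h3
    exact mul_inv_eq_one.1 h5
  obtain ⟨h, a1, a2, a3⟩ := stage3 hF (γ := γ.comp (MulAut.conj g).toMonoidHom) (ker_conj hker g)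
    ψ0 ψ1 i0 i1 (by
      intro x
      obtain ⟨y, hy⟩ := r0 x
      refine ⟨g⁻¹ * y * g, ?_⟩
      change γ (g * (g⁻¹ * y * g) * g⁻¹) = _
      have : g * (g⁻¹ * y * g) * g⁻¹ = y := by group
      rw [this, hy]) hagree (by
      intro x hx hx'
      obtain ⟨s, hs, hs'⟩ := s0 x hx hx'
      refine ⟨g⁻¹ * s * g, mul_mem (mul_mem (inv_mem hg) hs) hg, ?_⟩
      change γ (g * (g⁻¹ * s * g) * g⁻¹) = _
      have : g * (g⁻¹ * s * g) * g⁻¹ = s := by group
      rw [this, hs']) (by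
      intro x hx hx'
      obtain ⟨s, hs, hs'⟩ := s2 x hx hx'
      refine ⟨s, hs, ?_⟩
      change γ (g * s * g⁻¹) = _
      have : g * s = s * g := commute_of_disjoint hF (S := iv 4 0 2) (T := iv 4 2 2)
        (by rw [iv402, iv422]; decide) hg hs
      rw [this, mul_assoc, mul_inv_cancel, mul_one, hs']) hl2' hm ht0 (sub02 ht0) te0 te1 hd de0
      de1 (by
      change γ (g * d * g⁻¹) = _
      have : g * d * g⁻¹ = T0 := by rw [← hconj]; group
      rw [this, hγT])
  have hcc : ∀ s, γ (g * h * s * (g * h)⁻¹) =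
      (γ.comp (MulAut.conj g).toMonoidHom) (h * s * h⁻¹) := by
    intro s
    change _ = γ (g * (h * s * h⁻¹) * g⁻¹)
    congr 1
    group
  refine ⟨g * h, ?_, ?_, ?_⟩
  · intro x hx hx'
    obtain ⟨s, hs, hs'⟩ := a1 x hx hx'
    exact ⟨s, hs, by rw [hcc, hs']⟩
  · intro x hx hx'
    obtain ⟨s, hs, hs'⟩ := a2 x hx hx'
    exact ⟨s, hs, by rw [hcc, hs']⟩
  · intro x hx hx'
    obtain ⟨s, hs, hs'⟩ := a3 x hx hx'
    exact ⟨s, hs, by rw [hcc, hs']⟩

set_option maxHeartbeats 1000000 in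
/-- **Completion of rank three amalgams, `q = 3`.** -/
theorem complete3 {G : Type*} [Group G] (hF : Fintype.card F = 3 ^ 2) {γ : SU 4 F 3 →* G}
    (ψ0 : HH F 3 (iv 4 0 3) →* G) (ψ1 : HH F 3 (iv 4 1 3) →* G)
    (i0 : Function.Injective ψ0) (i1 : Function.Injective ψ1)
    (r0 : ∀ x, ∃ y, γ y = ψ0 x) (r1 : ∀ x, ∃ y, γ y = ψ1 x)
    (hagree : ∀ g (h0 : g ∈ HH F 3 (iv 4 0 3)) (h1 : g ∈ HH F 3 (iv 4 1 3)),
      ψ0 ⟨g, h0⟩ = ψ1 ⟨g, h1⟩)
    (hcomm : ∀ x ∈ HH F 3 (iv 4 0 2), ∀ (hx : x ∈ HH F 3 (iv 4 0 3)), ∀ y ∈ HH F 3 (iv 4 2 2),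
      ∀ (hy : y ∈ HH F 3 (iv 4 1 3)), ψ0 ⟨x, hx⟩ * ψ1 ⟨y, hy⟩ = ψ1 ⟨y, hy⟩ * ψ0 ⟨x, hx⟩) :
    ∃ Φ : SU 4 F 3 →* G, (∀ x : HH F 3 (iv 4 0 3), Φ x = ψ0 x) ∧
      ∀ x : HH F 3 (iv 4 1 3), Φ x = ψ1 x := by
  classical
  have h2 := two_ne_zero3 hF
  have sub02 : HH F 3 (iv 4 0 2) ≤ HH F 3 (iv 4 0 3) := HH_mono (iv_mono le_rfl (by omega))
  have sub12 : HH F 3 (iv 4 1 2) ≤ HH F 3 (iv 4 0 3) := HH_mono (iv_mono (by omega) (by omega))
  have sub12' : HH F 3 (iv 4 1 2) ≤ HH F 3 (iv 4 1 3) := HH_mono (iv_mono (by omega) (by omega))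
  have sub22 : HH F 3 (iv 4 2 2) ≤ HH F 3 (iv 4 1 3) := HH_mono (iv_mono (by omega) (by omega))
  -- noncentral elements
  have hnc0 : ∀ c ∈ HH F 3 (iv 4 0 2), c ≠ 1 → ∃ x ∈ HH F 3 (iv 4 0 3), x * c ≠ c * x := by
    intro c hc hc1
    by_contra hcon
    push Not at hcon
    apply hc1
    have e3 : iv 4 0 3 = ({0, 1, 2} : Finset (Fin 4)) := by decide
    obtain ⟨μ, hμ1, hμ2⟩ := scalar_of_comm_HH hF (show (1 : Fin 4) ≠ 2 by decide) (s := c) (by
      intro y hy
      rw [← iv412] at hy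
      exact (hcon y (sub12 hy)).symm)
    have h3 : μ = 1 := by
      rw [hc 2 (by decide)] at hμ2
      have := congrFun hμ2 2
      simpa using this.symm
    rw [h3, one_smul] at hμ1
    apply HH_singleton hF (a := (0 : Fin 4))
    intro k hk
    fin_cases k
    · exact absurd (by decide) hk
    · exact hμ1
    · exact hc 2 (by decide)
    · exact hc 3 (by decide)
  -- the kernel of `γ`
  have hker : ∀ x, γ x = 1 → ∃ ζ : F, ∀ v, act x v = ζ • v := by
    intro x hx
    rcases normal_le_center_or_top hF (by norm_num) (by omega) γ.ker with h | h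
    · obtain ⟨c, hc⟩ := (mem_center_SU_iff hF (by norm_num) x).1 (h hx)
      refine ⟨c, fun v => ?_⟩
      rw [act_def, hc]
      funext k
      rw [Matrix.mulVec_diagonal]
      rfl
    · exfalso
      have h3 : ∀ y, γ y = 1 := by
        intro y
        have : y ∈ γ.ker := by rw [h]; trivial
        exact this
      obtain ⟨l, hl, hl2⟩ := exists_norm_one_sq_ne hF
      obtain ⟨t0, ht0, htd, ht00, ht01⟩ := exists_dg (q := 3) (show (0 : Fin 4) ≠ 1 by decide) hl
      rw [← iv402] at ht0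
      obtain ⟨y, hy⟩ := r0 ⟨t0, sub02 ht0⟩
      rw [h3, ← map_one ψ0] at hy
      have h4 := congrArg Subtype.val (i0 hy)
      change 1 = t0 at h4
      rw [← h4, mt_one, Matrix.one_apply_eq] at ht00
      apply hl2
      rw [← ht00, one_pow]
  obtain ⟨h1, b1, b2, b3⟩ := stage1 hF hker (ψ0.comp (Subgroup.inclusion sub02))
    (ψ1.comp (Subgroup.inclusion sub22)) (i1.comp (Subgroup.inclusion_injective _))
    (fun x => r0 _) (fun x => r1 _) (fun x y => hcomm x x.2 _ y y.2 _) (by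
      intro c hc
      obtain ⟨x, hx, hxc⟩ := hnc0 c c.2 (fun h => hc (Subtype.ext h))
      obtain ⟨y, hy⟩ := r0 ⟨x, hx⟩
      refine ⟨y, fun h => hxc ?_⟩
      rw [hy] at h
      have h3 : ψ0 (⟨x, hx⟩ * ⟨c, sub02 c.2⟩) = ψ0 (⟨c, sub02 c.2⟩ * ⟨x, hx⟩) := by
        rw [map_mul, map_mul]; exact h
      exact congrArg Subtype.val (i0 h3))
  obtain ⟨γ1, hγ1⟩ : ∃ γ1 : SU 4 F 3 →* G, ∀ x, γ1 x = γ (h1 * x * h1⁻¹) :=
    ⟨γ.comp (MulAut.conj h1).toMonoidHom, fun _ => rfl⟩
  have hker1 : ∀ x, γ1 x = 1 → ∃ ζ : F, ∀ v, act x v = ζ • v := by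
    intro x hx
    rw [hγ1] at hx
    exact ker_conj hker h1 x hx
  have rr : ∀ y, ∃ y', γ1 y' = γ y := by
    intro y
    refine ⟨h1⁻¹ * y * h1, ?_⟩
    rw [hγ1]
    congr 1
    group
  obtain ⟨h, a1, a2, a3⟩ := stage2 hF hker1 ψ0 ψ1 i0 i1 (by
      intro x
      obtain ⟨y, hy⟩ := r0 x
      obtain ⟨y', hy'⟩ := rr y
      exact ⟨y', hy'.trans hy⟩) hagree (by
      intro x hx hx'
      obtain ⟨s, hs, hs'⟩ := b1 ⟨x, hx⟩
      exact ⟨s, hs, by rw [hγ1, hs']; rfl⟩) (by
      intro x hx hx'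
      obtain ⟨s, hs, hs'⟩ := b2 ⟨x, hx⟩
      exact ⟨s, hs, by rw [hγ1, hs']; rfl⟩) (by
      intro D hD hx hD0 hD1
      rw [hγ1]
      exact b3 ⟨D, hD⟩ hD0 hD1)
  obtain ⟨γ2, hγ2⟩ : ∃ γ2 : SU 4 F 3 →* G, ∀ x, γ2 x = γ1 (h * x * h⁻¹) :=
    ⟨γ1.comp (MulAut.conj h).toMonoidHom, fun _ => rfl⟩
  have hker2 : ∀ x, γ2 x = 1 → ∃ ζ : F, ∀ v, act x v = ζ • v := by
    intro x hx
    rw [hγ2] at hx
    exact ker_conj hker1 h x hx
  -- the rank one homomorphisms
  obtain ⟨E, hE0, hE1, hE2⟩ : ∃ E : ∀ j : ℕ, HH F 3 (iv 4 j 2) →* G,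
      (∀ x : HH F 3 (iv 4 0 2), E 0 x = ψ0 ⟨x, sub02 x.2⟩) ∧
      (∀ x : HH F 3 (iv 4 1 2), E 1 x = ψ0 ⟨x, sub12 x.2⟩) ∧
      (∀ x : HH F 3 (iv 4 2 2), E 2 x = ψ1 ⟨x, sub22 x.2⟩) := by
    refine ⟨fun j => match j with
      | 0 => ψ0.comp (Subgroup.inclusion sub02)
      | 1 => ψ0.comp (Subgroup.inclusion sub12)
      | 2 => ψ1.comp (Subgroup.inclusion sub22)
      | (k + 3) => 1, fun x => rfl, fun x => rfl, fun x => rfl⟩
  have hE1' : ∀ x : HH F 3 (iv 4 1 2), E 1 x = ψ1 ⟨x, sub12' x.2⟩ := by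
    intro x; rw [hE1, hagree]
  have hinj : ∀ j, j + 2 ≤ 4 → Function.Injective (E j) := by
    intro j hj x y hxy
    have h3 : j = 0 ∨ j = 1 ∨ j = 2 := by omega
    rcases h3 with rfl | rfl | rfl
    · rw [hE0, hE0] at hxy
      have h5 := congrArg Subtype.val (i0 hxy)
      exact Subtype.ext h5
    · rw [hE1, hE1] at hxy
      have h5 := congrArg Subtype.val (i0 hxy)
      exact Subtype.ext h5
    · rw [hE2, hE2] at hxy
      have h5 := congrArg Subtype.val (i1 hxy)
      exact Subtype.ext h5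
  have hle : ∀ j, j + 2 ≤ 4 → ∀ x, ∃ s ∈ HH F 3 (iv 4 j 2), γ2 s = E j x := by
    intro j hj x
    have h3 : j = 0 ∨ j = 1 ∨ j = 2 := by omega
    rcases h3 with rfl | rfl | rfl
    · obtain ⟨s, hs, hs'⟩ := a1 x x.2 (sub02 x.2)
      exact ⟨s, hs, by rw [hγ2, hs', hE0]⟩
    · obtain ⟨s, hs, hs'⟩ := a2 x x.2 (sub12 x.2)
      exact ⟨s, hs, by rw [hγ2, hs', hE1]⟩
    · obtain ⟨s, hs, hs'⟩ := a3 x x.2 (sub22 x.2)
      exact ⟨s, hs, by rw [hγ2, hs', hE2]⟩
  obtain ⟨β, hβ, hβE⟩ := compare hF (Or.inr rfl) γ2 hker2 E hinj (by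
      intro j hj y
      have h3 := range_eq_of_le (f := E j) (g := γ2.comp (HH F 3 (iv 4 j 2)).subtype)
        (hinj j hj) (by
          rintro _ ⟨x, rfl⟩
          obtain ⟨s, hs, hs'⟩ := hle j hj x
          exact ⟨⟨s, hs⟩, hs'⟩)
      constructor
      · rintro ⟨x, rfl⟩
        exact hle j hj x
      · rintro ⟨x, hx, rfl⟩
        have h4 : γ2 x ∈ (γ2.comp (HH F 3 (iv 4 j 2)).subtype).range := ⟨⟨x, hx⟩, rfl⟩
        rw [← h3] at h4
        exact h4) (by
      intro j j' hj hj' hjj t x x' ht hx'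
      have h3 : (j = 0 ∧ j' = 1) ∨ (j = 1 ∧ j' = 0) ∨ (j = 1 ∧ j' = 2) ∨ (j = 2 ∧ j' = 1) := by
        omega
      rcases h3 with ⟨rfl, rfl⟩ | ⟨rfl, rfl⟩ | ⟨rfl, rfl⟩ | ⟨rfl, rfl⟩
      · rw [hE0, hE1, hE1, ← map_inv, ← map_mul, ← map_mul]
        congr 1
        exact Subtype.ext hx'
      · rw [hE0, hE0, hE1, ← map_inv, ← map_mul, ← map_mul]
        congr 1
        exact Subtype.ext hx'
      · rw [hE2, hE2, hE1', ← map_inv, ← map_mul, ← map_mul]
        congr 1
        exact Subtype.ext hx'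
      · rw [hE2, hE1', hE1', ← map_inv, ← map_mul, ← map_mul]
        congr 1
        exact Subtype.ext hx')
  refine ⟨γ2.comp β.toMonoidHom, ?_, ?_⟩
  · intro x
    refine HH_ind hF le_rfl (m := 3) (by omega) (i := 0) (by omega)
      (P := fun g => ∀ (h1 : g ∈ HH F 3 (iv 4 0 3)), (γ2.comp β.toMonoidHom) g = ψ0 ⟨g, h1⟩)
      ?_ ?_ ?_ x x.2 x.2
    · intro k hk1 hk2 g hg h3
      have h4 : k = 0 ∨ k = 1 := by omega
      rcases h4 with rfl | rfl
      · exact (hβE 0 (by omega) ⟨g, hg⟩).trans (hE0 _)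
      · exact (hβE 1 (by omega) ⟨g, hg⟩).trans (hE1 _)
    · intro g hg h hh ihg ihh hgh
      rw [map_mul, ihg hg, ihh hh, ← map_mul]
      rfl
    · intro g hg ih h1
      rw [map_inv, ih hg, ← map_inv]
      rfl
  · intro x
    refine HH_ind hF le_rfl (m := 3) (by omega) (i := 1) (by omega)
      (P := fun g => ∀ (h1 : g ∈ HH F 3 (iv 4 1 3)), (γ2.comp β.toMonoidHom) g = ψ1 ⟨g, h1⟩)
      ?_ ?_ ?_ x x.2 x.2
    · intro k hk1 hk2 g hg h3
      have h4 : k = 1 ∨ k = 2 := by omega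
      rcases h4 with rfl | rfl
      · exact (hβE 1 (by omega) ⟨g, hg⟩).trans (hE1' _)
      · exact (hβE 2 (by omega) ⟨g, hg⟩).trans (hE2 _)
    · intro g hg h hh ihg ihh hgh
      rw [map_mul, ihg hg, ihh hh, ← map_mul]
      rfl
    · intro g hg ih h1
      rw [map_inv, ih hg, ← map_inv]
      rfl

end Cfsg.Agent.Phan
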