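import Cfsg.Agent.Phan.Three

/-!
# Completion of rank three intervals
-/

set_option autoImplicit false
set_option linter.unusedSectionVars false

namespace Cfsg.Agent.Phan

open Cfsg.Agent.Uni Module Matrix

variable {F : Type*} [Field F] [Fintype F]

/-- Transporting coordinate subgroups to a small group. -/
theorem exists_sub_hom {q n i m : ℕ} (him : i + m ≤ n) (hF : Fintype.card F = q ^ 2)
    {T : Finset (Fin m)} {S : Finset (Fin n)} (hST : ∀ a, ix him a ∈ S ↔ a ∈ T) :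
    ∃ f : HH F q T →* HH F q S,
      ∀ x, ((f x : HH F q S) : SU n F q) = ((kap him hF).symm (x : SU m F q) : HH F q (iv n i m)) := by
  have hmem : ∀ x : HH F q T, (((kap him hF).symm (x : SU m F q) : HH F q (iv n i m)) : SU n F q) ∈
      HH F q S := by
    intro x
    rw [← kap_mem_iff him hF _ hST, MulEquiv.apply_symm_apply]
    exact x.2
  refine ⟨{ toFun := fun x => ⟨_, hmem x⟩, map_one' := ?_, map_mul' := ?_ }, fun x => rfl⟩
  · apply Subtype.ext
    change (((kap him hF).symm 1 : HH F q (iv n i m)) : SU n F q) = 1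
    rw [map_one]; rfl
  · intro x y
    apply Subtype.ext
    change (((kap him hF).symm ((x : SU m F q) * y) : HH F q (iv n i m)) : SU n F q) = _
    rw [map_mul]; rfl

/-- `SU_3(3)` has trivial centre: standard homomorphisms are injective. -/
theorem Std.injective3 {n : ℕ} {G : Type*} [Group G] (hF : Fintype.card F = 3 ^ 2) {j : ℕ}
    (hj : j + 3 ≤ n) {ψ : HH F 3 (iv n j 3) →* G} {V A B : Subgroup G} (h : Std j ψ V A B) :
    Function.Injective ψ := by
  rw [injective_iff_map_eq_one]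
  intro g hg
  obtain ⟨ζ, hζ⟩ := h.ker g hg
  have h1 : ∀ v, act (kap hj hF g) v = ζ • v := by
    have h2 : mt (kap hj hF g) = Matrix.diagonal (fun _ => ζ) := by
      ext a b
      rw [kap_apply, ← act_ee, hζ _ (ix_mem hj b)]
      by_cases hab : a = b
      · subst hab
        rw [Matrix.diagonal_apply_eq]; simp
      · rw [Matrix.diagonal_apply_ne _ hab]
        have : ix hj a ≠ ix hj b := fun h => hab (ix_injective hj h)
        simp [this]
    intro v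
    rw [act_def, show ((kap hj hF g : Matrix.SpecialLinearGroup (Fin 3) F) :
      Matrix (Fin 3) (Fin 3) F) = _ from h2]
    funext k
    rw [Matrix.mulVec_diagonal]
    rfl
  have h2 := scalar_pow h1
  have h3 := cube_one hF h2
  apply Subtype.ext
  apply act_ext_ee
  intro l
  rw [Subgroup.coe_one, act_one]
  by_cases hl : l ∈ iv n j 3
  · rw [hζ l hl, h3, one_smul]
  · exact g.2 l hl

theorem exists_base3 {n : ℕ} {G : Type*} [Group G] (hF : Fintype.card F = 3 ^ 2) {i : ℕ}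
    (him : i + 4 ≤ n) {Ψ0 : HH F 3 (iv n i 3) →* G} {Ψ1 : HH F 3 (iv n (i + 1) 3) →* G}
    {V0 V1 A B C : Subgroup G} (h0 : Std i Ψ0 V0 A B) (h1 : Std (i + 1) Ψ1 V1 B C)
    (hc : ∀ (g : SU n F 3) (_ : g ∈ HH F 3 (iv n (i + 1) 2)) (h1 : g ∈ HH F 3 (iv n (i + 1) 3))
      (h2 : g ∈ HH F 3 (iv n i 3)), Ψ1 ⟨g, h1⟩ = Ψ0 ⟨g, h2⟩)
    (hAC : ∀ x ∈ A, ∀ y ∈ C, x * y = y * x) (γ : SU 4 F 3 →* G)
    (hγ0 : ∀ x ∈ V0, ∃ y, γ y = x) (hγ1 : ∀ x ∈ V1, ∃ y, γ y = x) :
    ∃ Φ : HH F 3 (iv n i 4) →* G,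
      (∀ (g : SU n F 3) (h1 : g ∈ HH F 3 (iv n i 4)) (h2 : g ∈ HH F 3 (iv n i 3)),
        Φ ⟨g, h1⟩ = Ψ0 ⟨g, h2⟩) ∧
      (∀ (g : SU n F 3) (h1 : g ∈ HH F 3 (iv n i 4)) (h2 : g ∈ HH F 3 (iv n (i + 1) 3)),
        Φ ⟨g, h1⟩ = Ψ1 ⟨g, h2⟩) := by
  have k03 : ∀ a : Fin 4, ix him a ∈ iv n i 3 ↔ a ∈ iv 4 0 3 := by
    intro a; rw [mem_iv, mem_iv]; simp only [ix]; omega
  have k13 : ∀ a : Fin 4, ix him a ∈ iv n (i + 1) 3 ↔ a ∈ iv 4 1 3 := by
    intro a; rw [mem_iv, mem_iv]; simp only [ix]; omega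
  have k02 : ∀ a : Fin 4, ix him a ∈ iv n i 2 ↔ a ∈ iv 4 0 2 := by
    intro a; rw [mem_iv, mem_iv]; simp only [ix]; omega
  have k12 : ∀ a : Fin 4, ix him a ∈ iv n (i + 1) 2 ↔ a ∈ iv 4 1 2 := by
    intro a; rw [mem_iv, mem_iv]; simp only [ix]; omega
  have k22 : ∀ a : Fin 4, ix him a ∈ iv n (i + 2) 2 ↔ a ∈ iv 4 2 2 := by
    intro a; rw [mem_iv, mem_iv]; simp only [ix]; omega
  obtain ⟨f0, hf0⟩ := exists_sub_hom him hF k03
  obtain ⟨f1, hf1⟩ := exists_sub_hom him hF k13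
  have hmem : ∀ {T : Finset (Fin 4)} {S : Finset (Fin n)} (_ : ∀ a, ix him a ∈ S ↔ a ∈ T)
      (x : SU 4 F 3), x ∈ HH F 3 T →
      (((kap him hF).symm x : HH F 3 (iv n i 4)) : SU n F 3) ∈ HH F 3 S := by
    intro T S hST x hx
    rw [← kap_mem_iff him hF _ hST, MulEquiv.apply_symm_apply]
    exact hx
  have hinj0 : Function.Injective f0 := by
    intro x y hxy
    have h2 := congrArg Subtype.val hxy
    rw [hf0, hf0] at h2
    exact Subtype.ext ((kap him hF).symm.injective (Subtype.ext h2))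
  have hinj1 : Function.Injective f1 := by
    intro x y hxy
    have h2 := congrArg Subtype.val hxy
    rw [hf1, hf1] at h2
    exact Subtype.ext ((kap him hF).symm.injective (Subtype.ext h2))
  obtain ⟨Φ, hΦ0, hΦ1⟩ := complete3 hF (γ := γ) (Ψ0.comp f0) (Ψ1.comp f1)
    ((h0.injective3 hF (by omega)).comp hinj0) ((h1.injective3 hF (by omega)).comp hinj1)
    (fun x => hγ0 _ ((h0.range _).2 ⟨_, rfl⟩)) (fun x => hγ1 _ ((h1.range _).2 ⟨_, rfl⟩)) (by
      intro g hg0 hg1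
      have hg : g ∈ HH F 3 (iv 4 1 2) := by
        intro k hk
        by_cases hk0 : k ∈ iv 4 0 3
        · refine hg1 k ?_
          rw [mem_iv] at hk hk0 ⊢
          omega
        · exact hg0 k hk0
      have h2 := hmem k12 g hg
      have h3 := hmem k13 g hg1
      have h4 := hmem k03 g hg0
      have h5 := hc _ h2 h3 h4
      have e0 : f0 ⟨g, hg0⟩ = ⟨_, h4⟩ := Subtype.ext (hf0 _)
      have e1 : f1 ⟨g, hg1⟩ = ⟨_, h3⟩ := Subtype.ext (hf1 _)
      rw [MonoidHom.comp_apply, MonoidHom.comp_apply, e0, e1, h5]) (by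
      intro x hx hx' y hy hy'
      rw [MonoidHom.comp_apply, MonoidHom.comp_apply]
      refine hAC _ ((h0.low _).2 ⟨_, ?_, rfl⟩) _ ((h1.up _).2 ⟨_, ?_, rfl⟩)
      · rw [hf0]; exact hmem k02 x hx
      · rw [hf1]; exact hmem k22 y hy)
  refine ⟨Φ.comp (kap him hF).toMonoidHom, ?_, ?_⟩
  · intro g hg hg'
    have h2 : kap him hF ⟨g, hg⟩ ∈ HH F 3 (iv 4 0 3) := (kap_mem_iff him hF _ k03).2 hg'
    refine (hΦ0 ⟨_, h2⟩).trans ?_
    rw [MonoidHom.comp_apply]
    congr 1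
    apply Subtype.ext
    rw [hf0, MulEquiv.symm_apply_apply]
  · intro g hg hg'
    have h2 : kap him hF ⟨g, hg⟩ ∈ HH F 3 (iv 4 1 3) := (kap_mem_iff him hF _ k13).2 hg'
    refine (hΦ1 ⟨_, h2⟩).trans ?_
    rw [MonoidHom.comp_apply]
    congr 1
    apply Subtype.ext
    rw [hf1, MulEquiv.symm_apply_apply]

end Cfsg.Agent.Phan
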