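import Cfsg.Agent.Phan.Emb
import Cfsg.Agent.Phan.AutSU

/-!
# Uniqueness of the amalgam: twisting one standard pair to match the previous one
-/

set_option autoImplicit false
set_option linter.unusedSectionVars false

namespace Cfsg.Agent.Phan

open Cfsg.Agent.Uni Module Matrix

variable {F : Type*} [Field F] [Fintype F] {q : ℕ} {n : ℕ}

/-- A homomorphism of the interval subgroup `[j, j+3)` realising a standard pair. -/
structure Std {G : Type*} [Group G] (j : ℕ) (ψ : HH F q (iv n j 3) →* G) (V A B : Subgroup G) :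
    Prop where
  range : ∀ x, x ∈ V ↔ ∃ g, ψ g = x
  ker : ∀ g, ψ g = 1 → ∃ ζ : F, ∀ k ∈ iv n j 3, act (g : SU n F q) (ee F k) = ζ • ee F k
  low : ∀ x, x ∈ A ↔ ∃ g : HH F q (iv n j 3), (g : SU n F q) ∈ HH F q (iv n j 2) ∧ ψ g = x
  up : ∀ x, x ∈ B ↔ ∃ g : HH F q (iv n j 3), (g : SU n F q) ∈ HH F q (iv n (j + 1) 2) ∧ ψ g = x

theorem HH_singleton (hF : Fintype.card F = q ^ 2) {a : Fin n} {g : SU n F q}
    (hg : g ∈ HH F q {a}) : g = 1 := by
  classical
  have h1 : mt g = Matrix.diagonal (Function.update 1 a (mt g a a)) := by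
    ext k l
    by_cases hl : l = a
    · subst hl
      by_cases hk : k = l
      · subst hk
        rw [Matrix.diagonal_apply_eq, Function.update_self]
      · rw [Matrix.diagonal_apply_ne _ hk, mt_row hF hg (by simpa using hk), if_neg hk]
    · rw [mem_HH_iff_mt.1 hg l (by simpa using hl) k]
      by_cases hk : k = l
      · subst hk
        rw [if_pos rfl, Matrix.diagonal_apply_eq, Function.update_of_ne hl]
        rfl
      · rw [if_neg hk, Matrix.diagonal_apply_ne _ hk]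
  have h2 : (mt g).det = 1 := g.1.2
  rw [h1, Matrix.det_diagonal, Finset.prod_update_of_mem (Finset.mem_univ a)] at h2
  have h3 : mt g a a = 1 := by simpa using h2
  apply mt_ext
  rw [h1, h3, mt_one]
  have : Function.update (1 : Fin n → F) a 1 = 1 := by
    funext k
    by_cases hk : k = a
    · subst hk; rw [Function.update_self]; rfl
    · rw [Function.update_of_ne hk]
  rw [this]
  exact Matrix.diagonal_one

/-- Diagonal elements -/
def IsDg (g : SU n F q) : Prop := ∀ k, ∃ c : F, act g (ee F k) = c • ee F k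

theorem IsDg.conj_mem (hF : Fintype.card F = q ^ 2) {S : Finset (Fin n)} {g x : SU n F q}
    (hg : IsDg g) (hx : x ∈ HH F q S) : g * x * g⁻¹ ∈ HH F q S := by
  intro k hk
  obtain ⟨c, hc⟩ := hg k
  have hc0 : c ≠ 0 := by
    rintro rfl
    rw [zero_smul] at hc
    exact act_ne_zero (un_ee hF (Finset.mem_univ k)).ne_zero hc
  have h1 : act g⁻¹ (ee F k) = c⁻¹ • ee F k := by
    have : act g⁻¹ (act g (ee F k)) = act g⁻¹ (c • ee F k) := by rw [hc]
    rw [act_inv_act, act_smul] at this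
    rw [eq_inv_smul_iff₀ hc0]
    exact this.symm
  rw [act_mul, act_mul, h1, act_smul, hx k hk, act_smul, hc, smul_smul, inv_mul_cancel₀ hc0,
    one_smul]

theorem isDg_of_diagonal {g : SU n F q} {d : Fin n → F} (h : mt g = Matrix.diagonal d) :
    IsDg g := by
  intro k
  refine ⟨d k, ?_⟩
  funext l
  rw [act_ee, h]
  by_cases hkl : l = k
  · subst hkl
    rw [Matrix.diagonal_apply_eq]
    simp
  · rw [Matrix.diagonal_apply_ne _ hkl]
    simp [hkl]

/-- injectivity of a standard homomorphism on the two rank one subgroups -/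
theorem Std.inj {G : Type*} [Group G] {j : ℕ} (hj : j + 3 ≤ n)
    {ψ : HH F q (iv n j 3) →* G} {V A B : Subgroup G} (h : Std j ψ V A B)
    {i : ℕ} (hi : j ≤ i) (hij : i + 2 ≤ j + 3) {g : HH F q (iv n j 3)}
    (hg : (g : SU n F q) ∈ HH F q (iv n i 2)) (hg1 : ψ g = 1) : g = 1 := by
  obtain ⟨ζ, hζ⟩ := h.ker g hg1
  obtain ⟨k, hk, hk'⟩ : ∃ k ∈ iv n j 3, k ∉ iv n i 2 := by
    by_cases hi' : i = j
    · exact ⟨⟨j + 2, by omega⟩, by rw [mem_iv]; simp only; omega, by rw [mem_iv]; simp only; omega⟩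
    · exact ⟨⟨j, by omega⟩, by rw [mem_iv]; simp only; omega, by rw [mem_iv]; simp only; omega⟩
  have h1 := hζ k hk
  rw [hg k hk'] at h1
  have hζ1 : ζ = 1 := by
    have := congrFun h1 k
    simp at this
    exact this.symm
  apply Subtype.ext
  apply act_ext_ee
  intro l
  rw [Subgroup.coe_one, act_one]
  by_cases hl : l ∈ iv n j 3
  · rw [hζ l hl, hζ1, one_smul]
  · exact g.2 l hl

theorem exists_equiv_of_range {H G : Type*} [Group H] [Group G] {f g : H →* G}
    (hf : Function.Injective f) (hg : Function.Injective g) (h : f.range = g.range) :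
    ∃ α : H ≃* H, ∀ x, g (α x) = f x := by
  refine ⟨((MonoidHom.ofInjective hf).trans (MulEquiv.subgroupCongr h)).trans
      (MonoidHom.ofInjective hg).symm, fun x => ?_⟩
  have := congrArg Subtype.val ((MonoidHom.ofInjective hg).apply_symm_apply
      ((MulEquiv.subgroupCongr h) (MonoidHom.ofInjective hf x)))
  exact this

set_option maxHeartbeats 1000000 in
/-- **Twisting.** -/
theorem exists_twist {G : Type*} [Group G] (hF : Fintype.card F = q ^ 2) {j : ℕ}
    (hj : j + 4 ≤ n) {ψ : HH F q (iv n j 3) →* G} {φ : HH F q (iv n (j + 1) 3) →* G}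
    {V V' A B C : Subgroup G} (hψ : Std j ψ V A B) (hφ : Std (j + 1) φ V' B C)
    (hAC : ∀ x ∈ A, ∀ y ∈ C, x * y = y * x) :
    ∃ φ' : HH F q (iv n (j + 1) 3) →* G, Std (j + 1) φ' V' B C ∧
      ∀ (g : SU n F q) (_ : g ∈ HH F q (iv n (j + 1) 2)) (h1 : g ∈ HH F q (iv n (j + 1) 3))
        (h2 : g ∈ HH F q (iv n j 3)), φ' ⟨g, h1⟩ = ψ ⟨g, h2⟩ := by
  classical
  have hU1 : HH F q (iv n (j + 1) 2) ≤ HH F q (iv n (j + 1) 3) :=
    HH_mono (iv_mono le_rfl (by omega))
  have hU2 : HH F q (iv n (j + 1) 2) ≤ HH F q (iv n j 3) := HH_mono (iv_mono (by omega) (by omega))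
  -- restricted homomorphisms
  obtain ⟨ψU, hψU⟩ : ∃ ψU : HH F q (iv n (j + 1) 2) →* G, ψU = ψ.comp (Subgroup.inclusion hU2) :=
    ⟨_, rfl⟩
  obtain ⟨φU, hφU⟩ : ∃ φU : HH F q (iv n (j + 1) 2) →* G, φU = φ.comp (Subgroup.inclusion hU1) :=
    ⟨_, rfl⟩
  have hψU' : ∀ g : HH F q (iv n (j + 1) 2), ψU g = ψ ⟨g, hU2 g.2⟩ := by
    intro g; rw [hψU]; rfl
  have hφU' : ∀ g : HH F q (iv n (j + 1) 2), φU g = φ ⟨g, hU1 g.2⟩ := by
    intro g; rw [hφU]; rfl
  have hψi : Function.Injective ψU := by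
    rw [injective_iff_map_eq_one]
    intro g hg
    rw [hψU'] at hg
    have := hψ.inj (by omega) (i := j + 1) (by omega) (by omega) g.2 hg
    exact Subtype.ext (congrArg (fun x : HH F q (iv n j 3) => (x : SU n F q)) this)
  have hφi : Function.Injective φU := by
    rw [injective_iff_map_eq_one]
    intro g hg
    rw [hφU'] at hg
    have := hφ.inj (by omega) (i := j + 1) (by omega) (by omega) g.2 hg
    exact Subtype.ext (congrArg (fun x : HH F q (iv n (j + 1) 3) => (x : SU n F q)) this)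
  have hrange : ψU.range = φU.range := by
    ext x
    constructor
    · rintro ⟨g, rfl⟩
      have h1 : ψU g ∈ B := (hψ.up _).2 ⟨⟨g, hU2 g.2⟩, g.2, (hψU' g).symm⟩
      obtain ⟨g', hg', h2⟩ := (hφ.low _).1 h1
      exact ⟨⟨g', hg'⟩, by rw [hφU', ← h2]⟩
    · rintro ⟨g, rfl⟩
      have h1 : φU g ∈ B := (hφ.low _).2 ⟨⟨g, hU1 g.2⟩, g.2, (hφU' g).symm⟩
      obtain ⟨g', hg', h2⟩ := (hψ.up _).1 h1
      exact ⟨⟨g', hg'⟩, by rw [hψU', ← h2]⟩
  obtain ⟨α, hα⟩ : ∃ α : HH F q (iv n (j + 1) 2) ≃* HH F q (iv n (j + 1) 2),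
      ∀ g, φU (α g) = ψU g := exists_equiv_of_range hψi hφi hrange
  -- coordinates
  have h0 : j < n := by omega
  have h1 : j + 1 < n := by omega
  have h2 : j + 2 < n := by omega
  have h3 : j + 3 < n := by omega
  obtain ⟨a0, ha0⟩ : ∃ a0 : Fin n, a0 = ⟨j, h0⟩ := ⟨_, rfl⟩
  obtain ⟨a1, ha1⟩ : ∃ a1 : Fin n, a1 = ⟨j + 1, h1⟩ := ⟨_, rfl⟩
  obtain ⟨a2, ha2⟩ : ∃ a2 : Fin n, a2 = ⟨j + 2, h2⟩ := ⟨_, rfl⟩
  obtain ⟨a3, ha3⟩ : ∃ a3 : Fin n, a3 = ⟨j + 3, h3⟩ := ⟨_, rfl⟩
  have n01 : a0 ≠ a1 := by rw [ha0, ha1, Ne, Fin.ext_iff]; simp only; omega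
  have n02 : a0 ≠ a2 := by rw [ha0, ha2, Ne, Fin.ext_iff]; simp only; omega
  have n12 : a1 ≠ a2 := by rw [ha1, ha2, Ne, Fin.ext_iff]; simp only; omega
  have n13 : a1 ≠ a3 := by rw [ha1, ha3, Ne, Fin.ext_iff]; simp only; omega
  have n23 : a2 ≠ a3 := by rw [ha2, ha3, Ne, Fin.ext_iff]; simp only; omega
  have m1 : a1 ∈ iv n (j + 1) 2 := by rw [ha1, mem_iv]; simp only; omega
  have m2 : a2 ∈ iv n (j + 1) 2 := by rw [ha2, mem_iv]; simp only; omega
  have m3 : a3 ∉ iv n (j + 1) 2 := by rw [ha3, mem_iv]; simp only; omega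
  have hm : ∀ k, k ∈ iv n (j + 1) 2 ↔ k = a1 ∨ k = a2 := by
    intro k
    rw [mem_iv, ha1, ha2, Fin.ext_iff, Fin.ext_iff]
    simp only
    omega
  have hm' : ∀ k, k ∈ iv n (j + 2) 2 ↔ k = a2 ∨ k = a3 := by
    intro k
    rw [mem_iv, ha2, ha3, Fin.ext_iff, Fin.ext_iff]
    simp only
    omega
  have hm0 : ∀ k, k ∈ iv n j 2 ↔ k = a0 ∨ k = a1 := by
    intro k
    rw [mem_iv, ha0, ha1, Fin.ext_iff, Fin.ext_iff]
    simp only
    omega
  have hm3 : ∀ k, k ∈ iv n (j + 1) 3 ↔ k = a1 ∨ k = a2 ∨ k = a3 := by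
    intro k
    rw [mem_iv, ha1, ha2, ha3, Fin.ext_iff, Fin.ext_iff, Fin.ext_iff]
    simp only
    omega
  have him : (j + 1) + 2 ≤ n := by omega
  have ix0 : ix him 0 = a1 := by rw [ha1]; rfl
  have ix1 : ix him 1 = a2 := by rw [ha2]; rfl
  -- the diagonal element
  obtain ⟨l, hl, hl2⟩ := exists_norm_one_sq_ne hF
  have hl0 : l ≠ 0 := by
    rintro rfl
    rw [zero_pow (by omega)] at hl
    exact zero_ne_one hl
  have hl1 : l⁻¹ ≠ 1 := by
    intro h
    apply hl2
    have : l = 1 := by rw [← inv_inv l, h, inv_one]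
    rw [this, one_pow]
  obtain ⟨d0, hd0⟩ := exists_SU_diag (F := F) (q := q) a0 a1 n01 hl
  have hd0' : IsDg d0 := isDg_of_diagonal hd0
  have hd0m : d0 ∈ HH F q (iv n j 2) := by
    rw [mem_HH_iff_mt]
    intro i hi k
    rw [hm0, not_or] at hi
    rw [show mt d0 = _ from hd0]
    by_cases hki : k = i
    · subst hki
      rw [Matrix.diagonal_apply_eq, Function.update_of_ne hi.2, Function.update_of_ne hi.1,
        if_pos rfl]
      rfl
    · rw [Matrix.diagonal_apply_ne _ hki, if_neg hki]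
  have hV0 : HH F q (iv n j 2) ≤ HH F q (iv n j 3) := HH_mono (iv_mono (by omega) (by omega))
  have hV2 : HH F q (iv n (j + 2) 2) ≤ HH F q (iv n (j + 1) 3) :=
    HH_mono (iv_mono (by omega) (by omega))
  -- key: `α.symm` preserves diagonal elements
  have key : ∀ t : HH F q (iv n (j + 1) 2), IsDg (t : SU n F q) →
      mt ((α.symm t : HH F q (iv n (j + 1) 2)) : SU n F q) a1 a2 = 0 ∧
      mt ((α.symm t : HH F q (iv n (j + 1) 2)) : SU n F q) a2 a1 = 0 := by
    intro t ht
    obtain ⟨x, hx⟩ : ∃ x, x = α.symm t := ⟨_, rfl⟩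
    rw [← hx]
    have hxt : ψU x = φU t := by rw [← hα x, hx, MulEquiv.apply_symm_apply]
    have hconj : d0 * (x : SU n F q) * d0⁻¹ ∈ HH F q (iv n (j + 1) 2) := hd0'.conj_mem hF x.2
    obtain ⟨z, hz⟩ : ∃ z : HH F q (iv n (j + 1) 2),
        z = x⁻¹ * ⟨d0 * (x : SU n F q) * d0⁻¹, hconj⟩ := ⟨_, rfl⟩
    -- the image of `z`
    have hzψ : ψU z = (φU t)⁻¹ * ψ ⟨d0, hV0 hd0m⟩ * φU t * (ψ ⟨d0, hV0 hd0m⟩)⁻¹ := by
      rw [hz, map_mul, map_inv, hxt]
      have e1 : ψU ⟨d0 * (x : SU n F q) * d0⁻¹, hconj⟩ =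
          ψ ⟨d0, hV0 hd0m⟩ * ψU x * (ψ ⟨d0, hV0 hd0m⟩)⁻¹ := by
        rw [hψU', hψU', ← map_inv, ← map_mul, ← map_mul]
        rfl
      rw [e1, hxt]
      simp only [mul_assoc]
    -- it centralises the third rank one subgroup
    have hzc : ∀ (u : SU n F q) (hu : u ∈ HH F q (iv n (j + 2) 2)),
        ψU z * φ ⟨u, hV2 hu⟩ = φ ⟨u, hV2 hu⟩ * ψU z := by
      intro u hu
      have c1 : ∀ (v : SU n F q) (hv : v ∈ HH F q (iv n (j + 2) 2)),
          ψ ⟨d0, hV0 hd0m⟩ * φ ⟨v, hV2 hv⟩ = φ ⟨v, hV2 hv⟩ * ψ ⟨d0, hV0 hd0m⟩ := fun v hv =>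
        hAC _ ((hψ.low _).2 ⟨_, hd0m, rfl⟩) _ ((hφ.up _).2 ⟨⟨v, hV2 hv⟩, hv, rfl⟩)
      have htu : (t : SU n F q) * u * (t : SU n F q)⁻¹ ∈ HH F q (iv n (j + 2) 2) :=
        ht.conj_mem hF hu
      have c2 := c1 _ htu
      have e2 : φ ⟨(t : SU n F q) * u * (t : SU n F q)⁻¹, hV2 htu⟩ =
          φU t * φ ⟨u, hV2 hu⟩ * (φU t)⁻¹ := by
        rw [hφU', ← map_inv, ← map_mul, ← map_mul]
        rfl
      rw [e2] at c2
      have c3 := c1 u hu
      obtain ⟨D, hD⟩ : ∃ D, D = ψ ⟨d0, hV0 hd0m⟩ := ⟨_, rfl⟩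
      obtain ⟨T, hT⟩ : ∃ T, T = φU t := ⟨_, rfl⟩
      obtain ⟨U, hU⟩ : ∃ U, U = φ ⟨u, hV2 hu⟩ := ⟨_, rfl⟩
      rw [hzψ]
      rw [← hD, ← hT, ← hU] at c2 ⊢
      rw [← hD, ← hU] at c3
      have c4 : Commute D U := c3
      have c5 : Commute (T⁻¹ * D * T) U := by
        have c6 : Commute (T⁻¹ * D * T) (T⁻¹ * (T * U * T⁻¹) * T) := by
          change T⁻¹ * D * T * (T⁻¹ * (T * U * T⁻¹) * T) =
            T⁻¹ * (T * U * T⁻¹) * T * (T⁻¹ * D * T)
          calc T⁻¹ * D * T * (T⁻¹ * (T * U * T⁻¹) * T) = T⁻¹ * (D * (T * U * T⁻¹)) * T := by group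
            _ = T⁻¹ * (T * U * T⁻¹ * D) * T := by rw [c2]
            _ = _ := by group
        have e3 : T⁻¹ * (T * U * T⁻¹) * T = U := by group
        rwa [e3] at c6
      exact (c5.mul_left c4.inv_left).eq
    -- `y = α z` is trivial
    obtain ⟨y, hy⟩ : ∃ y, y = α z := ⟨_, rfl⟩
    have hyφ : φU y = ψU z := by rw [hy, hα]
    obtain ⟨w, hw, hw2⟩ := exists_HH1 hF (S := {a2, a3}) (a := a2) (i0 := a3) (by simp) (by simp)
      n23.symm (un_ee hF (by simp : a3 ∈ ({a2, a3} : Finset (Fin n))))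
    have hw' : w ∈ HH F q (iv n (j + 2) 2) := by
      intro k hk
      refine hw k ?_
      rw [hm'] at hk
      simpa using hk
    have hwy := hzc w hw'
    rw [← hyφ, hφU'] at hwy
    obtain ⟨ζ, hζ⟩ := hφ.ker (⟨y, hU1 y.2⟩ * ⟨w, hV2 hw'⟩ * (⟨y, hU1 y.2⟩)⁻¹ * (⟨w, hV2 hw'⟩)⁻¹) (by
      rw [map_mul, map_mul, map_mul, hwy, map_inv, map_inv]; group)
    obtain ⟨Y, hY⟩ : ∃ Y : SU n F q, Y = (y : SU n F q) := ⟨_, rfl⟩
    have hζ' : ∀ k ∈ iv n (j + 1) 3, act Y (act w (act Y⁻¹ (act w⁻¹ (ee F k)))) = ζ • ee F k := by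
      intro k hk
      have := hζ k hk
      rw [Subgroup.coe_mul, Subgroup.coe_mul, Subgroup.coe_mul, act_mul, act_mul, act_mul,
        Subgroup.coe_inv, Subgroup.coe_inv] at this
      rw [hY]
      exact this
    have hYm : Y ∈ HH F q (iv n (j + 1) 2) := by rw [hY]; exact y.2
    have hY3 : act Y⁻¹ (ee F a3) = ee F a3 := inv_mem hYm a3 m3
    have hwi : act w⁻¹ (ee F a3) = ee F a2 := by rw [← hw2, act_inv_act]
    have e4 : act Y⁻¹ (ee F a2) = ζ • ee F a2 := by
      have h5 := hζ' a3 ((hm3 a3).2 (Or.inr (Or.inr rfl)))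
      rw [hwi] at h5
      have h6 := congrArg (fun v => act w⁻¹ (act Y⁻¹ v)) h5
      simp only [act_inv_act, act_smul, hY3, hwi] at h6
      exact h6
    have hwi1 : act w⁻¹ (ee F a1) = ee F a1 :=
      inv_mem hw a1 (by simp [n12, n13])
    have hw1 : act w (ee F a1) = ee F a1 := hw a1 (by simp [n12, n13])
    have hζ0 : ζ ≠ 0 := by
      rintro rfl
      rw [zero_smul] at e4
      exact act_ne_zero (un_ee hF (Finset.mem_univ a2)).ne_zero e4
    obtain ⟨η, hη⟩ : ∃ η : F, act Y⁻¹ (ee F a1) = η • ee F a1 := by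
      have h5 := act_mem_WS hF (inv_mem hYm) (ee_mem_WS (F := F) m1)
      refine ⟨act Y⁻¹ (ee F a1) a1, ?_⟩
      funext k
      by_cases hk1 : k = a1
      · subst hk1; simp
      · by_cases hk2 : k = a2
        · subst hk2
          have h6 : hermForm n F q (act Y⁻¹ (ee F a1)) (act Y⁻¹ (ee F k)) = 0 := by
            rw [act_form, form_ee_ee hF, if_neg n12]
          rw [e4, hermForm_smul_right, form_ee hF, mul_eq_zero] at h6
          rcases h6 with h6 | h6
          · exact absurd h6 (pow_ne_zero _ hζ0)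
          · rw [h6]; simp [hk1]
        · rw [h5 k (fun h => by rw [hm] at h; tauto)]
          simp [hk1]
    have hζ1 : ζ = 1 := by
      have h5 := hζ' a1 ((hm3 a1).2 (Or.inl rfl))
      rw [hwi1, hη, act_smul, hw1, ← hη, act_act_inv] at h5
      have := congrFun h5 a1
      simp at this
      exact this.symm
    have hYinv : Y⁻¹ ∈ HH F q {a1} := by
      intro k hk
      by_cases hk2 : k = a2
      · subst hk2; rw [e4, hζ1, one_smul]
      · exact inv_mem hYm k (fun h => by rw [hm] at h; simp at hk; tauto)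
    have hY1 : Y = 1 := by
      have := HH_singleton hF hYinv
      rw [← inv_inv Y, this, inv_one]
    have hz1 : z = 1 := by
      apply α.injective
      rw [← hy, map_one]
      exact Subtype.ext (hY.symm.trans hY1)
    have hcommx : d0 * (x : SU n F q) = (x : SU n F q) * d0 := by
      rw [hz] at hz1
      have h5 := congrArg (fun v : HH F q (iv n (j + 1) 2) => (v : SU n F q)) hz1
      simp only [Subgroup.coe_mul, Subgroup.coe_inv, Subgroup.coe_one] at h5
      rw [inv_mul_eq_one] at h5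
      rw [eq_mul_inv_iff_mul_eq] at h5
      exact h5.symm
    have hmm := congrArg mt hcommx
    rw [mt_mul, mt_mul, show mt d0 = _ from hd0] at hmm
    constructor
    · have h5 := congrFun (congrFun hmm a1) a2
      rw [Matrix.diagonal_mul, Matrix.mul_diagonal, Function.update_self,
        Function.update_of_ne n12.symm, Function.update_of_ne n02.symm] at h5
      have h6 : (l⁻¹ - 1) * mt (x : SU n F q) a1 a2 = 0 := by
        simp only [Pi.one_apply] at h5
        linear_combination h5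
      exact (mul_eq_zero.1 h6).resolve_left (sub_ne_zero.2 hl1)
    · have h5 := congrFun (congrFun hmm a2) a1
      rw [Matrix.diagonal_mul, Matrix.mul_diagonal, Function.update_self,
        Function.update_of_ne n12.symm, Function.update_of_ne n02.symm] at h5
      have h6 : (l⁻¹ - 1) * mt (x : SU n F q) a2 a1 = 0 := by
        simp only [Pi.one_apply] at h5
        linear_combination -h5
      exact (mul_eq_zero.1 h6).resolve_left (sub_ne_zero.2 hl1)
  -- the induced automorphism of `SU_2`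
  obtain ⟨c, τ, hc, hcτ⟩ := aut_SU2_diag hF
    (((kap him hF).symm.trans α.symm).trans (kap him hF)) (by
      intro x hx01 hx10
      obtain ⟨t, ht⟩ : ∃ t, t = (kap him hF).symm x := ⟨_, rfl⟩
      have htx : kap him hF t = x := by rw [ht, MulEquiv.apply_symm_apply]
      have htd : IsDg (t : SU n F q) := by
        have t01 : mt (t : SU n F q) a1 a2 = 0 := by
          rw [← ix0, ← ix1, ← kap_apply him hF, htx]; exact hx01
        have t10 : mt (t : SU n F q) a2 a1 = 0 := by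
          rw [← ix0, ← ix1, ← kap_apply him hF, htx]; exact hx10
        intro k
        refine ⟨mt (t : SU n F q) k k, ?_⟩
        funext r
        rw [act_ee]
        by_cases hrk : r = k
        · subst hrk; simp
        · have : mt (t : SU n F q) r k = 0 := by
            by_cases hk : k ∈ iv n (j + 1) 2
            · by_cases hr : r ∈ iv n (j + 1) 2
              · rw [hm] at hk hr
                rcases hk with rfl | rfl <;> rcases hr with rfl | rfl
                · exact absurd rfl hrk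
                · exact t10
                · exact t01
                · exact absurd rfl hrk
              · rw [mt_row hF t.2 hr, if_neg hrk]
            · rw [mem_HH_iff_mt.1 t.2 k hk r, if_neg hrk]
          rw [this]
          simp [hrk]
      have := key t htd
      rw [← ix0, ← ix1, ← kap_apply him hF, ← kap_apply him hF] at this
      rw [ht] at this
      exact this)
  obtain ⟨d, hd⟩ : ∃ d : Fin n → F, d = Function.update (1 : Fin n → F) a1 c := ⟨_, rfl⟩
  have hdn : ∀ k, d k ^ (q + 1) = 1 := by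
    intro k
    by_cases hk : k = a1
    · rw [hk, hd, Function.update_self, hc]
    · rw [hd, Function.update_of_ne hk]; simp
  have hd1 : d a1 = c := by rw [hd, Function.update_self]
  have hd2 : d a2 = 1 := by rw [hd, Function.update_of_ne n12.symm]; rfl
  -- `tw` agrees with `α.symm`
  have htw : ∀ g : HH F q (iv n (j + 1) 2),
      tw hF hdn τ (g : SU n F q) = ((α.symm g : HH F q (iv n (j + 1) 2)) : SU n F q) := by
    intro g
    have h5 : (⟨tw hF hdn τ (g : SU n F q), (tw_mem_iff hF hdn τ _ _).2 g.2⟩ :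
        HH F q (iv n (j + 1) 2)) = α.symm g := by
      apply (kap him hF).injective
      have h6 := hcτ (kap him hF g)
      rw [show (((kap him hF).symm.trans α.symm).trans (kap him hF)) (kap him hF g) =
        kap him hF (α.symm g) by simp] at h6
      obtain ⟨p00, p01, p10, p11⟩ := h6
      have hc0 : c ≠ 0 := by
        have := d_ne_zero hdn a1
        rwa [hd1] at this
      apply mt_ext
      ext a b
      rw [kap_apply]
      change mt (tw hF hdn τ (g : SU n F q)) (ix him a) (ix him b) = _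
      rw [tw_apply]
      fin_cases a <;> fin_cases b
      · refine Eq.trans ?_ p00.symm
        change d (ix him 0) * τ (mt (g : SU n F q) (ix him 0) (ix him 0)) * (d (ix him 0))⁻¹ =
          τ (mt (g : SU n F q) (ix him 0) (ix him 0))
        rw [ix0, hd1]
        field_simp
      · refine Eq.trans ?_ p01.symm
        change d (ix him 0) * τ (mt (g : SU n F q) (ix him 0) (ix him 1)) * (d (ix him 1))⁻¹ =
          c * τ (mt (g : SU n F q) (ix him 0) (ix him 1))
        rw [ix0, ix1, hd1, hd2, inv_one, mul_one]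
      · refine Eq.trans ?_ p10.symm
        change d (ix him 1) * τ (mt (g : SU n F q) (ix him 1) (ix him 0)) * (d (ix him 0))⁻¹ =
          c⁻¹ * τ (mt (g : SU n F q) (ix him 1) (ix him 0))
        rw [ix0, ix1, hd1, hd2, one_mul, mul_comm]
      · refine Eq.trans ?_ p11.symm
        change d (ix him 1) * τ (mt (g : SU n F q) (ix him 1) (ix him 1)) * (d (ix him 1))⁻¹ =
          τ (mt (g : SU n F q) (ix him 1) (ix him 1))
        rw [ix1, hd2, one_mul, inv_one, mul_one]
    exact congrArg (fun v : HH F q (iv n (j + 1) 2) => (v : SU n F q)) h5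
  -- the new homomorphism
  have hsymm_mem : ∀ (S : Finset (Fin n)) (g : SU n F q),
      (tw hF hdn τ).symm g ∈ HH F q S ↔ g ∈ HH F q S := by
    intro S g
    rw [← tw_mem_iff hF hdn τ, MulEquiv.apply_symm_apply]
  obtain ⟨E, hE⟩ : ∃ E : HH F q (iv n (j + 1) 3) →* HH F q (iv n (j + 1) 3),
      ∀ g, ((E g : HH F q (iv n (j + 1) 3)) : SU n F q) = (tw hF hdn τ).symm (g : SU n F q) :=
    ⟨((tw hF hdn τ).symm.toMonoidHom.comp (HH F q (iv n (j + 1) 3)).subtype).codRestrict _
      (fun g => (hsymm_mem _ _).2 g.2), fun g => rfl⟩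
  have hEsurj : ∀ g, ∃ g', E g' = g := by
    intro g
    refine ⟨⟨tw hF hdn τ (g : SU n F q), (tw_mem_iff hF hdn τ _ _).2 g.2⟩, ?_⟩
    apply Subtype.ext
    rw [hE]
    exact (tw hF hdn τ).symm_apply_apply _
  have hEmem : ∀ (S : Finset (Fin n)) (g : HH F q (iv n (j + 1) 3)),
      ((E g : HH F q (iv n (j + 1) 3)) : SU n F q) ∈ HH F q S ↔ (g : SU n F q) ∈ HH F q S := by
    intro S g
    rw [hE]
    exact hsymm_mem S _
  refine ⟨φ.comp E, ⟨?_, ?_, ?_, ?_⟩, ?_⟩
  · intro x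
    rw [hφ.range]
    constructor
    · rintro ⟨g, rfl⟩
      obtain ⟨g', hg'⟩ := hEsurj g
      exact ⟨g', by rw [MonoidHom.comp_apply, hg']⟩
    · rintro ⟨g, rfl⟩
      exact ⟨E g, rfl⟩
  · intro g hg
    obtain ⟨ζ, hζ⟩ := hφ.ker (E g) hg
    refine ⟨τ ζ, ?_⟩
    intro k hk
    have h5 := hζ k hk
    have h6 : (g : SU n F q) = tw hF hdn τ ((E g : HH F q (iv n (j + 1) 3)) : SU n F q) := by
      rw [hE, MulEquiv.apply_symm_apply]
    funext r
    rw [act_ee, h6, tw_apply, ← act_ee, h5]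
    have := d_ne_zero hdn k
    by_cases hrk : r = k
    · subst hrk
      simp
      field_simp
    · simp [hrk]
  · intro x
    rw [hφ.low]
    constructor
    · rintro ⟨g, hg, rfl⟩
      obtain ⟨g', hg'⟩ := hEsurj g
      exact ⟨g', (hEmem _ _).1 (by rw [hg']; exact hg), by rw [MonoidHom.comp_apply, hg']⟩
    · rintro ⟨g, hg, rfl⟩
      exact ⟨E g, (hEmem _ _).2 hg, rfl⟩
  · intro x
    rw [hφ.up]
    constructor
    · rintro ⟨g, hg, rfl⟩
      obtain ⟨g', hg'⟩ := hEsurj g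
      exact ⟨g', (hEmem _ _).1 (by rw [hg']; exact hg), by rw [MonoidHom.comp_apply, hg']⟩
    · rintro ⟨g, hg, rfl⟩
      exact ⟨E g, (hEmem _ _).2 hg, rfl⟩
  · intro g hg h5 h6
    rw [MonoidHom.comp_apply]
    have h7 : E ⟨g, h5⟩ = ⟨((α ⟨g, hg⟩ : HH F q (iv n (j + 1) 2)) : SU n F q),
        hU1 (α ⟨g, hg⟩).2⟩ := by
      apply Subtype.ext
      rw [hE]
      change (tw hF hdn τ).symm g = _
      rw [MulEquiv.symm_apply_eq, htw, MulEquiv.symm_apply_apply]
    rw [h7, ← hφU', hα, hψU']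

end Cfsg.Agent.Phan
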