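import Cfsg.Agent.Phan.Three2

/-!
# `SU_2(2)` and `SU_3(2)`
-/

set_option autoImplicit false
set_option linter.unusedSectionVars false
set_option linter.unusedSimpArgs false

namespace Cfsg.Agent.Phan

open Cfsg.Agent.Uni Module Matrix

variable {F : Type*} [Field F] [Fintype F]

theorem two_eq_zero (hF : Fintype.card F = 2 ^ 2) : (2 : F) = 0 := by
  have := FiniteField.cast_card_eq_zero F
  rw [hF] at this
  have h4 : (4 : F) = 0 := by exact_mod_cast this
  have : (2 : F) * 2 = 0 := by linear_combination h4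
  exact mul_self_eq_zero.1 this

theorem sq_one (hF : Fintype.card F = 2 ^ 2) {c : F} (h : c ^ 2 = 1) : c = 1 := by
  have h1 : (c - 1) ^ 2 = 0 := by linear_combination h - (c - 1) * two_eq_zero hF
  exact sub_eq_zero.1 (pow_eq_zero_iff (by norm_num) |>.1 h1)

theorem exists_omega (hF : Fintype.card F = 2 ^ 2) :
    ∃ w : F, w ^ 3 = 1 ∧ w ≠ 1 ∧ 1 + w + w ^ 2 = 0 := by
  obtain ⟨l, hl, hl2⟩ := exists_norm_one_sq_ne hF
  have hl1 : l ≠ 1 := by rintro rfl; exact hl2 (one_pow 2)
  refine ⟨l, hl, hl1, ?_⟩
  have h1 : (l - 1) * (1 + l + l ^ 2) = 0 := by linear_combination hl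
  exact (mul_eq_zero.1 h1).resolve_left (sub_ne_zero.2 hl1)

/-- every nonzero element has norm one -/
theorem cube_of_ne_zero (hF : Fintype.card F = 2 ^ 2) {c : F} (hc : c ≠ 0) : c ^ 3 = 1 := by
  have := FiniteField.pow_card_sub_one_eq_one c hc
  rw [hF] at this
  exact this

/-- `SU_2(2)` is generated by involutions. -/
theorem two_ind (hF : Fintype.card F = 2 ^ 2) (P : SU 2 F 2 → Prop)
    (h2 : ∀ s, s ^ 2 = 1 → P s) (hmul : ∀ a b, P a → P b → P (a * b)) : ∀ x, P x := by
  obtain ⟨S, P', Q, φ, -, -, -, -⟩ := exists_iso_SL2 hF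
  have key : ∀ A : Matrix.SpecialLinearGroup (Fin 2) S, P (φ A) := by
    intro A
    refine Matrix.SL2.transvection_induction (fun A => P (φ A)) ?_ ?_ A
    · intro i j hij b
      apply h2
      rw [← map_pow]
      have : Matrix.SpecialLinearGroup.transvection hij b ^ 2 = 1 := by
        rw [pow_two, ← Matrix.SpecialLinearGroup.transvection_add]
        have h : b + b = 0 := by
          have h2S : (2 : S) = 0 := by
            have h : ((2 : S) : F) = ((0 : S) : F) := two_eq_zero hF
            exact Subtype.ext h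
          linear_combination b * h2S
        rw [h, Matrix.SpecialLinearGroup.transvection_coeff_zero]
      rw [this, map_one]
    · intro A B hA hB
      rw [map_mul]
      exact hmul _ _ hA hB
  intro x
  have := key (φ.symm x)
  rwa [MulEquiv.apply_symm_apply] at this

theorem HH_two_ind (hF : Fintype.card F = 2 ^ 2) {n j : ℕ} (hj : j + 2 ≤ n)
    (P : HH F 2 (iv n j 2) → Prop)
    (h2 : ∀ s, s ^ 2 = 1 → P s) (hmul : ∀ a b, P a → P b → P (a * b)) : ∀ x, P x := by
  have key := two_ind hF (fun y => P ((kap hj hF).symm y)) (by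
    intro s hs
    apply h2
    rw [← map_pow, hs, map_one]) (by
    intro a b ha hb
    rw [map_mul]
    exact hmul _ _ ha hb)
  intro x
  have := key (kap hj hF x)
  rwa [MulEquiv.symm_apply_apply] at this

/-! ### `SU_3(2)` -/

theorem iv302 : iv 3 0 2 = {(0 : Fin 3), 1} := by decide
theorem iv312 : iv 3 1 2 = {(1 : Fin 3), 2} := by decide

/-- The Fourier matrix. -/
theorem exists_fourier (hF : Fintype.card F = 2 ^ 2) {w : F} (hw : 1 + w + w ^ 2 = 0)
    (hw3 : w ^ 3 = 1) :
    ∃ f z p : SU 3 F 2, f ^ 4 = 1 ∧ f * z = p * f ∧ f * p = z⁻¹ * f ∧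
      (act f (ee F 0) = fun _ => 1) ∧
      act z (ee F 0) = ee F 0 ∧ act z (ee F 1) = w • ee F 1 ∧ act z (ee F 2) = w ^ 2 • ee F 2 ∧
      act p (ee F 1) = ee F 0 ∧ act p (ee F 2) = ee F 1 ∧ act p (ee F 0) = ee F 2 := by
  have h2 := two_eq_zero hF
  obtain ⟨M, hM⟩ : ∃ M : Matrix (Fin 3) (Fin 3) F, M = !![1, 1, 1; 1, w, w ^ 2; 1, w ^ 2, w] :=
    ⟨_, rfl⟩
  obtain ⟨Z, hZ⟩ : ∃ Z : Matrix (Fin 3) (Fin 3) F, Z = !![1, 0, 0; 0, w, 0; 0, 0, w ^ 2] :=
    ⟨_, rfl⟩
  obtain ⟨P, hP⟩ : ∃ P : Matrix (Fin 3) (Fin 3) F, P = !![0, 1, 0; 0, 0, 1; 1, 0, 0] :=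
    ⟨_, rfl⟩
  have hMp : Pres 2 M := by
    refine (preserves_iff hF _).2 ?_
    intro i j
    rw [hermForm_def, Fin.sum_univ_three, hM]
    fin_cases i <;> fin_cases j <;> simp
    · linear_combination h2
    · linear_combination hw + w * hw3
    · linear_combination hw + w * hw3
    · linear_combination hw
    · linear_combination (hw3 + w ^ 3 * hw3 + hw3) + h2
    · linear_combination hw + w ^ 2 * hw3 + w * (hw3)
    · linear_combination hw
    · linear_combination hw + w * hw3 + w ^ 2 * hw3
    · linear_combination hw3 * (w ^ 3 + 1) + hw3 + h2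
  have hMd : M.det = 1 := by
    rw [hM, Matrix.det_fin_three]
    simp
    linear_combination hw - w * hw3 + h2 * (w ^ 2 - 2 * w - 1)
  have hZp : Pres 2 Z := by
    refine (preserves_iff hF _).2 ?_
    intro i j
    rw [hermForm_def, Fin.sum_univ_three, hZ]
    fin_cases i <;> fin_cases j <;> simp
    · linear_combination hw3
    · linear_combination (w ^ 3 + 1) * hw3
  have hZd : Z.det = 1 := by
    rw [hZ, Matrix.det_fin_three]
    simp
    linear_combination hw3
  have hPp : Pres 2 P := by
    refine (preserves_iff hF _).2 ?_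
    intro i j
    rw [hermForm_def, Fin.sum_univ_three, hP]
    fin_cases i <;> fin_cases j <;> simp
  have hPd : P.det = 1 := by
    rw [hP, Matrix.det_fin_three]
    simp
  have hfz : M * Z = P * M := by
    rw [hM, hZ, hP]
    ext i j
    fin_cases i <;> fin_cases j <;> simp [Matrix.mul_apply, Fin.sum_univ_three]
    · ring
    · linear_combination w * hw3
    · linear_combination hw3
    · linear_combination hw3
  have hfp : Z * M * P = M := by
    rw [hM, hZ, hP]
    ext i j
    fin_cases i <;> fin_cases j <;> simp [Matrix.mul_apply, Fin.sum_univ_three]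
    · linear_combination hw3
    · ring
    · linear_combination hw3
    · linear_combination w * hw3
  have hMM : M * M = !![1, 0, 0; 0, 0, 1; 0, 1, 0] := by
    rw [hM]
    ext i j
    fin_cases i <;> fin_cases j <;> simp [Matrix.mul_apply, Fin.sum_univ_three]
    · linear_combination h2
    · linear_combination hw
    · linear_combination hw
    · linear_combination hw
    · linear_combination hw + w * hw3
    · linear_combination 2 * hw3 + h2
    · linear_combination hw
    · linear_combination 2 * hw3 + h2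
    · linear_combination hw + w * hw3
  have hMM' : M * M * (M * M) = 1 := by
    rw [hMM]
    ext i j
    fin_cases i <;> fin_cases j <;> simp [Matrix.mul_apply, Fin.sum_univ_three]
  refine ⟨mkSU M hMp hMd, mkSU Z hZp hZd, mkSU P hPp hPd, ?_, ?_, ?_, ?_, ?_, ?_, ?_, ?_, ?_, ?_⟩
  · apply mt_ext
    rw [mt_one, ← hMM']
    have : (mkSU M hMp hMd) ^ 4 = (mkSU M hMp hMd * mkSU M hMp hMd) *
      (mkSU M hMp hMd * mkSU M hMp hMd) := by
      simp only [pow_succ, pow_zero, one_mul, mul_assoc]
    rw [this]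
    rfl
  · apply mt_ext
    exact hfz
  · rw [eq_inv_mul_iff_mul_eq, ← mul_assoc]
    apply mt_ext
    exact hfp
  · funext k
    rw [act_ee]
    change M k 0 = 1
    rw [hM]
    fin_cases k <;> simp
  · funext k
    rw [act_ee]
    change Z k 0 = (Pi.single 0 1 : Fin 3 → F) k
    rw [hZ]
    fin_cases k <;> simp
  · funext k
    rw [act_ee]
    change Z k 1 = w * (Pi.single 1 1 : Fin 3 → F) k
    rw [hZ]
    fin_cases k <;> simp
  · funext k
    rw [act_ee]
    change Z k 2 = w ^ 2 * (Pi.single 2 1 : Fin 3 → F) k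
    rw [hZ]
    fin_cases k <;> simp
  · funext k
    rw [act_ee]
    change P k 1 = (Pi.single 0 1 : Fin 3 → F) k
    rw [hP]
    fin_cases k <;> simp
  · funext k
    rw [act_ee]
    change P k 2 = (Pi.single 1 1 : Fin 3 → F) k
    rw [hP]
    fin_cases k <;> simp
  · funext k
    rw [act_ee]
    change P k 0 = (Pi.single 2 1 : Fin 3 → F) k
    rw [hP]
    fin_cases k <;> simp

/-- A vector all of whose coordinates are nonzero, or a multiple of a basis vector. -/
theorem un_cases (hF : Fintype.card F = 2 ^ 2) {v : Fin 3 → F} (hv : hermForm 3 F 2 v v = 1) :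
    (v 0 ≠ 0 ∧ v 1 ≠ 0 ∧ v 2 ≠ 0) ∨ ∃ k, ∃ c : F, v = c • ee F k := by
  have h2 := two_eq_zero hF
  rw [hermForm_def, Fin.sum_univ_three] at hv
  have h3 : v 0 ^ 3 + v 1 ^ 3 + v 2 ^ 3 = 1 := by linear_combination hv
  by_cases h0 : v 0 = 0
  · by_cases h1 : v 1 = 0
    · right
      refine ⟨2, v 2, ?_⟩
      funext k
      fin_cases k
      · change v 0 = v 2 * 0; rw [h0, mul_zero]
      · change v 1 = v 2 * 0; rw [h1, mul_zero]
      · change v 2 = v 2 * 1; rw [mul_one]
    · by_cases h2' : v 2 = 0
      · right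
        refine ⟨1, v 1, ?_⟩
        funext k
        fin_cases k
        · change v 0 = v 1 * 0; rw [h0, mul_zero]
        · change v 1 = v 1 * 1; rw [mul_one]
        · change v 2 = v 1 * 0; rw [h2', mul_zero]
      · exfalso
        rw [h0, cube_of_ne_zero hF h1, cube_of_ne_zero hF h2'] at h3
        have : (1 : F) = 0 := by linear_combination h3
        exact one_ne_zero this
  · by_cases h1 : v 1 = 0
    · by_cases h2' : v 2 = 0
      · right
        refine ⟨0, v 0, ?_⟩
        funext k
        fin_cases k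
        · change v 0 = v 0 * 1; rw [mul_one]
        · change v 1 = v 0 * 0; rw [h1, mul_zero]
        · change v 2 = v 0 * 0; rw [h2', mul_zero]
      · exfalso
        rw [h1, cube_of_ne_zero hF h0, cube_of_ne_zero hF h2'] at h3
        have : (1 : F) = 0 := by linear_combination h3
        exact one_ne_zero this
    · by_cases h2' : v 2 = 0
      · exfalso
        rw [h2', cube_of_ne_zero hF h1, cube_of_ne_zero hF h0] at h3
        have : (1 : F) = 0 := by linear_combination h3
        exact one_ne_zero this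
      · left
        exact ⟨h0, h1, h2'⟩

/-- **Generation of `SU_3(2)`**: the two coordinate subgroups and conjugates of the Fourier
matrix. -/
theorem SU3_ind (hF : Fintype.card F = 2 ^ 2) {f : SU 3 F 2}
    (hf : act f (ee F 0) = fun _ => 1) (P : SU 3 F 2 → Prop)
    (h0 : ∀ g ∈ HH F 2 (iv 3 0 2), P g) (h1 : ∀ g ∈ HH F 2 (iv 3 1 2), P g)
    (hfP : ∀ (d : Fin 3 → F) (hd : ∀ k, d k ^ (2 + 1) = 1), P (tw hF hd (RingEquiv.refl F) f))
    (hmul : ∀ a b, P a → P b → P (a * b)) : ∀ g, P g := by
  -- elements sending `e₀` to a coordinate vector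
  have hm0 : ∀ g (c : F), act g (ee F 0) = c • ee F 0 → P g := by
    intro g c hc
    have hn : hermForm 3 F 2 (act g (ee F 0)) (act g (ee F 0)) = 1 := by
      rw [act_form, form_ee_ee hF, if_pos rfl]
    obtain ⟨w, hw, hw0⟩ := exists_HH1 hF (S := iv 3 0 2) (a := 0) (i0 := 1) (by decide) (by decide)
      (by decide) (v := act g (ee F 0)) ⟨by
        rw [hc]; exact Submodule.smul_mem _ _ (ee_mem_WS (by decide)), hn⟩
    have h2 : w⁻¹ * g ∈ HH F 2 (iv 3 1 2) := by
      rw [iv312]
      intro k hk
      fin_cases k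
      · change act (w⁻¹ * g) (ee F 0) = ee F 0
        rw [act_mul, ← hw0, act_inv_act]
      · exact absurd (by decide) hk
      · exact absurd (by decide) hk
    have : g = w * (w⁻¹ * g) := by group
    rw [this]
    exact hmul _ _ (h0 _ hw) (h1 _ h2)
  have hmk : ∀ k, ∃ m : SU 3 F 2, P m ∧ act m (ee F 0) = ee F k := by
    intro k
    obtain ⟨w, hw, hw0⟩ := exists_HH1 hF (S := iv 3 0 2) (a := 0) (i0 := 1) (by decide) (by decide)
      (by decide) (v := ee F 1) (un_ee hF (by decide))
    obtain ⟨w', hw', hw'1⟩ := exists_HH1 hF (S := iv 3 1 2) (a := 1) (i0 := 2) (by decide)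
      (by decide) (by decide) (v := ee F 2) (un_ee hF (by decide))
    fin_cases k
    · exact ⟨1, h0 1 (one_mem _), act_one _⟩
    · exact ⟨w, h0 _ hw, hw0⟩
    · refine ⟨w' * w, hmul _ _ (h1 _ hw') (h0 _ hw), ?_⟩
      rw [act_mul, hw0]
      exact hw'1
  intro g
  have hn : hermForm 3 F 2 (act g (ee F 0)) (act g (ee F 0)) = 1 := by
    rw [act_form, form_ee_ee hF, if_pos rfl]
  rcases un_cases hF hn with ⟨n0, n1, n2⟩ | ⟨k, c, hk⟩
  · -- the Fourier case
    obtain ⟨d, hd⟩ : ∃ d : Fin 3 → F, d = fun k => act g (ee F 0) k := ⟨_, rfl⟩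
    have hdn : ∀ k, d k ^ (2 + 1) = 1 := by
      intro k
      rw [hd]
      fin_cases k
      · exact cube_of_ne_zero hF n0
      · exact cube_of_ne_zero hF n1
      · exact cube_of_ne_zero hF n2
    obtain ⟨t, ht⟩ : ∃ t, t = tw hF hdn (RingEquiv.refl F) f := ⟨_, rfl⟩
    have ht0 : act g (ee F 0) = d 0 • act t (ee F 0) := by
      funext k
      change act g (ee F 0) k = d 0 * act t (ee F 0) k
      rw [ht, act_ee, act_ee, tw_apply]
      have h3 : mt f k 0 = 1 := by rw [← act_ee, hf]
      have h4 : d k = mt g k 0 := by rw [hd, ← act_ee]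
      rw [h3, map_one, mul_one, h4]
      have := norm_ne_zero (hdn 0)
      field_simp
    have h5 : P (t⁻¹ * g) := by
      refine hm0 _ (d 0) ?_
      rw [act_mul, ht0, act_smul, act_inv_act]
    have : g = t * (t⁻¹ * g) := by group
    rw [this]
    refine hmul _ _ ?_ h5
    rw [ht]
    exact hfP d hdn
  · obtain ⟨m, hm, hm0'⟩ := hmk k
    have h5 : P (m⁻¹ * g) := by
      refine hm0 _ c ?_
      rw [act_mul, hk, act_smul, ← hm0', act_inv_act]
    have : g = m * (m⁻¹ * g) := by group
    rw [this]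
    exact hmul _ _ hm h5

/-- `SU_3(2)` has no nontrivial characters of order three. -/
theorem chi_trivial (hF : Fintype.card F = 2 ^ 2) {A : Type*} [CommGroup A] (χ : SU 3 F 2 →* A)
    (hA : ∀ x, χ x ^ 3 = 1) (x : SU 3 F 2) : χ x = 1 := by
  obtain ⟨w, hw3, hw1, hw⟩ := exists_omega hF
  obtain ⟨f, z, p, hf4, -, -, hf0, -⟩ := exists_fourier hF hw hw3
  have hsq : ∀ s : SU 3 F 2, s ^ 2 = 1 → χ s = 1 := by
    intro s hs
    have h1 : χ s ^ 2 = 1 := by rw [← map_pow, hs, map_one]
    have h3 := hA s
    rw [pow_succ, h1, one_mul] at h3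
    exact h3
  have hq4 : ∀ s : SU 3 F 2, s ^ 4 = 1 → χ s = 1 := by
    intro s hs
    have h1 : χ s ^ 4 = 1 := by rw [← map_pow, hs, map_one]
    have h3 := hA s
    rw [pow_succ, h3, one_mul] at h1
    exact h1
  refine SU3_ind hF hf0 (fun x => χ x = 1) ?_ ?_ ?_ ?_ x
  · intro g hg
    refine HH_two_ind hF (n := 3) (j := 0) (by omega) (fun x => χ x = 1) ?_ ?_ ⟨g, hg⟩
    · intro s hs
      exact hsq _ (by rw [← Subgroup.coe_pow, hs]; rfl)
    · intro a b ha hb
      rw [Subgroup.coe_mul, map_mul, ha, hb, mul_one]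
  · intro g hg
    refine HH_two_ind hF (n := 3) (j := 1) (by omega) (fun x => χ x = 1) ?_ ?_ ⟨g, hg⟩
    · intro s hs
      exact hsq _ (by rw [← Subgroup.coe_pow, hs]; rfl)
    · intro a b ha hb
      rw [Subgroup.coe_mul, map_mul, ha, hb, mul_one]
  · intro d hd
    apply hq4
    rw [← map_pow, hf4, map_one]
  · intro a b ha hb
    beta_reduce
    rw [map_mul, ha, hb, mul_one]

/-- Endomorphisms of `SU_3(2)` which are the identity on the two coordinate subgroups are
trivial. -/
theorem auto_trivial (hF : Fintype.card F = 2 ^ 2) (α : SU 3 F 2 →* SU 3 F 2)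
    (h0 : ∀ g ∈ HH F 2 (iv 3 0 2), α g = g) (h1 : ∀ g ∈ HH F 2 (iv 3 1 2), α g = g)
    (x : SU 3 F 2) : α x = x := by
  obtain ⟨w, hw3, hw1, hw⟩ := exists_omega hF
  have hw0 : w ≠ 0 := by rintro rfl; norm_num at hw3
  have hw21 : w ^ 2 ≠ 1 := fun h => hw1 (sq_one hF h)
  have hw2w : w ^ 2 ≠ w := by
    intro h
    apply hw1
    have : w * (w - 1) = 0 := by linear_combination h
    exact sub_eq_zero.1 ((mul_eq_zero.1 this).resolve_left hw0)
  obtain ⟨f, z, p, hf4, hfz, hfp, hf0, hz0, hz1, hz2, hp1, hp2, hp0⟩ := exists_fourier hF hw hw3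
  have hzm : z ∈ HH F 2 (iv 3 1 2) := by
    rw [iv312]
    intro k hk
    fin_cases k
    · exact hz0
    · exact absurd (by decide) hk
    · exact absurd (by decide) hk
  -- `p` is a product of elements of the coordinate subgroups
  obtain ⟨u, hu, hu0⟩ := exists_HH1 hF (S := iv 3 1 2) (a := 1) (i0 := 2) (by decide)
      (by decide) (by decide) (v := ee F 2) (un_ee hF (by decide))
  obtain ⟨u', hu', hu'0⟩ := exists_HH1 hF (S := iv 3 0 2) (a := 0) (i0 := 1) (by decide)
      (by decide) (by decide) (v := ee F 1) (un_ee hF (by decide))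
  have hpm : u'⁻¹ * u⁻¹ * p ∈ HH F 2 (iv 3 1 2) := by
    rw [iv312]
    intro k hk
    fin_cases k
    · change act (u'⁻¹ * u⁻¹ * p) (ee F 0) = ee F 0
      rw [act_mul, act_mul, hp0, ← hu0, act_inv_act, ← hu'0, act_inv_act]
    · exact absurd (by decide) hk
    · exact absurd (by decide) hk
  have hpe : p = u * u' * (u'⁻¹ * u⁻¹ * p) := by group
  refine SU3_ind hF hf0 (fun x => α x = x) h0 h1 ?_ ?_ x
  · intro d hd
    obtain ⟨β, hβ⟩ : ∃ β, β = tw hF hd (RingEquiv.refl F) := ⟨_, rfl⟩
    rw [← hβ]
    have hβm : ∀ (S : Finset (Fin 3)) g, g ∈ HH F 2 S → β g ∈ HH F 2 S := by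
      intro S g hg
      rw [hβ]
      exact (tw_mem_iff hF hd (RingEquiv.refl F) g S).2 hg
    have hz' : α (β z) = β z := h1 _ (hβm _ _ hzm)
    have hp' : α (β p) = β p := by
      rw [hpe, map_mul β, map_mul β, map_mul α, map_mul α, h1 _ (hβm _ _ hu), h0 _ (hβm _ _ hu'),
        h1 _ (hβm _ _ hpm)]
    obtain ⟨y, hy⟩ : ∃ y, y = (β f)⁻¹ * α (β f) := ⟨_, rfl⟩
    have hfy : α (β f) = β f * y := by rw [hy]; group
    -- `y` commutes with `β z` and `β p`
    have e1 : β f * β z = β p * β f := by rw [← map_mul, ← map_mul, hfz]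
    have e2 : β f * β p = (β z)⁻¹ * β f := by rw [← map_mul, hfp, map_mul, map_inv]
    have e1' : α (β f) * β z = β p * α (β f) := by
      have := congrArg α e1
      rw [map_mul, map_mul, hz', hp'] at this
      exact this
    have e2' : α (β f) * β p = (β z)⁻¹ * α (β f) := by
      have := congrArg α e2
      rw [map_mul, map_mul, map_inv, hz', hp'] at this
      exact this
    have c1 : y * β z = β z * y := by
      rw [hfy] at e1'
      have h3 : β f * (y * β z) = β f * (β z * y) := by
        rw [← mul_assoc, e1', ← mul_assoc, ← mul_assoc, e1]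
      exact mul_left_cancel h3
    have c2 : y * β p = β p * y := by
      rw [hfy] at e2'
      have h3 : β f * (y * β p) = β f * (β p * y) := by
        rw [← mul_assoc, e2', ← mul_assoc, ← mul_assoc, e2]
      exact mul_left_cancel h3
    -- `β z` is diagonal
    have hzd : ∀ k l, mt (β z) k l = mt z k l := by
      intro k l
      rw [hβ, tw_apply]
      have hzd' : ∀ k l, k ≠ l → mt z k l = 0 := by
        rw [← isDg_iff_mt]
        intro k
        fin_cases k
        · exact ⟨1, by rw [one_smul]; exact hz0⟩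
        · exact ⟨_, hz1⟩
        · exact ⟨_, hz2⟩
      by_cases hkl : k = l
      · subst hkl
        have := norm_ne_zero (hd k)
        change d k * mt z k k * (d k)⁻¹ = mt z k k
        field_simp
      · rw [hzd' k l hkl, map_zero, mul_zero, zero_mul]
    have hβz : β z = z := mt_ext (by ext k l; exact hzd k l)
    rw [hβz] at c1
    have hzD : IsDg z := by
      intro k
      fin_cases k
      · exact ⟨1, by rw [one_smul]; exact hz0⟩
      · exact ⟨_, hz1⟩
      · exact ⟨_, hz2⟩
    have z0 : mt z 0 0 = 1 := by rw [← act_ee, hz0]; simp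
    have z1 : mt z 1 1 = w := by rw [← act_ee, hz1]; simp
    have z2 : mt z 2 2 = w ^ 2 := by rw [← act_ee, hz2]; simp
    have hyd : ∀ k l, mt y k l * mt z l l = mt z k k * mt y k l := by
      intro k l
      rw [← mt_mul_dg hzD, ← mt_dg_mul hzD, c1]
    have hyD : IsDg y := by
      rw [isDg_iff_mt]
      have key : ∀ k l, mt z l l ≠ mt z k k → mt y k l = 0 := by
        intro k l hkl
        have h3 : (mt z l l - mt z k k) * mt y k l = 0 := by linear_combination hyd k l
        exact (mul_eq_zero.1 h3).resolve_left (sub_ne_zero.2 hkl)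
      intro k l hkl
      fin_cases k <;> fin_cases l
      · exact absurd rfl hkl
      · exact key 0 1 (by rw [z0, z1]; exact hw1)
      · exact key 0 2 (by rw [z0, z2]; exact hw21)
      · exact key 1 0 (by rw [z0, z1]; exact hw1.symm)
      · exact absurd rfl hkl
      · exact key 1 2 (by rw [z1, z2]; exact hw2w)
      · exact key 2 0 (by rw [z0, z2]; exact hw21.symm)
      · exact key 2 1 (by rw [z1, z2]; exact hw2w.symm)
      · exact absurd rfl hkl
    -- the diagonal entries agree
    have hpn : ∀ k l, mt p k l ≠ 0 → mt y k k = mt y l l := by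
      intro k l hkl
      have h3 : mt (β p) k l ≠ 0 := by
        rw [hβ, tw_apply]
        exact mul_ne_zero (mul_ne_zero (norm_ne_zero (hd k)) hkl) (inv_ne_zero
          (norm_ne_zero (hd l)))
      have h4 := congrFun (congrFun (congrArg mt c2) k) l
      rw [mt_dg_mul hyD, mt_mul_dg hyD] at h4
      have h5 : (mt y k k - mt y l l) * mt (β p) k l = 0 := by linear_combination h4
      exact sub_eq_zero.1 ((mul_eq_zero.1 h5).resolve_right h3)
    have y01 : mt y 0 0 = mt y 1 1 := hpn 0 1 (by rw [← act_ee, hp1]; simp)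
    have y12 : mt y 1 1 = mt y 2 2 := hpn 1 2 (by rw [← act_ee, hp2]; simp)
    obtain ⟨c, hc⟩ : ∃ c, c = mt y 0 0 := ⟨_, rfl⟩
    have hyc : ∀ v, act y v = c • v := by
      intro v
      have h3 : mt y = Matrix.diagonal (fun _ => c) := by
        ext k l
        by_cases hkl : k = l
        · subst hkl
          rw [Matrix.diagonal_apply_eq]
          fin_cases k
          · exact hc.symm
          · exact y01.symm.trans hc.symm
          · exact (y01.trans y12).symm.trans hc.symm
        · rw [Matrix.diagonal_apply_ne _ hkl]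
          exact isDg_iff_mt.1 hyD k l hkl
      rw [act_def, show ((y : Matrix.SpecialLinearGroup (Fin 3) F) :
        Matrix (Fin 3) (Fin 3) F) = _ from h3]
      funext k
      rw [Matrix.mulVec_diagonal]
      rfl
    have hc3 := scalar_pow hyc
    have hyf : y * β f = β f * y := by
      apply act_ext
      intro v
      rw [act_mul, act_mul, hyc, hyc, act_smul]
    have hy4 : y ^ 4 = 1 := by
      have h3 : (α (β f)) ^ 4 = 1 := by rw [← map_pow, ← map_pow, hf4, map_one, map_one]
      rw [hfy, (show Commute (β f) y from hyf.symm).mul_pow, ← map_pow, hf4, map_one,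
        one_mul] at h3
      exact h3
    have hc4 : c ^ 4 = 1 := by
      have h4 : ∀ k : ℕ, ∀ v, act (y ^ k) v = c ^ k • v := by
        intro k
        induction k with
        | zero => intro v; rw [pow_zero, pow_zero, one_smul, act_one]
        | succ k ih =>
          intro v; rw [pow_succ, act_mul, hyc, act_smul, ih, smul_smul, pow_succ, mul_comm]
      have h5 := h4 4 (ee F 0)
      rw [hy4, act_one] at h5
      have := congrFun h5 0
      simpa using this.symm
    have hc1 : c = 1 := by rw [pow_succ, hc3, one_mul] at hc4; exact hc4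
    have hy1 : y = 1 := act_ext (fun v => by rw [hyc, hc1, one_smul, act_one])
    change α (β f) = β f
    rw [hfy, hy1, mul_one]
  · intro a b ha hb
    beta_reduce
    rw [map_mul, ha, hb]

end Cfsg.Agent.Phan
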