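import Cfsg.Agent.Phan.Two

/-!
# Identification of rank one subgroups of `SU_4(2)`
-/

set_option autoImplicit false
set_option linter.unusedSectionVars false
set_option linter.unusedSimpArgs false

namespace Cfsg.Agent.Phan

open Cfsg.Agent.Uni Module Matrix

variable {F : Type*} [Field F] [Fintype F]

/-! ### Characters -/

/-- characters of the torus -/
abbrev X3 := ZMod 3 × ZMod 3 × ZMod 3

/-- the reflections -/
def refl3 : Fin 3 → X3 → X3
  | 0, x => (-x.1, x.1 + x.2.1, x.2.2)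
  | 1, x => (x.1 + x.2.1, -x.2.1, x.2.1 + x.2.2)
  | 2, x => (x.1, x.2.1 + x.2.2, -x.2.2)

/-- words -/
def wd (l : List (Fin 3)) (x : X3) : X3 := l.foldr refl3 x

/-- the 24 reduced words of `S₄` -/
def words : List (List (Fin 3)) :=
  [[], [0], [1], [2], [0, 1], [1, 0], [0, 2], [1, 2], [2, 1], [0, 1, 0], [0, 1, 2], [2, 1, 0],
   [0, 2, 1], [1, 0, 2], [1, 2, 1], [0, 1, 0, 2], [0, 1, 2, 1], [1, 0, 2, 1], [1, 2, 1, 0],
   [0, 2, 1, 0], [0, 1, 0, 2, 1], [0, 1, 2, 1, 0], [1, 0, 2, 1, 0], [0, 1, 0, 2, 1, 0]]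

theorem classify (x : X3) (hx : x.1 ≠ 0) :
    (∃ w ∈ words, wd w x = (1, 0, 0) ∨ wd w x = (-1, 0, 0)) ∨
    5 ≤ ((words.map (fun w => wd w x)).toFinset).card := by
  revert x
  decide

/-- powers of `w` -/
def wp (w : F) (x : ZMod 3) : F := w ^ x.val

theorem wp_add {w : F} (hw : w ^ 3 = 1) (x y : ZMod 3) : wp w (x + y) = wp w x * wp w y := by
  unfold wp
  rw [← pow_add, ZMod.val_add]
  conv_rhs => rw [← Nat.div_add_mod (x.val + y.val) 3, pow_add, pow_mul, hw, one_pow, one_mul]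

theorem wp_zero (w : F) : wp w 0 = 1 := by
  unfold wp; rw [ZMod.val_zero, pow_zero]

theorem wp_neg {w : F} (hw : w ^ 3 = 1) (x : ZMod 3) : wp w (-x) = (wp w x)⁻¹ := by
  have h1 : wp w x * wp w (-x) = 1 := by rw [← wp_add hw, add_neg_cancel, wp_zero]
  exact (inv_eq_of_mul_eq_one_right h1).symm

theorem wp_cube {w : F} (hw : w ^ 3 = 1) (x : ZMod 3) : wp w x ^ 3 = 1 := by
  unfold wp; rw [← pow_mul, mul_comm, pow_mul, hw, one_pow]

theorem wp_inj {w : F} (hw3 : w ^ 3 = 1) (hw1 : w ≠ 1) {x y : ZMod 3} (h : wp w x = wp w y) :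
    x = y := by
  have h1 : wp w (x - y) = 1 := by
    rw [sub_eq_add_neg, wp_add hw3, wp_neg hw3, h, mul_inv_cancel₀]
    unfold wp
    apply pow_ne_zero
    rintro rfl
    norm_num at hw3
  have h2 : ∀ z : ZMod 3, wp w z = 1 → z = 0 := by
    intro z hz
    fin_cases z
    · rfl
    · exfalso
      apply hw1
      have h3 : w ^ 1 = 1 := hz
      rwa [pow_one] at h3
    · exfalso
      apply hw1
      have h3 : w ^ 2 = 1 := hz
      rw [pow_succ, h3, one_mul] at hw3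
      exact hw3
  exact sub_eq_zero.1 (h2 _ h1)

theorem wp_surj (hF : Fintype.card F = 2 ^ 2) {w : F} (hw3 : w ^ 3 = 1) (hw1 : w ≠ 1) {c : F}
    (hc : c ^ 3 = 1) : ∃ x : ZMod 3, c = wp w x := by
  have hw0 : w ≠ 0 := by rintro rfl; norm_num at hw3
  have hww : 1 + w + w ^ 2 = 0 := by
    have h1 : (w - 1) * (1 + w + w ^ 2) = 0 := by linear_combination hw3
    exact (mul_eq_zero.1 h1).resolve_left (sub_ne_zero.2 hw1)
  have h : (c - 1) * ((c - w) * (c - w ^ 2)) = 0 := by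
    linear_combination hc - (c ^ 2 - c) * hww + (c - 1) * hw3
  rcases mul_eq_zero.1 h with h | h
  · exact ⟨0, by rw [wp_zero]; exact sub_eq_zero.1 h⟩
  rcases mul_eq_zero.1 h with h | h
  · refine ⟨1, ?_⟩
    rw [sub_eq_zero.1 h]
    change w = w ^ 1
    rw [pow_one]
  · exact ⟨2, sub_eq_zero.1 h⟩

/-! ### Eigenspaces of elements of order three -/

/-- projection to an eigenspace -/
theorem eig_proj {n : ℕ} {x : SU n F 2} (hx : x ^ 3 = 1) {c : F} (hc : c ^ 3 = 1)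
    (v : Fin n → F) :
    act x (v + c ^ 2 • act x v + c • act x (act x v)) =
      c • (v + c ^ 2 • act x v + c • act x (act x v)) := by
  have h3 : act x (act x (act x v)) = v := by
    rw [← act_mul, ← act_mul]
    have : x * x * x = 1 := by rw [← hx, pow_succ, pow_two]
    rw [this, act_one]
  rw [act_add, act_add, act_smul, act_smul, h3]
  have e1 : c • c ^ 2 • act x v = act x v := by
    rw [smul_smul, ← pow_succ', hc, one_smul]
  have e2 : c • c • act x (act x v) = c ^ 2 • act x (act x v) := by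
    rw [smul_smul, pow_two]
  rw [smul_add, smul_add, e1, e2]
  abel

/-- eigenspaces in a nondegenerate invariant subspace are nondegenerate -/
theorem nd_eig {n : ℕ} (hF : Fintype.card F = 2 ^ 2) {x : SU n F 2} (hx : x ^ 3 = 1) {c : F}
    (hc : c ^ 3 = 1) {W : Submodule F (Fin n → F)} (hW : ND 2 W) (hWx : ∀ w ∈ W, act x w ∈ W)
    {E : Submodule F (Fin n → F)} (hE : ∀ v, v ∈ E ↔ v ∈ W ∧ act x v = c • v) : ND 2 E := by
  have h2 := two_eq_zero hF
  have hc0 : c ≠ 0 := by rintro rfl; norm_num at hc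
  intro w hw hwy
  obtain ⟨hwW, hxw⟩ := (hE w).1 hw
  apply hW w hwW
  intro y hy
  have h1 : ∀ y, hermForm n F 2 w (act x y) = c ^ 2 * hermForm n F 2 w y := by
    intro y
    have h3 : hermForm n F 2 (act x w) (act x y) = hermForm n F 2 w y := act_form _ _ _
    rw [hxw, hermForm_smul_left] at h3
    rw [← h3]
    linear_combination (-hermForm n F 2 w (act x y)) * hc
  have h3 := hwy _ ((hE _).2 ⟨W.add_mem (W.add_mem hy (W.smul_mem (c ^ 2) (hWx _ hy)))
    (W.smul_mem c (hWx _ (hWx _ hy))), eig_proj hx hc y⟩)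
  rw [hermForm_add_right hF, hermForm_add_right hF, hermForm_smul_right, hermForm_smul_right,
    h1, h1, h1] at h3
  linear_combination h3 - hermForm n F 2 w y * ((c ^ 3 + 1) * hc + c ^ 3 * hc + hc + h2)

theorem exists_eigW {n : ℕ} (hF : Fintype.card F = 2 ^ 2) {x : SU n F 2} (hx : x ^ 3 = 1)
    {W : Submodule F (Fin n → F)} (hWx : ∀ w ∈ W, act x w ∈ W) (hW0 : ∃ w ∈ W, w ≠ 0) :
    ∃ c : F, c ^ 3 = 1 ∧ ∃ v ∈ W, act x v = c • v ∧ v ≠ 0 := by
  have h2 := two_eq_zero hF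
  obtain ⟨w, hw3, hw1, hww⟩ := exists_omega hF
  obtain ⟨v, hv, hv0⟩ := hW0
  by_contra hcon
  push Not at hcon
  have key : ∀ c : F, c ^ 3 = 1 → v + c ^ 2 • act x v + c • act x (act x v) = 0 := fun c hc =>
    hcon c hc _ (W.add_mem (W.add_mem hv (W.smul_mem (c ^ 2) (hWx _ hv)))
      (W.smul_mem c (hWx _ (hWx _ hv)))) (eig_proj hx hc v)
  have k1 := key 1 (one_pow 3)
  have k2 := key w hw3
  have k3 := key (w ^ 2) (by rw [← pow_mul, mul_comm, pow_mul, hw3, one_pow])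
  apply hv0
  funext k
  have e1 := congrFun k1 k
  have e2 := congrFun k2 k
  have e3 := congrFun k3 k
  simp only [Pi.add_apply, Pi.smul_apply, smul_eq_mul, Pi.zero_apply] at e1 e2 e3 ⊢
  obtain ⟨p, hp⟩ : ∃ p, p = act x v k := ⟨_, rfl⟩
  obtain ⟨r, hr⟩ : ∃ r, r = act x (act x v) k := ⟨_, rfl⟩
  rw [← hp, ← hr] at e1 e2 e3
  linear_combination e1 + e2 + e3 - v k * h2 - (p + r) * hww - p * w * hw3

theorem exists_eigW_ne {n : ℕ} (hF : Fintype.card F = 2 ^ 2) {x : SU n F 2} (hx : x ^ 3 = 1)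
    (hx1 : x ≠ 1) : ∃ c : F, c ^ 3 = 1 ∧ c ≠ 1 ∧ ∃ v, act x v = c • v ∧ v ≠ 0 := by
  have h2 := two_eq_zero hF
  obtain ⟨w, hw3, hw1, hww⟩ := exists_omega hF
  by_contra hcon
  push Not at hcon
  apply hx1
  apply act_ext
  intro v
  have key : ∀ c : F, c ^ 3 = 1 → c ≠ 1 → v + c ^ 2 • act x v + c • act x (act x v) = 0 :=
    fun c hc hc1 => hcon c hc hc1 _ (eig_proj hx hc v)
  have k2 := key w hw3 hw1
  have k3 := key (w ^ 2) (by rw [← pow_mul, mul_comm, pow_mul, hw3, one_pow])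
    (fun h => hw1 (sq_one hF h))
  rw [act_one]
  funext k
  have e2 := congrFun k2 k
  have e3 := congrFun k3 k
  simp only [Pi.add_apply, Pi.smul_apply, smul_eq_mul, Pi.zero_apply] at e2 e3 ⊢
  obtain ⟨p, hp⟩ : ∃ p, p = act x v k := ⟨_, rfl⟩
  obtain ⟨r, hr⟩ : ∃ r, r = act x (act x v) k := ⟨_, rfl⟩
  rw [← hp, ← hr] at e2 e3
  rw [← hp]
  have hw0 : w ≠ 0 := by rintro rfl; norm_num at hw3
  have h5 : (w ^ 2 - w) * (p - r) = 0 := by
    linear_combination e2 - e3 + p * w * hw3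
  have h6 : w ^ 2 - w ≠ 0 := by
    intro h
    apply hw1
    have : w * (w - 1) = 0 := by linear_combination h
    exact sub_eq_zero.1 ((mul_eq_zero.1 this).resolve_left hw0)
  have h7 : p = r := sub_eq_zero.1 ((mul_eq_zero.1 h5).resolve_left h6)
  rw [← h7] at e2
  linear_combination -e2 + p * hww

/-- Simultaneous unit eigenvectors. -/
theorem exists_joint {n : ℕ} (hF : Fintype.card F = 2 ^ 2) {a b c : SU n F 2} (ha : a ^ 3 = 1)
    (hb : b ^ 3 = 1) (hc : c ^ 3 = 1) (hab : a * b = b * a) (hac : a * c = c * a)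
    (hbc : b * c = c * b) (ha1 : a ≠ 1) :
    ∃ (x y z : F) (v : Fin n → F), x ^ 3 = 1 ∧ y ^ 3 = 1 ∧ z ^ 3 = 1 ∧ x ≠ 1 ∧
      hermForm n F 2 v v = 1 ∧ act a v = x • v ∧ act b v = y • v ∧ act c v = z • v := by
  have hsub : ∀ (W : Submodule F (Fin n → F)) (g : SU n F 2) (x : F),
      ∃ E : Submodule F (Fin n → F), ∀ v, v ∈ E ↔ v ∈ W ∧ act g v = x • v := by
    intro W g x
    refine ⟨{ carrier := {v | v ∈ W ∧ act g v = x • v}, add_mem' := ?_, zero_mem' := ?_,
              smul_mem' := ?_ }, fun v => Iff.rfl⟩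
    · rintro a b ⟨ha, ha'⟩ ⟨hb, hb'⟩
      exact ⟨W.add_mem ha hb, by rw [act_add, ha', hb', smul_add]⟩
    · exact ⟨W.zero_mem, by rw [act_zero, smul_zero]⟩
    · rintro c v ⟨hv, hv'⟩
      exact ⟨W.smul_mem _ hv, by rw [act_smul, hv', smul_comm]⟩
  obtain ⟨x, hx, hx1, v0, hv0, hv00⟩ := exists_eigW_ne hF ha ha1
  obtain ⟨E0, hE0⟩ := hsub ⊤ a x
  have nd0 : ND 2 E0 := nd_eig hF ha hx (nd_top (n := n) hF) (fun _ _ => Submodule.mem_top) hE0
  have hbE : ∀ w ∈ E0, act b w ∈ E0 := by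
    intro w hw
    rw [hE0] at hw ⊢
    exact ⟨Submodule.mem_top, by rw [← act_mul, hab, act_mul, hw.2, act_smul]⟩
  obtain ⟨y, hy, v1, hv1, hv1b, hv10⟩ := exists_eigW hF hb hbE ⟨v0, (hE0 _).2
    ⟨Submodule.mem_top, hv0⟩, hv00⟩
  obtain ⟨E1, hE1⟩ := hsub E0 b y
  have nd1 : ND 2 E1 := nd_eig hF hb hy nd0 hbE hE1
  have hcE : ∀ w ∈ E1, act c w ∈ E1 := by
    intro w hw
    rw [hE1, hE0] at hw ⊢
    exact ⟨⟨Submodule.mem_top, by rw [← act_mul, hac, act_mul, hw.1.2, act_smul]⟩,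
      by rw [← act_mul, hbc, act_mul, hw.2, act_smul]⟩
  obtain ⟨z, hz, v2, hv2, hv2c, hv20⟩ := exists_eigW hF hc hcE ⟨v1, (hE1 _).2 ⟨hv1, hv1b⟩, hv10⟩
  obtain ⟨E2, hE2⟩ := hsub E1 c z
  have nd2 : ND 2 E2 := nd_eig hF hc hz nd1 hcE hE2
  obtain ⟨u, hu⟩ := exists_un hF nd2 (by
    by_contra hcon
    have h1 : finrank F E2 = 0 := by omega
    have h2 := Submodule.finrank_eq_zero.1 h1
    have h3 : v2 ∈ E2 := (hE2 _).2 ⟨hv2, hv2c⟩
    rw [h2, Submodule.mem_bot] at h3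
    exact hv20 h3)
  have hu' := hu.1
  rw [hE2, hE1, hE0] at hu'
  exact ⟨x, y, z, u, hx, hy, hz, hx1, hu.2, hu'.1.1.2, hu'.1.2, hu'.2⟩

/-- A family of orthonormal vectors has at most `n` members. -/
theorem card_ortho_le {q n : ℕ} {ι : Type*} [Fintype ι] [DecidableEq ι] (v : ι → Fin n → F)
    (hv : ∀ i j, hermForm n F q (v i) (v j) = if i = j then 1 else 0) : Fintype.card ι ≤ n := by
  have hli : LinearIndependent F v := by
    rw [Fintype.linearIndependent_iff]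
    intro g hg i
    have h1 : hermForm n F q (∑ j, g j • v j) (v i) = 0 := by rw [hg, hermForm_zero_left]
    rw [hermForm_sum_left, Finset.sum_eq_single i] at h1
    · rw [hermForm_smul_left, hv, if_pos rfl, mul_one] at h1
      exact h1
    · intro j _ hj
      rw [hermForm_smul_left, hv, if_neg hj, mul_zero]
    · intro h; exact absurd (Finset.mem_univ _) h
  have := hli.fintype_card_le_finrank
  simpa using this

/-- Eigenvectors for different eigenvalues are orthogonal. -/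
theorem ortho_of_ne {n : ℕ} {g : SU n F 2} {x y : F} (hy : y ^ 3 = 1) (hxy : x ≠ y)
    {u v : Fin n → F} (hu : act g u = x • u) (hv : act g v = y • v) :
    hermForm n F 2 u v = 0 := by
  have h1 : hermForm n F 2 (act g u) (act g v) = hermForm n F 2 u v := act_form _ _ _
  rw [hu, hv, hermForm_smul_left, hermForm_smul_right] at h1
  have hy0 : y ≠ 0 := by rintro rfl; norm_num at hy
  have h2 : (x - y) * hermForm n F 2 u v = 0 := by
    linear_combination y * h1 - x * hermForm n F 2 u v * hy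
  exact (mul_eq_zero.1 h2).resolve_left (sub_ne_zero.2 hxy)

/-- **Torus configuration**: commuting elements `a`, `b`, `c` of order three of `SU_4(2)` and
`s`, `t`, `u` acting on them as the reflections. -/
theorem exists_torus_frame (hF : Fintype.card F = 2 ^ 2) {a b c : SU 4 F 2} (ha : a ^ 3 = 1)
    (hb : b ^ 3 = 1) (hc : c ^ 3 = 1) (hab : a * b = b * a) (hac : a * c = c * a)
    (hbc : b * c = c * b) (ha1 : a ≠ 1) {s t u : SU 4 F 2}
    (as : a * s = s * a⁻¹) (bs : b * s = s * (a * b)) (cs : c * s = s * c)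
    (at' : a * t = t * (a * b)) (bt : b * t = t * b⁻¹) (ct : c * t = t * (b * c))
    (au : a * u = u * a) (bu : b * u = u * (b * c)) (cu : c * u = u * c⁻¹) :
    ∃ (l : F) (h : SU 4 F 2), l ^ 3 = 1 ∧ l ≠ 1 ∧
      (act (h⁻¹ * a * h) (ee F 0) = l • ee F 0 ∧ act (h⁻¹ * a * h) (ee F 1) = l⁻¹ • ee F 1 ∧
       act (h⁻¹ * a * h) (ee F 2) = ee F 2 ∧ act (h⁻¹ * a * h) (ee F 3) = ee F 3) ∧
      (act (h⁻¹ * b * h) (ee F 0) = ee F 0 ∧ act (h⁻¹ * b * h) (ee F 1) = l • ee F 1 ∧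
       act (h⁻¹ * b * h) (ee F 2) = l⁻¹ • ee F 2 ∧ act (h⁻¹ * b * h) (ee F 3) = ee F 3) ∧
      (act (h⁻¹ * c * h) (ee F 0) = ee F 0 ∧ act (h⁻¹ * c * h) (ee F 1) = ee F 1 ∧
       act (h⁻¹ * c * h) (ee F 2) = l • ee F 2 ∧ act (h⁻¹ * c * h) (ee F 3) = l⁻¹ • ee F 3) := by
  classical
  obtain ⟨w, hw3, hw1, hww⟩ := exists_omega hF
  obtain ⟨P, hP⟩ : ∃ P : X3 → Prop, ∀ x, P x ↔ ∃ v : Fin 4 → F, hermForm 4 F 2 v v = 1 ∧
      act a v = wp w x.1 • v ∧ act b v = wp w x.2.1 • v ∧ act c v = wp w x.2.2 • v :=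
    ⟨_, fun _ => Iff.rfl⟩
  -- eigenvectors of inverses
  have hinv : ∀ (g : SU 4 F 2) (x : ZMod 3) (v : Fin 4 → F), act g v = wp w x • v →
      act g⁻¹ v = wp w (-x) • v := by
    intro g x v h
    have h1 := congrArg (act g⁻¹) h
    rw [act_inv_act, act_smul] at h1
    have h0 : wp w x ≠ 0 := by
      intro h0
      have := wp_cube hw3 x
      rw [h0] at this
      norm_num at this
    rw [wp_neg hw3, eq_inv_smul_iff₀ h0]
    exact h1.symm
  have hmul : ∀ (g g' : SU 4 F 2) (x x' : ZMod 3) (v : Fin 4 → F), act g v = wp w x • v →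
      act g' v = wp w x' • v → act (g * g') v = wp w (x + x') • v := by
    intro g g' x x' v h h'
    rw [act_mul, h', act_smul, h, smul_smul, wp_add hw3, mul_comm]
  have hstep : ∀ (g d d' : SU 4 F 2) (x : ZMod 3) (v : Fin 4 → F), d * g = g * d' →
      act d' v = wp w x • v → act d (act g v) = wp w x • act g v := by
    intro g d d' x v h h'
    rw [← act_mul, h, act_mul, h', act_smul]
  have hPr : ∀ i x, P x → P (refl3 i x) := by
    intro i x hx
    rw [hP] at hx ⊢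
    obtain ⟨v, hv, hva, hvb, hvc⟩ := hx
    fin_cases i
    · exact ⟨act s v, by rw [act_form]; exact hv, hstep s a a⁻¹ _ v as (hinv a _ v hva),
        hstep s b (a * b) _ v bs (hmul _ _ _ _ v hva hvb), hstep s c c _ v cs hvc⟩
    · exact ⟨act t v, by rw [act_form]; exact hv,
        hstep t a (a * b) _ v at' (hmul _ _ _ _ v hva hvb), hstep t b b⁻¹ _ v bt (hinv b _ v hvb),
        hstep t c (b * c) _ v ct (hmul _ _ _ _ v hvb hvc)⟩
    · exact ⟨act u v, by rw [act_form]; exact hv, hstep u a a _ v au hva,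
        hstep u b (b * c) _ v bu (hmul _ _ _ _ v hvb hvc), hstep u c c⁻¹ _ v cu (hinv c _ v hvc)⟩
  have hPw : ∀ l x, P x → P (wd l x) := by
    intro l x hx
    induction l with
    | nil => exact hx
    | cons i l ih => exact hPr i _ ih
  -- orthogonality
  have hort : ∀ (x y : X3), x ≠ y → ∀ v v' : Fin 4 → F,
      (act a v = wp w x.1 • v ∧ act b v = wp w x.2.1 • v ∧ act c v = wp w x.2.2 • v) →
      (act a v' = wp w y.1 • v' ∧ act b v' = wp w y.2.1 • v' ∧ act c v' = wp w y.2.2 • v') →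
      hermForm 4 F 2 v v' = 0 := by
    rintro ⟨x0, x1, x2⟩ ⟨y0, y1, y2⟩ hxy v v' ⟨h0, h1, h2⟩ ⟨h0', h1', h2'⟩
    by_cases e0 : x0 = y0
    · by_cases e1 : x1 = y1
      · have e2 : x2 ≠ y2 := fun e2 => hxy (by rw [e0, e1, e2])
        exact ortho_of_ne (wp_cube hw3 _) (fun h => e2 (wp_inj hw3 hw1 h)) h2 h2'
      · exact ortho_of_ne (wp_cube hw3 _) (fun h => e1 (wp_inj hw3 hw1 h)) h1 h1'
    · exact ortho_of_ne (wp_cube hw3 _) (fun h => e0 (wp_inj hw3 hw1 h)) h0 h0'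
  have hcard : ∀ S : Finset X3, (∀ x ∈ S, P x) → S.card ≤ 4 := by
    intro S hS
    choose v hv using fun x : S => (hP x.1).1 (hS x.1 x.2)
    have := card_ortho_le (q := 2) (n := 4) (F := F) v (by
      intro i j
      by_cases hij : i = j
      · subst hij
        rw [if_pos rfl]; exact (hv i).1
      · rw [if_neg hij]
        exact hort i.1 j.1 (fun h => hij (Subtype.ext h)) _ _ (hv i).2 (hv j).2)
    rwa [Fintype.card_coe] at this
  -- the starting vector
  obtain ⟨x, y, z, v, hx, hy, hz, hx1, hv, hva, hvb, hvc⟩ := exists_joint hF ha hb hc hab hac hbc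
    ha1
  obtain ⟨x0, rfl⟩ := wp_surj hF hw3 hw1 hx
  obtain ⟨x1, rfl⟩ := wp_surj hF hw3 hw1 hy
  obtain ⟨x2, rfl⟩ := wp_surj hF hw3 hw1 hz
  have hPx : P (x0, x1, x2) := (hP _).2 ⟨v, hv, hva, hvb, hvc⟩
  have hx0 : x0 ≠ 0 := by
    rintro rfl
    exact hx1 (wp_zero w)
  obtain ⟨e, he, hPe⟩ : ∃ e : ZMod 3, e ≠ 0 ∧ P (e, 0, 0) := by
    rcases classify (x0, x1, x2) hx0 with ⟨l, -, h | h⟩ | h
    · exact ⟨1, by decide, by rw [← h]; exact hPw l _ hPx⟩
    · exact ⟨-1, by decide, by rw [← h]; exact hPw l _ hPx⟩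
    · exfalso
      have := hcard ((words.map (fun w => wd w (x0, x1, x2))).toFinset) (by
        intro x hx
        rw [List.mem_toFinset, List.mem_map] at hx
        obtain ⟨l, -, rfl⟩ := hx
        exact hPw l _ hPx)
      omega
  have hP0 := hPe
  have hP1 : P (-e, e, 0) := by
    have := hPr 0 _ hP0
    have h1 : refl3 0 (e, 0, 0) = (-e, e, 0) := by
      change ((-e, e + 0, 0) : X3) = _
      rw [add_zero]
    rwa [h1] at this
  have hP2 : P (0, -e, e) := by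
    have := hPr 1 _ hP1
    have h1 : refl3 1 (-e, e, 0) = (0, -e, e) := by
      change ((-e + e, -e, e + 0) : X3) = _
      rw [add_zero, neg_add_cancel]
    rwa [h1] at this
  have hP3 : P (0, 0, -e) := by
    have := hPr 2 _ hP2
    have h1 : refl3 2 (0, -e, e) = (0, 0, -e) := by
      change ((0, -e + e, -e) : X3) = _
      rw [neg_add_cancel]
    rwa [h1] at this
  obtain ⟨f0, hf0, hf0'⟩ := (hP _).1 hP0
  obtain ⟨f1, hf1, hf1'⟩ := (hP _).1 hP1
  obtain ⟨f2, hf2, hf2'⟩ := (hP _).1 hP2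
  obtain ⟨f3, hf3, hf3'⟩ := (hP _).1 hP3
  have hne : ∀ e : ZMod 3, e ≠ 0 → e ≠ -e ∧ (-e ≠ 0) := by decide
  obtain ⟨hee, hne0⟩ := hne e he
  have o01 : hermForm 4 F 2 f0 f1 = 0 := hort _ _ (by
    intro h; exact hee (congrArg Prod.fst h)) _ _ hf0' hf1'
  have o02 : hermForm 4 F 2 f0 f2 = 0 := hort _ _ (by
    intro h; exact he (congrArg Prod.fst h)) _ _ hf0' hf2'
  have o12 : hermForm 4 F 2 f1 f2 = 0 := hort _ _ (by
    intro h; exact hne0 (congrArg Prod.fst h)) _ _ hf1' hf2'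
  have o30 : hermForm 4 F 2 f3 f0 = 0 := hort _ _ (by
    intro h; exact he (congrArg Prod.fst h).symm) _ _ hf3' hf0'
  have o31 : hermForm 4 F 2 f3 f1 = 0 := hort _ _ (by
    intro h; exact hne0 (congrArg Prod.fst h).symm) _ _ hf3' hf1'
  have o32 : hermForm 4 F 2 f3 f2 = 0 := hort _ _ (by
    intro h; exact hee (congrArg (fun p : X3 => p.2.2) h).symm) _ _ hf3' hf2'
  obtain ⟨h, -, hh0, hh1, hh2⟩ := exists_HH3 hF (S := (Finset.univ : Finset (Fin 4)))
    (a := 0) (b := 1) (c := 2) (i0 := 3) (Finset.mem_univ _) (Finset.mem_univ _)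
    (Finset.mem_univ _) (by decide) (by decide) (by decide) (Finset.mem_univ _) (by decide)
    (by decide) (by decide) (u := f0) (v := f1) (w := f2)
    ⟨fun l hl => absurd (Finset.mem_univ l) hl, hf0⟩
    ⟨fun l hl => absurd (Finset.mem_univ l) hl, hf1⟩
    ⟨fun l hl => absurd (Finset.mem_univ l) hl, hf2⟩ o01 o02 o12
  -- `h e₃` is proportional to `f3`
  obtain ⟨μ, hμ0, hμ⟩ : ∃ μ : F, μ ≠ 0 ∧ f3 = μ • act h (ee F 3) := by
    have h3 : act h⁻¹ f3 = (act h⁻¹ f3 3) • ee F 3 := by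
      have h4 : ∀ k : Fin 4, k ≠ 3 → act h⁻¹ f3 k = 0 := by
        intro k hk
        have h5 : hermForm 4 F 2 (act h⁻¹ f3) (act h⁻¹ (act h (ee F k))) =
            hermForm 4 F 2 f3 (act h (ee F k)) := act_form _ _ _
        rw [act_inv_act, form_ee hF] at h5
        rw [h5]
        fin_cases k
        · change hermForm 4 F 2 f3 (act h (ee F 0)) = 0
          rw [hh0]; exact o30
        · change hermForm 4 F 2 f3 (act h (ee F 1)) = 0
          rw [hh1]; exact o31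
        · change hermForm 4 F 2 f3 (act h (ee F 2)) = 0
          rw [hh2]; exact o32
        · exact absurd rfl hk
      funext k
      by_cases hk : k = 3
      · subst hk; simp
      · rw [h4 k hk]; simp [hk]
    refine ⟨act h⁻¹ f3 3, ?_, ?_⟩
    · intro h0
      rw [h0, zero_smul] at h3
      have h4 : f3 = 0 := by
        have := congrArg (act h) h3
        rwa [act_act_inv, act_zero] at this
      rw [h4, hermForm_zero_left] at hf3
      exact zero_ne_one hf3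
    · have := congrArg (act h) h3
      rw [act_act_inv, act_smul] at this
      exact this
  have hfin : ∀ (g : SU 4 F 2) (x : F) (k : Fin 4), act g (act h (ee F k)) = x • act h (ee F k) →
      act (h⁻¹ * g * h) (ee F k) = x • ee F k := by
    intro g x k hg
    rw [act_mul, act_mul, hg, act_smul, act_inv_act]
  have hfin1 : ∀ (g : SU 4 F 2) (k : Fin 4), act g (act h (ee F k)) = wp w 0 • act h (ee F k) →
      act (h⁻¹ * g * h) (ee F k) = ee F k := by
    intro g k hg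
    rw [hfin g _ k hg, wp_zero, one_smul]
  have h3g : ∀ (g : SU 4 F 2) (x : F), act g f3 = x • f3 →
      act g (act h (ee F 3)) = x • act h (ee F 3) := by
    intro g x hg
    rw [hμ, act_smul, smul_comm] at hg
    exact smul_right_injective _ hμ0 hg
  refine ⟨wp w e, h, wp_cube hw3 e, ?_, ⟨?_, ?_, ?_, ?_⟩, ⟨?_, ?_, ?_, ?_⟩, ⟨?_, ?_, ?_, ?_⟩⟩
  · intro h1
    rw [← wp_zero w] at h1
    exact he (wp_inj hw3 hw1 h1)
  · exact hfin a _ 0 (by rw [hh0]; exact hf0'.1)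
  · rw [← wp_neg hw3]; exact hfin a _ 1 (by rw [hh1]; exact hf1'.1)
  · exact hfin1 a 2 (by rw [hh2]; exact hf2'.1)
  · exact hfin1 a 3 (h3g _ _ hf3'.1)
  · exact hfin1 b 0 (by rw [hh0]; exact hf0'.2.1)
  · exact hfin b _ 1 (by rw [hh1]; exact hf1'.2.1)
  · rw [← wp_neg hw3]; exact hfin b _ 2 (by rw [hh2]; exact hf2'.2.1)
  · exact hfin1 b 3 (h3g _ _ hf3'.2.1)
  · exact hfin1 c 0 (by rw [hh0]; exact hf0'.2.2)
  · exact hfin1 c 1 (by rw [hh1]; exact hf1'.2.2)
  · exact hfin c _ 2 (by rw [hh2]; exact hf2'.2.2)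
  · rw [← wp_neg hw3]; exact hfin c _ 3 (h3g _ _ hf3'.2.2)

end Cfsg.Agent.Phan
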