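import Cfsg.Agent.Phan.Two2

/-!
# Completion of rank three intervals, `q = 2`
-/

set_option autoImplicit false
set_option linter.unusedSectionVars false
set_option linter.unusedSimpArgs false

namespace Cfsg.Agent.Phan

open Cfsg.Agent.Uni Module Matrix

variable {F : Type*} [Field F] [Fintype F]

/-- diagonal elements with given weights -/
def Wt {q n : ℕ} (t : SU n F q) (x : Fin n → F) : Prop := ∀ k, act t (ee F k) = x k • ee F k

theorem Wt.mul {q n : ℕ} {t t' : SU n F q} {x x' : Fin n → F} (h : Wt t x) (h' : Wt t' x') :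
    Wt (t * t') (fun k => x k * x' k) := by
  intro k
  rw [act_mul, h' k, act_smul, h k, smul_smul, mul_comm]

theorem Wt.inv {q n : ℕ} {t : SU n F q} {x : Fin n → F} (h : Wt t x) (h0 : ∀ k, x k ≠ 0) :
    Wt t⁻¹ (fun k => (x k)⁻¹) := by
  intro k
  have h1 := congrArg (act t⁻¹) (h k)
  rw [act_inv_act, act_smul] at h1
  change _ = (x k)⁻¹ • _
  rw [eq_inv_smul_iff₀ (h0 k)]
  exact h1.symm

theorem Wt.ext {q n : ℕ} {t t' : SU n F q} {x x' : Fin n → F} (h : Wt t x) (h' : Wt t' x')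
    (hx : ∀ k, x k = x' k) : t = t' :=
  act_ext_ee (fun k => by rw [h k, h' k, hx k])

theorem Wt.isDg {q n : ℕ} {t : SU n F q} {x : Fin n → F} (h : Wt t x) : IsDg t :=
  fun k => ⟨_, h k⟩

theorem Wt.entry {q n : ℕ} {t : SU n F q} {x : Fin n → F} (h : Wt t x) (k : Fin n) :
    mt t k k = x k := by
  rw [← act_ee, h k]; simp

theorem Wt.commute {q n : ℕ} {t t' : SU n F q} {x x' : Fin n → F} (h : Wt t x) (h' : Wt t' x') :
    t * t' = t' * t := (h.mul h').ext (h'.mul h) (fun k => mul_comm _ _)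

/-- conjugation by a swap -/
theorem Wt.swap {q n : ℕ} {t t' s : SU n F q} {x x' : Fin n → F} (h : Wt t x) (h' : Wt t' x')
    {a b : Fin n} {c : F} (hsa : act s (ee F a) = ee F b) (hsb : act s (ee F b) = c • ee F a)
    (hs : ∀ k, k ≠ a → k ≠ b → act s (ee F k) = ee F k) (hxa : x' a = x b) (hxb : x' b = x a)
    (hx : ∀ k, k ≠ a → k ≠ b → x' k = x k) : t * s = s * t' := by
  apply act_ext_ee
  intro k
  rw [act_mul, act_mul, h' k, act_smul]
  by_cases hka : k = a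
  · subst hka
    rw [hsa, h b, hxa]
  · by_cases hkb : k = b
    · subst hkb
      rw [hsb, act_smul, h a, hxb, smul_comm]
    · rw [hs k hka hkb, h k, hx k hka hkb]

/-- Elements acting as a scalar on the support commute with the coordinate subgroup. -/
theorem comm_scalar {q n : ℕ} (hF : Fintype.card F = q ^ 2) {S : Finset (Fin n)}
    {y x : SU n F q} {c : F} (hy : ∀ k ∈ S, act y (ee F k) = c • ee F k)
    (hy' : ∀ k, k ∉ S → ∃ c' : F, act y (ee F k) = c' • ee F k) (hx : x ∈ HH F q S) :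
    y * x = x * y := by
  have hyW : ∀ v ∈ WS F S, act y v = c • v := by
    intro v hv
    conv_lhs => rw [sum_ee v]
    conv_rhs => rw [sum_ee v]
    rw [act_sum, Finset.smul_sum]
    refine Finset.sum_congr rfl fun k _ => ?_
    rw [act_smul]
    by_cases hk : k ∈ S
    · rw [hy k hk, smul_comm]
    · rw [hv k hk, zero_smul, zero_smul, smul_zero]
  apply act_ext_ee
  intro k
  rw [act_mul, act_mul]
  by_cases hk : k ∈ S
  · rw [hyW _ (act_mem_WS hF hx (ee_mem_WS hk)), hy k hk, act_smul]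
  · obtain ⟨c', hc'⟩ := hy' k hk
    rw [hx k hk, hc', act_smul, hx k hk]

/-- Elements commuting with a diagonal element preserve the lines with simple weight. -/
theorem line_of_comm {q n : ℕ} {y X : SU n F q} {x : Fin n → F} (h : Wt y x) (hX : X * y = y * X)
    {k : Fin n} (hk : ∀ l, l ≠ k → x l ≠ x k) : act X (ee F k) = mt X k k • ee F k := by
  funext l
  rw [act_ee]
  by_cases hl : l = k
  · subst hl; simp
  · have h1 : mt (X * y) l k = mt (y * X) l k := by rw [hX]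
    rw [mt_mul_dg h.isDg, mt_dg_mul h.isDg, h.entry, h.entry] at h1
    have h2 : (x l - x k) * mt X l k = 0 := by linear_combination -h1
    rw [(mul_eq_zero.1 h2).resolve_left (sub_ne_zero.2 (hk l hl))]
    simp [hl]

theorem fix_of_sq {n : ℕ} (hF : Fintype.card F = 2 ^ 2) {X : SU n F 2} {k : Fin n} {c : F}
    (h : act X (ee F k) = c • ee F k) (hX : X ^ 2 = 1) : act X (ee F k) = ee F k := by
  have h1 : act (X ^ 2) (ee F k) = c ^ 2 • ee F k := by
    rw [pow_two, act_mul, h, act_smul, h, smul_smul, pow_two]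
  rw [hX, act_one] at h1
  have h2 : c ^ 2 = 1 := by
    have := congrFun h1 k
    simpa using this.symm
  rw [h, sq_one hF h2, one_smul]

/-- `SU_3(2)`-subgroups preserving a line fix it. -/
theorem line_char (hF : Fintype.card F = 2 ^ 2) {n m i : ℕ} (hi : i + 3 ≤ n)
    (f : HH F 2 (iv n i 3) →* SU m F 2) {k : Fin m}
    (h : ∀ x, act (f x) (ee F k) = mt (f x) k k • ee F k) (x : HH F 2 (iv n i 3)) :
    act (f x) (ee F k) = ee F k := by
  let χ : SU 3 F 2 →* F :=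
    { toFun := fun g => mt (f ((kap hi hF).symm g)) k k
      map_one' := by
        rw [map_one, map_one, mt_one, Matrix.one_apply_eq]
      map_mul' := fun g g' => by
        obtain ⟨u, hu⟩ : ∃ u, u = f ((kap hi hF).symm g) := ⟨_, rfl⟩
        obtain ⟨v, hv⟩ : ∃ v, v = f ((kap hi hF).symm g') := ⟨_, rfl⟩
        have h1 := h ((kap hi hF).symm g)
        have h2 := h ((kap hi hF).symm g')
        rw [← hu] at h1
        rw [← hv] at h2
        rw [map_mul, map_mul, ← hu, ← hv]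
        have h3 : mt (u * v) k k = act (u * v) (ee F k) k := (act_ee _ _ _).symm
        rw [h3, act_mul, h2, act_smul, h1]
        change mt v k k * (mt u k k * (Pi.single k (1 : F) : Fin m → F) k) = _
        rw [Pi.single_eq_same, mul_one, mul_comm] }
  have hχ : ∀ g, χ g ^ 3 = 1 := by
    intro g
    have h1 : hermForm m F 2 (act (f ((kap hi hF).symm g)) (ee F k))
        (act (f ((kap hi hF).symm g)) (ee F k)) = 1 := by
      rw [act_form, form_ee_ee hF, if_pos rfl]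
    rw [h, hermForm_smul_left, hermForm_smul_right, form_ee_ee hF, if_pos rfl] at h1
    change (mt (f ((kap hi hF).symm g)) k k) ^ 3 = 1
    linear_combination h1
  have h2 := chi_trivial hF χ.toHomUnits (fun g => Units.ext (by
    rw [Units.val_pow_eq_pow_val]
    exact hχ g)) (kap hi hF x)
  have h3 : mt (f ((kap hi hF).symm (kap hi hF x))) k k = 1 :=
    congrArg (fun u : Fˣ => (u : F)) h2
  rw [MulEquiv.symm_apply_apply] at h3
  rw [h, h3, one_smul]

set_option maxHeartbeats 1000000 in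
/-- Agreement on rank one subgroups forces agreement on `SU_3(2)`. -/
theorem ext_of_rank1 (hF : Fintype.card F = 2 ^ 2) {i : ℕ} (hi : i + 3 ≤ 4)
    (ψ : HH F 2 (iv 4 i 3) →* SU 4 F 2) (β : SU 4 F 2 ≃* SU 4 F 2) (h : SU 4 F 2)
    (hβ : ∀ (S : Finset (Fin 4)) g, β g ∈ HH F 2 S ↔ g ∈ HH F 2 S)
    (hR : ∀ x, h⁻¹ * ψ x * h ∈ HH F 2 (iv 4 i 3))
    (h1 : ∀ x ∈ HH F 2 (iv 4 i 2), ∀ hx : x ∈ HH F 2 (iv 4 i 3), h * β x * h⁻¹ = ψ ⟨x, hx⟩)
    (h2 : ∀ x ∈ HH F 2 (iv 4 (i + 1) 2), ∀ hx : x ∈ HH F 2 (iv 4 i 3),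
      h * β x * h⁻¹ = ψ ⟨x, hx⟩) (x : HH F 2 (iv 4 i 3)) : h * β x * h⁻¹ = ψ x := by
  have hβs : ∀ (S : Finset (Fin 4)) g, g ∈ HH F 2 S → β.symm g ∈ HH F 2 S := by
    intro S g hg
    rw [← hβ, MulEquiv.apply_symm_apply]
    exact hg
  obtain ⟨α, hα⟩ : ∃ α : HH F 2 (iv 4 i 3) →* HH F 2 (iv 4 i 3),
      ∀ x, ((α x : HH F 2 (iv 4 i 3)) : SU 4 F 2) = β.symm (h⁻¹ * ψ x * h) := by
    refine ⟨MonoidHom.mk' (fun x => ⟨β.symm (h⁻¹ * ψ x * h), hβs _ _ (hR x)⟩) ?_, fun x => rfl⟩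
    intro x y
    apply Subtype.ext
    change β.symm (h⁻¹ * ψ (x * y) * h) = β.symm (h⁻¹ * ψ x * h) * β.symm (h⁻¹ * ψ y * h)
    rw [← map_mul, map_mul ψ]
    congr 1
    group
  have hfix : ∀ (x : SU 4 F 2) (hx : x ∈ HH F 2 (iv 4 i 3)), h * β x * h⁻¹ = ψ ⟨x, hx⟩ →
      α ⟨x, hx⟩ = ⟨x, hx⟩ := by
    intro x hx hxe
    apply Subtype.ext
    rw [hα, ← hxe]
    change β.symm (h⁻¹ * (h * β x * h⁻¹) * h) = x
    rw [MulEquiv.symm_apply_eq]
    group
  have key := auto_trivial hF (((kap hi hF).toMonoidHom.comp α).comp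
    (kap hi hF).symm.toMonoidHom) (by
      intro g hg
      have hmem : (((kap hi hF).symm g : HH F 2 (iv 4 i 3)) : SU 4 F 2) ∈ HH F 2 (iv 4 i 2) := by
        rw [← kap_mem_iff hi hF _ (T := iv 3 0 2) (S := iv 4 i 2) (by
          intro a; rw [mem_iv, mem_iv]; simp only [ix]; omega), MulEquiv.apply_symm_apply]
        exact hg
      change kap hi hF (α ((kap hi hF).symm g)) = g
      have h3 := hfix _ ((kap hi hF).symm g).2 (h1 _ hmem _)
      rw [show (⟨(((kap hi hF).symm g : HH F 2 (iv 4 i 3)) : SU 4 F 2),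
        ((kap hi hF).symm g).2⟩ : HH F 2 (iv 4 i 3)) = (kap hi hF).symm g from rfl] at h3
      rw [h3, MulEquiv.apply_symm_apply]) (by
      intro g hg
      have hmem : (((kap hi hF).symm g : HH F 2 (iv 4 i 3)) : SU 4 F 2) ∈
          HH F 2 (iv 4 (i + 1) 2) := by
        rw [← kap_mem_iff hi hF _ (T := iv 3 1 2) (S := iv 4 (i + 1) 2) (by
          intro a; rw [mem_iv, mem_iv]; simp only [ix]; omega), MulEquiv.apply_symm_apply]
        exact hg
      change kap hi hF (α ((kap hi hF).symm g)) = g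
      have h3 := hfix _ ((kap hi hF).symm g).2 (h2 _ hmem _)
      rw [show (⟨(((kap hi hF).symm g : HH F 2 (iv 4 i 3)) : SU 4 F 2),
        ((kap hi hF).symm g).2⟩ : HH F 2 (iv 4 i 3)) = (kap hi hF).symm g from rfl] at h3
      rw [h3, MulEquiv.apply_symm_apply]) (kap hi hF x)
  have h4 : kap hi hF (α x) = kap hi hF x := by
    have h5 : (((kap hi hF).toMonoidHom.comp α).comp (kap hi hF).symm.toMonoidHom)
        (kap hi hF x) = kap hi hF (α ((kap hi hF).symm (kap hi hF x))) := rfl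
    rw [h5, MulEquiv.symm_apply_apply] at key
    exact key
  have h5 := (kap hi hF).injective h4
  have h6 := congrArg (fun y : HH F 2 (iv 4 i 3) => β (y : SU 4 F 2)) h5
  simp only [hα, MulEquiv.apply_symm_apply] at h6
  rw [← h6]
  group

/-- swaps -/
theorem exists_swap {n q : ℕ} (hF : Fintype.card F = q ^ 2) {a b : Fin n} (hab : a ≠ b) :
    ∃ s ∈ HH F q ({a, b} : Finset (Fin n)), ∃ c : F, act s (ee F a) = ee F b ∧
      act s (ee F b) = c • ee F a := by
  obtain ⟨s, hs, hsa⟩ := exists_HH1 hF (S := {a, b}) (a := a) (i0 := b) (by simp) (by simp)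
    hab.symm (un_ee hF (i := b) (by simp))
  refine ⟨s, hs, act s (ee F b) a, hsa, ?_⟩
  have h1 := act_mem_WS hF hs (ee_mem_WS (F := F) (S := ({a, b} : Finset (Fin n))) (i := b)
    (by simp))
  have h2 : hermForm n F q (act s (ee F b)) (act s (ee F a)) = 0 := by
    rw [act_form, form_ee_ee hF, if_neg hab.symm]
  rw [hsa, form_ee hF] at h2
  funext k
  by_cases hka : k = a
  · subst hka; simp
  · by_cases hkb : k = b
    · subst hkb; rw [h2]; simp [hka]
    · rw [h1 k (by simp [hka, hkb])]; simp [hka]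

/-- torus elements -/
theorem exists_wt {n : ℕ} {a b : Fin n} (hab : a ≠ b) {l : F} (hl : l ^ (2 + 1) = 1) :
    ∃ t ∈ HH F 2 ({a, b} : Finset (Fin n)),
      Wt t (fun k => if k = a then l else if k = b then l⁻¹ else 1) := by
  obtain ⟨t, ht, htd, hta, htb⟩ := exists_dg (q := 2) hab hl
  refine ⟨t, ht, fun k => ?_⟩
  beta_reduce
  by_cases hka : k = a
  · subst hka
    rw [if_pos rfl]
    exact htd.act_eq hta
  · by_cases hkb : k = b
    · subst hkb
      rw [if_neg hka, if_pos rfl]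
      exact htd.act_eq htb
    · rw [if_neg hka, if_neg hkb, one_smul]
      exact ht k (by simp [hka, hkb])

set_option maxHeartbeats 2000000 in
/-- **Identification**, `q = 2`. -/
theorem complete2 (hF : Fintype.card F = 2 ^ 2)
    (ψ0 : HH F 2 (iv 4 0 3) →* SU 4 F 2) (ψ1 : HH F 2 (iv 4 1 3) →* SU 4 F 2)
    (i0 : Function.Injective ψ0) (i1 : Function.Injective ψ1)
    (hagree : ∀ g (h0 : g ∈ HH F 2 (iv 4 0 3)) (h1 : g ∈ HH F 2 (iv 4 1 3)),
      ψ0 ⟨g, h0⟩ = ψ1 ⟨g, h1⟩)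
    (hcomm : ∀ x ∈ HH F 2 (iv 4 0 2), ∀ (hx : x ∈ HH F 2 (iv 4 0 3)), ∀ y ∈ HH F 2 (iv 4 2 2),
      ∀ (hy : y ∈ HH F 2 (iv 4 1 3)), ψ0 ⟨x, hx⟩ * ψ1 ⟨y, hy⟩ = ψ1 ⟨y, hy⟩ * ψ0 ⟨x, hx⟩) :
    ∃ Φ : SU 4 F 2 →* SU 4 F 2, (∀ x : HH F 2 (iv 4 0 3), Φ x = ψ0 x) ∧
      ∀ x : HH F 2 (iv 4 1 3), Φ x = ψ1 x := by
  classical
  have sub02 : HH F 2 (iv 4 0 2) ≤ HH F 2 (iv 4 0 3) := HH_mono (iv_mono le_rfl (by omega))
  have sub12 : HH F 2 (iv 4 1 2) ≤ HH F 2 (iv 4 0 3) := HH_mono (iv_mono (by omega) (by omega))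
  have sub12' : HH F 2 (iv 4 1 2) ≤ HH F 2 (iv 4 1 3) := HH_mono (iv_mono (by omega) (by omega))
  have sub22 : HH F 2 (iv 4 2 2) ≤ HH F 2 (iv 4 1 3) := HH_mono (iv_mono (by omega) (by omega))
  obtain ⟨w, hw3, hw1, hww⟩ := exists_omega hF
  have hw0 : w ≠ 0 := by rintro rfl; norm_num at hw3
  have hwi : w⁻¹ * w⁻¹ = w := by
    field_simp
    linear_combination -hw3
  obtain ⟨t0, ht0, T0⟩ := exists_wt (show (0 : Fin 4) ≠ 1 by decide) hw3
  obtain ⟨t1, ht1, T1⟩ := exists_wt (show (1 : Fin 4) ≠ 2 by decide) hw3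
  obtain ⟨t2, ht2, T2⟩ := exists_wt (show (2 : Fin 4) ≠ 3 by decide) hw3
  obtain ⟨s0, hs0, c0, s0a, s0b⟩ := exists_swap (q := 2) hF (show (0 : Fin 4) ≠ 1 by decide)
  obtain ⟨s1, hs1, c1, s1a, s1b⟩ := exists_swap (q := 2) hF (show (1 : Fin 4) ≠ 2 by decide)
  obtain ⟨s2, hs2, c2, s2a, s2b⟩ := exists_swap (q := 2) hF (show (2 : Fin 4) ≠ 3 by decide)
  have s0f : ∀ k, k ≠ 0 → k ≠ 1 → act s0 (ee F k) = ee F k := fun k h1 h2 =>
    hs0 k (by simp [h1, h2])
  have s1f : ∀ k, k ≠ 1 → k ≠ 2 → act s1 (ee F k) = ee F k := fun k h1 h2 =>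
    hs1 k (by simp [h1, h2])
  have s2f : ∀ k, k ≠ 2 → k ≠ 3 → act s2 (ee F k) = ee F k := fun k h1 h2 =>
    hs2 k (by simp [h1, h2])
  rw [← iv402] at ht0 hs0
  rw [← iv412] at ht1 hs1
  rw [← iv422] at ht2 hs2
  have hne : ∀ (k a b : Fin 4), (if k = a then w else if k = b then w⁻¹ else (1 : F)) ≠ 0 := by
    intro k a b
    split_ifs
    · exact hw0
    · exact inv_ne_zero hw0
    · exact one_ne_zero
  -- relations in `SU_4`
  have r00 : t0 * s0 = s0 * t0⁻¹ := T0.swap (T0.inv (fun k => hne k 0 1)) s0a s0b s0f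
    (by simp) (by simp) (by intro k h1 h2; simp [h1, h2])
  have r10 : t1 * s0 = s0 * (t0 * t1) := T1.swap (T0.mul T1) s0a s0b s0f
    (by simp) (by simp [hw0]) (by intro k h1 h2; simp [h1, h2])
  have r01 : t0 * s1 = s1 * (t0 * t1) := T0.swap (T0.mul T1) s1a s1b s1f
    (by simp [hw0]) (by simp) (by intro k h1 h2; simp [h1, h2])
  have r11 : t1 * s1 = s1 * t1⁻¹ := T1.swap (T1.inv (fun k => hne k 1 2)) s1a s1b s1f
    (by simp) (by simp) (by intro k h1 h2; simp [h1, h2])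
  have r21 : t2 * s1 = s1 * (t1 * t2) := T2.swap (T1.mul T2) s1a s1b s1f
    (by simp) (by simp [hw0]) (by intro k h1 h2; simp [h1, h2])
  have r12 : t1 * s2 = s2 * (t1 * t2) := T1.swap (T1.mul T2) s2a s2b s2f
    (by simp [hw0]) (by simp) (by intro k h1 h2; simp [h1, h2])
  have r22 : t2 * s2 = s2 * t2⁻¹ := T2.swap (T2.inv (fun k => hne k 2 3)) s2a s2b s2f
    (by simp) (by simp) (by intro k h1 h2; simp [h1, h2])
  have hcube : ∀ {t : SU 4 F 2} {x : Fin 4 → F}, Wt t x → (∀ k, x k ^ 3 = 1) → t ^ 3 = 1 := by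
    intro t x h hx
    apply act_ext_ee
    intro k
    rw [pow_succ, pow_two, act_mul, act_mul, h k, act_smul, act_smul, h k, act_smul, h k,
      act_one, smul_smul, smul_smul]
    have : x k * x k * x k = 1 := by rw [← hx k]; ring
    rw [this, one_smul]
  have hwc : ∀ (k a b : Fin 4), (if k = a then w else if k = b then w⁻¹ else (1 : F)) ^ 3 = 1 := by
    intro k a b
    split_ifs
    · exact hw3
    · rw [inv_pow, hw3, inv_one]
    · exact one_pow 3
  -- images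
  obtain ⟨A, hA⟩ : ∃ A, A = ψ0 ⟨t0, sub02 ht0⟩ := ⟨_, rfl⟩
  obtain ⟨B, hB⟩ : ∃ B, B = ψ0 ⟨t1, sub12 ht1⟩ := ⟨_, rfl⟩
  obtain ⟨C, hC⟩ : ∃ C, C = ψ1 ⟨t2, sub22 ht2⟩ := ⟨_, rfl⟩
  obtain ⟨S, hS⟩ : ∃ S, S = ψ0 ⟨s0, sub02 hs0⟩ := ⟨_, rfl⟩
  obtain ⟨T, hT⟩ : ∃ T, T = ψ0 ⟨s1, sub12 hs1⟩ := ⟨_, rfl⟩
  obtain ⟨U, hU⟩ : ∃ U, U = ψ1 ⟨s2, sub22 hs2⟩ := ⟨_, rfl⟩
  have hB' : B = ψ1 ⟨t1, sub12' ht1⟩ := by rw [hB, hagree]
  have hT' : T = ψ1 ⟨s1, sub12' hs1⟩ := by rw [hT, hagree]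
  have mA : A ^ 3 = 1 := by
    rw [hA, ← map_pow, ← map_one ψ0]
    congr 1
    exact Subtype.ext (hcube T0 (fun k => hwc k 0 1))
  have mB : B ^ 3 = 1 := by
    rw [hB, ← map_pow, ← map_one ψ0]
    congr 1
    exact Subtype.ext (hcube T1 (fun k => hwc k 1 2))
  have mC : C ^ 3 = 1 := by
    rw [hC, ← map_pow, ← map_one ψ1]
    congr 1
    exact Subtype.ext (hcube T2 (fun k => hwc k 2 3))
  have mAB : A * B = B * A := by
    rw [hA, hB, ← map_mul, ← map_mul]
    congr 1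
    exact Subtype.ext (T0.commute T1)
  have mAC : A * C = C * A := by rw [hA, hC]; exact hcomm _ ht0 _ _ ht2 _
  have mBC : B * C = C * B := by
    rw [hB', hC, ← map_mul, ← map_mul]
    congr 1
    exact Subtype.ext (T1.commute T2)
  have mA1 : A ≠ 1 := by
    intro h
    rw [hA, ← map_one ψ0] at h
    have h1 := congrArg Subtype.val (i0 h)
    change t0 = 1 at h1
    have h2 : act t0 (ee F 0) = w • ee F 0 := T0 0
    rw [h1, act_one] at h2
    have h3 := congrFun h2 0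
    apply hw1
    simpa using h3.symm
  obtain ⟨l, h, hl3, hl1, ⟨a0, a1, a2, a3⟩, ⟨b0, b1, b2, b3⟩, ⟨d0, d1, d2, d3⟩⟩ :=
    exists_torus_frame hF mA mB mC mAB mAC mBC mA1 (s := S) (t := T) (u := U)
      (by
        rw [hA, hS, ← map_inv, ← map_mul, ← map_mul]
        congr 1
        exact Subtype.ext r00)
      (by
        rw [hA, hB, hS, ← map_mul, ← map_mul, ← map_mul]
        congr 1
        exact Subtype.ext r10)
      (by rw [hC, hS]; exact (hcomm _ hs0 _ _ ht2 _).symm)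
      (by
        rw [hA, hB, hT, ← map_mul, ← map_mul, ← map_mul]
        congr 1
        exact Subtype.ext r01)
      (by
        rw [hB, hT, ← map_inv, ← map_mul, ← map_mul]
        congr 1
        exact Subtype.ext r11)
      (by
        rw [hB', hC, hT', ← map_mul, ← map_mul, ← map_mul]
        congr 1
        exact Subtype.ext r21)
      (by rw [hA, hU]; exact hcomm _ ht0 _ _ hs2 _)
      (by
        rw [hB', hC, hU, ← map_mul, ← map_mul, ← map_mul]
        congr 1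
        exact Subtype.ext r12)
      (by
        rw [hC, hU, ← map_inv, ← map_mul, ← map_mul]
        congr 1
        exact Subtype.ext r22)
  have hl0 : l ≠ 0 := by rintro rfl; norm_num at hl3
  have hli : l⁻¹ * l⁻¹ = l := by
    field_simp
    linear_combination -hl3
  have hli1 : l⁻¹ ≠ 1 := fun h => hl1 (by rw [← inv_inv l, h, inv_one])
  have hlil : l⁻¹ ≠ l := by
    intro h
    rw [h] at hli
    have : l * (l - 1) = 0 := by linear_combination hli
    exact hl1 (sub_eq_zero.1 ((mul_eq_zero.1 this).resolve_left hl0))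
  -- conjugated homomorphisms
  obtain ⟨f0, hf0⟩ : ∃ f0 : HH F 2 (iv 4 0 3) →* SU 4 F 2, ∀ x, f0 x = h⁻¹ * ψ0 x * h := by
    refine ⟨(MulAut.conj h⁻¹).toMonoidHom.comp ψ0, fun x => ?_⟩
    change h⁻¹ * ψ0 x * h⁻¹⁻¹ = _
    rw [inv_inv]
  obtain ⟨f1, hf1⟩ : ∃ f1 : HH F 2 (iv 4 1 3) →* SU 4 F 2, ∀ x, f1 x = h⁻¹ * ψ1 x * h := by
    refine ⟨(MulAut.conj h⁻¹).toMonoidHom.comp ψ1, fun x => ?_⟩
    change h⁻¹ * ψ1 x * h⁻¹⁻¹ = _
    rw [inv_inv]
  -- weights of the conjugates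
  have WA : Wt (h⁻¹ * A * h) (fun k => if k = 0 then l else if k = 1 then l⁻¹ else 1) := by
    intro k
    fin_cases k
    · exact a0
    · exact a1
    · exact a2.trans (one_smul F _).symm
    · exact a3.trans (one_smul F _).symm
  have WB : Wt (h⁻¹ * B * h) (fun k => if k = 1 then l else if k = 2 then l⁻¹ else 1) := by
    intro k
    fin_cases k
    · exact b0.trans (one_smul F _).symm
    · exact b1
    · exact b2
    · exact b3.trans (one_smul F _).symm
  have WC : Wt (h⁻¹ * C * h) (fun k => if k = 2 then l else if k = 3 then l⁻¹ else 1) := by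
    intro k
    fin_cases k
    · exact d0.trans (one_smul F _).symm
    · exact d1.trans (one_smul F _).symm
    · exact d2
    · exact d3
  have hne' : ∀ (k a b : Fin 4), (if k = a then l else if k = b then l⁻¹ else (1 : F)) ≠ 0 := by
    intro k a b
    split_ifs
    · exact hl0
    · exact inv_ne_zero hl0
    · exact one_ne_zero
  have WZ0 := WA.mul (WB.inv (fun k => hne' k 1 2))
  have WZ1 := WB.mul (WC.inv (fun k => hne' k 2 3))
  -- the central elements
  have hz0 : ∀ x : HH F 2 (iv 4 0 3), f0 x * ((h⁻¹ * A * h) * (h⁻¹ * B * h)⁻¹) =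
      ((h⁻¹ * A * h) * (h⁻¹ * B * h)⁻¹) * f0 x := by
    intro x
    have e1 : (h⁻¹ * A * h) * (h⁻¹ * B * h)⁻¹ =
        f0 (⟨t0, sub02 ht0⟩ * (⟨t1, sub12 ht1⟩)⁻¹) := by
      rw [hf0, map_mul, map_inv, ← hA, ← hB]; group
    rw [e1, ← map_mul, ← map_mul]
    congr 1
    apply Subtype.ext
    refine (comm_scalar hF (S := iv 4 0 3) (c := w) (y := t0 * t1⁻¹) ?_ ?_ x.2).symm
    · intro k hk
      rw [(T0.mul (T1.inv (fun k => hne k 1 2))) k]
      congr 1
      fin_cases k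
      · simp
      · change w⁻¹ * w⁻¹ = w; exact hwi
      · change 1 * (w⁻¹)⁻¹ = w; rw [inv_inv, one_mul]
      · exact absurd hk (by decide)
    · intro k _
      exact ⟨_, (T0.mul (T1.inv (fun k => hne k 1 2))) k⟩
  have hz1 : ∀ x : HH F 2 (iv 4 1 3), f1 x * ((h⁻¹ * B * h) * (h⁻¹ * C * h)⁻¹) =
      ((h⁻¹ * B * h) * (h⁻¹ * C * h)⁻¹) * f1 x := by
    intro x
    have e1 : (h⁻¹ * B * h) * (h⁻¹ * C * h)⁻¹ =
        f1 (⟨t1, sub12' ht1⟩ * (⟨t2, sub22 ht2⟩)⁻¹) := by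
      rw [hf1, map_mul, map_inv, ← hB', ← hC]; group
    rw [e1, ← map_mul, ← map_mul]
    congr 1
    apply Subtype.ext
    refine (comm_scalar hF (S := iv 4 1 3) (c := w) (y := t1 * t2⁻¹) ?_ ?_ x.2).symm
    · intro k hk
      rw [(T1.mul (T2.inv (fun k => hne k 2 3))) k]
      congr 1
      fin_cases k
      · exact absurd hk (by decide)
      · simp
      · change w⁻¹ * w⁻¹ = w; exact hwi
      · change 1 * (w⁻¹)⁻¹ = w; rw [inv_inv, one_mul]
    · intro k _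
      exact ⟨_, (T1.mul (T2.inv (fun k => hne k 2 3))) k⟩
  -- the images of the two `SU_3`
  have hV0 : ∀ x, f0 x ∈ HH F 2 (iv 4 0 3) := by
    intro x
    have h1 : ∀ x, act (f0 x) (ee F 3) = mt (f0 x) 3 3 • ee F 3 := by
      intro x
      refine line_of_comm WZ0 (hz0 x) ?_
      intro k hk
      fin_cases k
      · change l * 1⁻¹ ≠ 1 * 1⁻¹
        rw [inv_one, mul_one, mul_one]; exact hl1
      · change l⁻¹ * l⁻¹ ≠ 1 * 1⁻¹
        rw [inv_one, mul_one, hli]; exact hl1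
      · change 1 * (l⁻¹)⁻¹ ≠ 1 * 1⁻¹
        rw [inv_one, mul_one, inv_inv, one_mul]; exact hl1
      · exact absurd rfl hk
    intro k hk
    fin_cases k
    · exact absurd (by decide) hk
    · exact absurd (by decide) hk
    · exact absurd (by decide) hk
    · exact line_char hF (by omega) f0 h1 x
  have hV1 : ∀ x, f1 x ∈ HH F 2 (iv 4 1 3) := by
    intro x
    have h1 : ∀ x, act (f1 x) (ee F 0) = mt (f1 x) 0 0 • ee F 0 := by
      intro x
      refine line_of_comm WZ1 (hz1 x) ?_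
      intro k hk
      fin_cases k
      · exact absurd rfl hk
      · change l * 1⁻¹ ≠ 1 * 1⁻¹
        rw [inv_one, mul_one, mul_one]; exact hl1
      · change l⁻¹ * l⁻¹ ≠ 1 * 1⁻¹
        rw [inv_one, mul_one, hli]; exact hl1
      · change 1 * (l⁻¹)⁻¹ ≠ 1 * 1⁻¹
        rw [inv_one, mul_one, inv_inv, one_mul]; exact hl1
    intro k hk
    fin_cases k
    · exact line_char hF (by omega) f1 h1 x
    · exact absurd (by decide) hk
    · exact absurd (by decide) hk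
    · exact absurd (by decide) hk
  -- rank one
  have hU0 : ∀ x : HH F 2 (iv 4 0 2), f0 ⟨x, sub02 x.2⟩ ∈ HH F 2 (iv 4 0 2) := by
    refine HH_two_ind hF (by omega) (fun x : HH F 2 (iv 4 0 2) =>
      f0 ⟨x, sub02 x.2⟩ ∈ HH F 2 (iv 4 0 2)) ?_ ?_
    · intro s hs
      have h1 : f0 ⟨s, sub02 s.2⟩ ^ 2 = 1 := by
        rw [← map_pow, ← map_one f0]
        congr 1
        have h0 := congrArg Subtype.val hs
        exact Subtype.ext h0
      have h2 : f0 ⟨s, sub02 s.2⟩ * (h⁻¹ * C * h) = (h⁻¹ * C * h) * f0 ⟨s, sub02 s.2⟩ := by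
        rw [hf0]
        have h3 : ψ0 ⟨s, sub02 s.2⟩ * C = C * ψ0 ⟨s, sub02 s.2⟩ := by
          rw [hC]; exact hcomm _ s.2 _ _ ht2 _
        calc h⁻¹ * ψ0 ⟨s, sub02 s.2⟩ * h * (h⁻¹ * C * h) = h⁻¹ * (ψ0 ⟨s, sub02 s.2⟩ * C) * h := by
              group
          _ = h⁻¹ * (C * ψ0 ⟨s, sub02 s.2⟩) * h := by rw [h3]
          _ = _ := by group
      intro k hk
      fin_cases k
      · exact absurd (by decide) hk
      · exact absurd (by decide) hk
      · refine fix_of_sq hF (line_of_comm WC h2 ?_) h1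
        intro k hk
        fin_cases k
        · change (1 : F) ≠ l; exact hl1.symm
        · change (1 : F) ≠ l; exact hl1.symm
        · exact absurd rfl hk
        · exact hlil
      · exact hV0 _ 3 (by decide)
    · intro a b ha hb
      have : f0 ⟨(a * b : HH F 2 (iv 4 0 2)), sub02 (a * b).2⟩ =
          f0 ⟨a, sub02 a.2⟩ * f0 ⟨b, sub02 b.2⟩ := by
        rw [← map_mul]; rfl
      rw [this]
      exact mul_mem ha hb
  have hU2 : ∀ x : HH F 2 (iv 4 2 2), f1 ⟨x, sub22 x.2⟩ ∈ HH F 2 (iv 4 2 2) := by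
    refine HH_two_ind hF (by omega) (fun x : HH F 2 (iv 4 2 2) =>
      f1 ⟨x, sub22 x.2⟩ ∈ HH F 2 (iv 4 2 2)) ?_ ?_
    · intro s hs
      have h1 : f1 ⟨s, sub22 s.2⟩ ^ 2 = 1 := by
        rw [← map_pow, ← map_one f1]
        congr 1
        have h0 := congrArg Subtype.val hs
        exact Subtype.ext h0
      have h2 : f1 ⟨s, sub22 s.2⟩ * (h⁻¹ * A * h) = (h⁻¹ * A * h) * f1 ⟨s, sub22 s.2⟩ := by
        rw [hf1]
        have h3 : ψ1 ⟨s, sub22 s.2⟩ * A = A * ψ1 ⟨s, sub22 s.2⟩ := by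
          rw [hA]; exact (hcomm _ ht0 _ _ s.2 _).symm
        calc h⁻¹ * ψ1 ⟨s, sub22 s.2⟩ * h * (h⁻¹ * A * h) = h⁻¹ * (ψ1 ⟨s, sub22 s.2⟩ * A) * h := by
              group
          _ = h⁻¹ * (A * ψ1 ⟨s, sub22 s.2⟩) * h := by rw [h3]
          _ = _ := by group
      intro k hk
      fin_cases k
      · exact hV1 _ 0 (by decide)
      · refine fix_of_sq hF (line_of_comm WA h2 ?_) h1
        intro k hk
        fin_cases k
        · exact hlil.symm
        · exact absurd rfl hk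
        · change (1 : F) ≠ l⁻¹; exact hli1.symm
        · change (1 : F) ≠ l⁻¹; exact hli1.symm
      · exact absurd (by decide) hk
      · exact absurd (by decide) hk
    · intro a b ha hb
      have : f1 ⟨(a * b : HH F 2 (iv 4 2 2)), sub22 (a * b).2⟩ =
          f1 ⟨a, sub22 a.2⟩ * f1 ⟨b, sub22 b.2⟩ := by
        rw [← map_mul]; rfl
      rw [this]
      exact mul_mem ha hb
  have hU1 : ∀ x : HH F 2 (iv 4 1 2), f0 ⟨x, sub12 x.2⟩ ∈ HH F 2 (iv 4 1 2) := by
    intro x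
    have h1 : f0 ⟨x, sub12 x.2⟩ = f1 ⟨x, sub12' x.2⟩ := by rw [hf0, hf1, hagree]
    intro k hk
    fin_cases k
    · rw [h1]; exact hV1 _ 0 (by decide)
    · exact absurd (by decide) hk
    · exact absurd (by decide) hk
    · exact hV0 _ 3 (by decide)
  -- comparison
  obtain ⟨γ, hγ⟩ : ∃ γ : SU 4 F 2 →* SU 4 F 2, ∀ x, γ x = h * x * h⁻¹ :=
    ⟨(MulAut.conj h).toMonoidHom, fun _ => rfl⟩
  have hγf0 : ∀ x, γ (f0 x) = ψ0 x := by
    intro x; rw [hγ, hf0]; group
  have hγf1 : ∀ x, γ (f1 x) = ψ1 x := by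
    intro x; rw [hγ, hf1]; group
  obtain ⟨E, hE0, hE1, hE2⟩ : ∃ E : ∀ j : ℕ, HH F 2 (iv 4 j 2) →* SU 4 F 2,
      (∀ x : HH F 2 (iv 4 0 2), E 0 x = ψ0 ⟨x, sub02 x.2⟩) ∧
      (∀ x : HH F 2 (iv 4 1 2), E 1 x = ψ0 ⟨x, sub12 x.2⟩) ∧
      (∀ x : HH F 2 (iv 4 2 2), E 2 x = ψ1 ⟨x, sub22 x.2⟩) := by
    refine ⟨fun j => match j with
      | 0 => ψ0.comp (Subgroup.inclusion sub02)
      | 1 => ψ0.comp (Subgroup.inclusion sub12)
      | 2 => ψ1.comp (Subgroup.inclusion sub22)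
      | (k + 3) => 1, fun x => rfl, fun x => rfl, fun x => rfl⟩
  have hE1' : ∀ x : HH F 2 (iv 4 1 2), E 1 x = ψ1 ⟨x, sub12' x.2⟩ := by
    intro x; rw [hE1, hagree]
  have hinj : ∀ j, j + 2 ≤ 4 → Function.Injective (E j) := by
    intro j hj x y hxy
    have h3 : j = 0 ∨ j = 1 ∨ j = 2 := by omega
    rcases h3 with rfl | rfl | rfl
    · rw [hE0, hE0] at hxy
      have h5 := congrArg Subtype.val (i0 hxy)
      exact Subtype.ext h5
    · rw [hE1, hE1] at hxy
      have h5 := congrArg Subtype.val (i0 hxy)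
      exact Subtype.ext h5
    · rw [hE2, hE2] at hxy
      have h5 := congrArg Subtype.val (i1 hxy)
      exact Subtype.ext h5
  have hle : ∀ j, j + 2 ≤ 4 → ∀ x, ∃ s ∈ HH F 2 (iv 4 j 2), γ s = E j x := by
    intro j hj x
    have h3 : j = 0 ∨ j = 1 ∨ j = 2 := by omega
    rcases h3 with rfl | rfl | rfl
    · exact ⟨_, hU0 x, by rw [hγf0, hE0]⟩
    · exact ⟨_, hU1 x, by rw [hγf0, hE1]⟩
    · exact ⟨_, hU2 x, by rw [hγf1, hE2]⟩
  obtain ⟨β, hβ, hβE⟩ := compare hF (Or.inl rfl) γ (by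
      intro x hx
      rw [hγ, mul_inv_eq_one, mul_eq_left] at hx
      exact ⟨1, fun v => by rw [hx, act_one, one_smul]⟩) E hinj (by
      intro j hj y
      have h3 := range_eq_of_le (f := E j) (g := γ.comp (HH F 2 (iv 4 j 2)).subtype)
        (hinj j hj) (by
          rintro _ ⟨x, rfl⟩
          obtain ⟨s, hs, hs'⟩ := hle j hj x
          exact ⟨⟨s, hs⟩, hs'⟩)
      constructor
      · rintro ⟨x, rfl⟩
        exact hle j hj x
      · rintro ⟨x, hx, rfl⟩
        have h4 : γ x ∈ (γ.comp (HH F 2 (iv 4 j 2)).subtype).range := ⟨⟨x, hx⟩, rfl⟩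
        rw [← h3] at h4
        exact h4) (by
      intro j j' hj hj' hjj t x x' ht hx'
      have h3 : (j = 0 ∧ j' = 1) ∨ (j = 1 ∧ j' = 0) ∨ (j = 1 ∧ j' = 2) ∨ (j = 2 ∧ j' = 1) := by
        omega
      rcases h3 with ⟨rfl, rfl⟩ | ⟨rfl, rfl⟩ | ⟨rfl, rfl⟩ | ⟨rfl, rfl⟩
      · rw [hE0, hE1, hE1, ← map_inv, ← map_mul, ← map_mul]
        congr 1
        exact Subtype.ext hx'
      · rw [hE0, hE0, hE1, ← map_inv, ← map_mul, ← map_mul]
        congr 1
        exact Subtype.ext hx'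
      · rw [hE2, hE2, hE1', ← map_inv, ← map_mul, ← map_mul]
        congr 1
        exact Subtype.ext hx'
      · rw [hE2, hE1', hE1', ← map_inv, ← map_mul, ← map_mul]
        congr 1
        exact Subtype.ext hx')
  refine ⟨γ.comp β.toMonoidHom, ?_, ?_⟩
  · intro x
    change γ (β x) = ψ0 x
    rw [hγ]
    refine ext_of_rank1 hF (i := 0) (by omega) ψ0 β h hβ (fun x => ?_) ?_ ?_ x
    · rw [← hf0]; exact hV0 x
    · intro x hx hx'
      rw [← hγ]
      exact (hβE 0 (by omega) ⟨x, hx⟩).trans (hE0 _)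
    · intro x hx hx'
      rw [← hγ]
      exact (hβE 1 (by omega) ⟨x, hx⟩).trans (hE1 _)
  · intro x
    change γ (β x) = ψ1 x
    rw [hγ]
    refine ext_of_rank1 hF (i := 1) (by omega) ψ1 β h hβ (fun x => ?_) ?_ ?_ x
    · rw [← hf1]; exact hV1 x
    · intro x hx hx'
      rw [← hγ]
      exact (hβE 1 (by omega) ⟨x, hx⟩).trans (hE1' _)
    · intro x hx hx'
      rw [← hγ]
      exact (hβE 2 (by omega) ⟨x, hx⟩).trans (hE2 _)

end Cfsg.Agent.Phan
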