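import Cfsg.Agent.Phan.Two3

/-!
# Rank three intervals, `q = 2`
-/

set_option autoImplicit false
set_option linter.unusedSectionVars false
set_option linter.unusedSimpArgs false

namespace Cfsg.Agent.Phan

open Cfsg.Agent.Uni Module Matrix

variable {F : Type*} [Field F] [Fintype F]

set_option maxHeartbeats 1000000 in
/-- The central quotient `PSU_3(2)` does not occur. -/
theorem inj_pair {G : Type*} [Group G] (hF : Fintype.card F = 2 ^ 2)
    (ψ0 : HH F 2 (iv 4 0 3) →* G) (ψ1 : HH F 2 (iv 4 1 3) →* G)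
    (k0 : ∀ x, ψ0 x = 1 → ∃ ζ : F, ∀ k ∈ iv 4 0 3, act (x : SU 4 F 2) (ee F k) = ζ • ee F k)
    (k1 : ∀ x, ψ1 x = 1 → ∃ ζ : F, ∀ k ∈ iv 4 1 3, act (x : SU 4 F 2) (ee F k) = ζ • ee F k)
    (hagree : ∀ g (h0 : g ∈ HH F 2 (iv 4 0 3)) (h1 : g ∈ HH F 2 (iv 4 1 3)),
      ψ0 ⟨g, h0⟩ = ψ1 ⟨g, h1⟩)
    (hcomm : ∀ x ∈ HH F 2 (iv 4 0 2), ∀ (hx : x ∈ HH F 2 (iv 4 0 3)), ∀ y ∈ HH F 2 (iv 4 2 2),
      ∀ (hy : y ∈ HH F 2 (iv 4 1 3)), ψ0 ⟨x, hx⟩ * ψ1 ⟨y, hy⟩ = ψ1 ⟨y, hy⟩ * ψ0 ⟨x, hx⟩) :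
    Function.Injective ψ0 ∧ Function.Injective ψ1 := by
  classical
  have sub02 : HH F 2 (iv 4 0 2) ≤ HH F 2 (iv 4 0 3) := HH_mono (iv_mono le_rfl (by omega))
  have sub12 : HH F 2 (iv 4 1 2) ≤ HH F 2 (iv 4 0 3) := HH_mono (iv_mono (by omega) (by omega))
  have sub12' : HH F 2 (iv 4 1 2) ≤ HH F 2 (iv 4 1 3) := HH_mono (iv_mono (by omega) (by omega))
  have sub22 : HH F 2 (iv 4 2 2) ≤ HH F 2 (iv 4 1 3) := HH_mono (iv_mono (by omega) (by omega))
  -- injectivity on rank one subgroups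
  have j0 : ∀ x (hx : x ∈ HH F 2 (iv 4 0 2)), ψ0 ⟨x, sub02 hx⟩ = 1 → x = 1 := by
    intro x hx h1
    obtain ⟨ζ, hζ⟩ := k0 _ h1
    have h2 := hζ 2 (by decide)
    change act x (ee F 2) = _ at h2
    rw [hx 2 (by decide)] at h2
    have h3 : ζ = 1 := by
      have := congrFun h2 2
      simpa using this.symm
    apply act_ext_ee
    intro k
    rw [act_one]
    by_cases hk : k ∈ iv 4 0 3
    · have := hζ k hk
      rw [h3, one_smul] at this
      exact this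
    · exact sub02 hx k hk
  have j1 : ∀ x (hx : x ∈ HH F 2 (iv 4 2 2)), ψ1 ⟨x, sub22 hx⟩ = 1 → x = 1 := by
    intro x hx h1
    obtain ⟨ζ, hζ⟩ := k1 _ h1
    have h2 := hζ 1 (by decide)
    change act x (ee F 1) = _ at h2
    rw [hx 1 (by decide)] at h2
    have h3 : ζ = 1 := by
      have := congrFun h2 1
      simpa using this.symm
    apply act_ext_ee
    intro k
    rw [act_one]
    by_cases hk : k ∈ iv 4 1 3
    · have := hζ k hk
      rw [h3, one_smul] at this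
      exact this
    · exact sub22 hx k hk
  -- a general fact on elements acting as scalars
  have hsc : ∀ (S : Finset (Fin 4)) (x : SU 4 F 2) (ζ : F), S.Nonempty → x ∈ HH F 2 S →
      (∀ k ∈ S, act x (ee F k) = ζ • ee F k) → ζ ^ 3 = 1 := by
    rintro S x ζ ⟨k, hk⟩ - h
    apply cube_of_ne_zero hF
    rintro rfl
    have := h k hk
    rw [zero_smul] at this
    exact act_ne_zero (un_ee hF (Finset.mem_univ k)).ne_zero this
  obtain ⟨i0, i1⟩ : Function.Injective ψ0 ∧ Function.Injective ψ1 := by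
    refine ⟨(injective_iff_map_eq_one ψ0).2 ?_, (injective_iff_map_eq_one ψ1).2 ?_⟩
    · intro x hx
      obtain ⟨ζ, hζ⟩ := k0 x hx
      have hζ3 := hsc _ _ _ ⟨0, by decide⟩ x.2 hζ
      by_cases hζ1 : ζ = 1
      · apply Subtype.ext
        apply act_ext_ee
        intro k
        rw [Subgroup.coe_one, act_one]
        by_cases hk : k ∈ iv 4 0 3
        · rw [hζ k hk, hζ1, one_smul]
        · exact x.2 k hk
      exfalso
      have hζ0 : ζ ≠ 0 := by rintro rfl; norm_num at hζ3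
      have hζi : ζ⁻¹ * ζ⁻¹ = ζ := by
        field_simp
        linear_combination -hζ3
      obtain ⟨t0, ht0, T0⟩ := exists_wt (show (0 : Fin 4) ≠ 1 by decide) hζ3
      obtain ⟨t1, ht1, T1⟩ := exists_wt (show (1 : Fin 4) ≠ 2 by decide) hζ3
      obtain ⟨t2, ht2, T2⟩ := exists_wt (show (2 : Fin 4) ≠ 3 by decide) hζ3
      obtain ⟨s2, hs2, c2, s2a, s2b⟩ := exists_swap (q := 2) hF (show (2 : Fin 4) ≠ 3 by decide)
      have s2f : ∀ k, k ≠ 2 → k ≠ 3 → act s2 (ee F k) = ee F k := fun k h1 h2 =>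
        hs2 k (by simp [h1, h2])
      rw [← iv402] at ht0
      rw [← iv412] at ht1
      rw [← iv422] at ht2 hs2
      have hne : ∀ (k a b : Fin 4), (if k = a then ζ else if k = b then ζ⁻¹ else (1 : F)) ≠ 0 := by
        intro k a b
        split_ifs
        · exact hζ0
        · exact inv_ne_zero hζ0
        · exact one_ne_zero
      have r12 : t1 * s2 = s2 * (t1 * t2) := T1.swap (T1.mul T2) s2a s2b s2f
        (by simp [hζ0]) (by simp) (by intro k h1 h2; simp [h1, h2])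
      have hx' : (x : SU 4 F 2) = t0 * t1⁻¹ := by
        apply act_ext_ee
        intro k
        rw [(T0.mul (T1.inv (fun k => hne k 1 2))) k]
        fin_cases k
        · rw [hζ _ (by decide)]; congr 1; simp
        · rw [hζ _ (by decide)]
          change ζ • ee F 1 = (ζ⁻¹ * ζ⁻¹) • ee F 1
          rw [hζi]
        · rw [hζ _ (by decide)]
          change ζ • ee F 2 = (1 * (ζ⁻¹)⁻¹) • ee F 2
          rw [inv_inv, one_mul]
        · rw [x.2 _ (by decide)]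
          change ee F 3 = (1 * (1 : F)⁻¹) • ee F 3
          rw [inv_one, mul_one, one_smul]
      have e1 : ψ0 ⟨t0, sub02 ht0⟩ = ψ0 ⟨t1, sub12 ht1⟩ := by
        have h1 : x = ⟨t0, sub02 ht0⟩ * (⟨t1, sub12 ht1⟩)⁻¹ := Subtype.ext hx'
        rw [h1, map_mul, map_inv, mul_inv_eq_one] at hx
        exact hx
      have e2 := hcomm t0 ht0 (sub02 ht0) s2 hs2 (sub22 hs2)
      rw [e1, hagree t1 (sub12 ht1) (sub12' ht1)] at e2
      have e3 : ψ1 (⟨t1, sub12' ht1⟩ * ⟨s2, sub22 hs2⟩) =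
          ψ1 (⟨s2, sub22 hs2⟩ * (⟨t1, sub12' ht1⟩ * ⟨t2, sub22 ht2⟩)) := by
        congr 1
        exact Subtype.ext r12
      rw [map_mul, map_mul, map_mul, e2, ← mul_assoc] at e3
      have e4 : ψ1 ⟨t2, sub22 ht2⟩ = 1 := by
        rw [eq_comm, mul_eq_left] at e3
        exact e3
      have e5 := j1 t2 ht2 e4
      have h2 : act t2 (ee F 2) = ζ • ee F 2 := T2 2
      rw [e5, act_one] at h2
      apply hζ1
      have := congrFun h2 2
      simpa using this.symm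
    · intro x hx
      obtain ⟨ζ, hζ⟩ := k1 x hx
      have hζ3 := hsc _ _ _ ⟨1, by decide⟩ x.2 hζ
      by_cases hζ1 : ζ = 1
      · apply Subtype.ext
        apply act_ext_ee
        intro k
        rw [Subgroup.coe_one, act_one]
        by_cases hk : k ∈ iv 4 1 3
        · rw [hζ k hk, hζ1, one_smul]
        · exact x.2 k hk
      exfalso
      have hζ0 : ζ ≠ 0 := by rintro rfl; norm_num at hζ3
      have hζi : ζ⁻¹ * ζ⁻¹ = ζ := by
        field_simp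
        linear_combination -hζ3
      obtain ⟨t0, ht0, T0⟩ := exists_wt (show (0 : Fin 4) ≠ 1 by decide) hζ3
      obtain ⟨t1, ht1, T1⟩ := exists_wt (show (1 : Fin 4) ≠ 2 by decide) hζ3
      obtain ⟨t2, ht2, T2⟩ := exists_wt (show (2 : Fin 4) ≠ 3 by decide) hζ3
      obtain ⟨s0, hs0, c0, s0a, s0b⟩ := exists_swap (q := 2) hF (show (0 : Fin 4) ≠ 1 by decide)
      have s0f : ∀ k, k ≠ 0 → k ≠ 1 → act s0 (ee F k) = ee F k := fun k h1 h2 =>
        hs0 k (by simp [h1, h2])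
      rw [← iv402] at ht0 hs0
      rw [← iv412] at ht1
      rw [← iv422] at ht2
      have hne : ∀ (k a b : Fin 4), (if k = a then ζ else if k = b then ζ⁻¹ else (1 : F)) ≠ 0 := by
        intro k a b
        split_ifs
        · exact hζ0
        · exact inv_ne_zero hζ0
        · exact one_ne_zero
      have r10 : t1 * s0 = s0 * (t0 * t1) := T1.swap (T0.mul T1) s0a s0b s0f
        (by simp) (by simp [hζ0]) (by intro k h1 h2; simp [h1, h2])
      have hx' : (x : SU 4 F 2) = t1 * t2⁻¹ := by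
        apply act_ext_ee
        intro k
        rw [(T1.mul (T2.inv (fun k => hne k 2 3))) k]
        fin_cases k
        · rw [x.2 _ (by decide)]
          change ee F 0 = (1 * (1 : F)⁻¹) • ee F 0
          rw [inv_one, mul_one, one_smul]
        · rw [hζ _ (by decide)]; congr 1; simp
        · rw [hζ _ (by decide)]
          change ζ • ee F 2 = (ζ⁻¹ * ζ⁻¹) • ee F 2
          rw [hζi]
        · rw [hζ _ (by decide)]
          change ζ • ee F 3 = (1 * (ζ⁻¹)⁻¹) • ee F 3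
          rw [inv_inv, one_mul]
      have e1 : ψ1 ⟨t1, sub12' ht1⟩ = ψ1 ⟨t2, sub22 ht2⟩ := by
        have h1 : x = ⟨t1, sub12' ht1⟩ * (⟨t2, sub22 ht2⟩)⁻¹ := Subtype.ext hx'
        rw [h1, map_mul, map_inv, mul_inv_eq_one] at hx
        exact hx
      have e2 := hcomm s0 hs0 (sub02 hs0) t2 ht2 (sub22 ht2)
      rw [← e1, ← hagree t1 (sub12 ht1) (sub12' ht1)] at e2
      have e3 : ψ0 (⟨t1, sub12 ht1⟩ * ⟨s0, sub02 hs0⟩) =
          ψ0 (⟨s0, sub02 hs0⟩ * (⟨t0, sub02 ht0⟩ * ⟨t1, sub12 ht1⟩)) := by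
        congr 1
        exact Subtype.ext r10
      rw [map_mul, map_mul, map_mul, ← e2] at e3
      have e4 : ψ0 ⟨t0, sub02 ht0⟩ = 1 := by
        have h3 := mul_left_cancel e3
        rw [eq_comm, mul_eq_right] at h3
        exact h3
      have e5 := j0 t0 ht0 e4
      have h2 : act t0 (ee F 0) = ζ • ee F 0 := T0 0
      rw [e5, act_one] at h2
      apply hζ1
      have := congrFun h2 0
      simpa using this.symm
  exact ⟨i0, i1⟩

theorem exists_base2 {n : ℕ} {G : Type*} [Group G] (hF : Fintype.card F = 2 ^ 2) {i : ℕ}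
    (him : i + 4 ≤ n) {Ψ0 : HH F 2 (iv n i 3) →* G} {Ψ1 : HH F 2 (iv n (i + 1) 3) →* G}
    {V0 V1 A B C : Subgroup G} (h0 : Std i Ψ0 V0 A B) (h1 : Std (i + 1) Ψ1 V1 B C)
    (hc : ∀ (g : SU n F 2) (_ : g ∈ HH F 2 (iv n (i + 1) 2)) (h1 : g ∈ HH F 2 (iv n (i + 1) 3))
      (h2 : g ∈ HH F 2 (iv n i 3)), Ψ1 ⟨g, h1⟩ = Ψ0 ⟨g, h2⟩)
    (hAC : ∀ x ∈ A, ∀ y ∈ C, x * y = y * x) (γ : SU 4 F 2 →* G)
    (hγ0 : ∀ x ∈ V0, ∃ y, γ y = x) (hγ1 : ∀ x ∈ V1, ∃ y, γ y = x) :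
    ∃ Φ : HH F 2 (iv n i 4) →* G,
      (∀ (g : SU n F 2) (h1 : g ∈ HH F 2 (iv n i 4)) (h2 : g ∈ HH F 2 (iv n i 3)),
        Φ ⟨g, h1⟩ = Ψ0 ⟨g, h2⟩) ∧
      (∀ (g : SU n F 2) (h1 : g ∈ HH F 2 (iv n i 4)) (h2 : g ∈ HH F 2 (iv n (i + 1) 3)),
        Φ ⟨g, h1⟩ = Ψ1 ⟨g, h2⟩) := by
  have k03 : ∀ a : Fin 4, ix him a ∈ iv n i 3 ↔ a ∈ iv 4 0 3 := by
    intro a; rw [mem_iv, mem_iv]; simp only [ix]; omega
  have k13 : ∀ a : Fin 4, ix him a ∈ iv n (i + 1) 3 ↔ a ∈ iv 4 1 3 := by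
    intro a; rw [mem_iv, mem_iv]; simp only [ix]; omega
  have k02 : ∀ a : Fin 4, ix him a ∈ iv n i 2 ↔ a ∈ iv 4 0 2 := by
    intro a; rw [mem_iv, mem_iv]; simp only [ix]; omega
  have k12 : ∀ a : Fin 4, ix him a ∈ iv n (i + 1) 2 ↔ a ∈ iv 4 1 2 := by
    intro a; rw [mem_iv, mem_iv]; simp only [ix]; omega
  have k22 : ∀ a : Fin 4, ix him a ∈ iv n (i + 2) 2 ↔ a ∈ iv 4 2 2 := by
    intro a; rw [mem_iv, mem_iv]; simp only [ix]; omega
  obtain ⟨f0, hf0⟩ := exists_sub_hom him hF k03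
  obtain ⟨f1, hf1⟩ := exists_sub_hom him hF k13
  have hmem : ∀ {T : Finset (Fin 4)} {S : Finset (Fin n)} (_ : ∀ a, ix him a ∈ S ↔ a ∈ T)
      (x : SU 4 F 2), x ∈ HH F 2 T →
      (((kap him hF).symm x : HH F 2 (iv n i 4)) : SU n F 2) ∈ HH F 2 S := by
    intro T S hST x hx
    rw [← kap_mem_iff him hF _ hST, MulEquiv.apply_symm_apply]
    exact hx
  -- scalars
  have hscal : ∀ (x : SU 4 F 2) (ζ : F) (T : Finset (Fin 4)) (S : Finset (Fin n)),
      (∀ a, ix him a ∈ S ↔ a ∈ T) →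
      (∀ k ∈ S, act (((kap him hF).symm x : HH F 2 (iv n i 4)) : SU n F 2) (ee F k) =
        ζ • ee F k) → ∀ k ∈ T, act x (ee F k) = ζ • ee F k := by
    intro x ζ T S hST h k hk
    have h2 := h (ix him k) ((hST k).2 hk)
    funext r
    have h3 := congrFun h2 (ix him r)
    rw [act_ee, ← kap_apply him hF, MulEquiv.apply_symm_apply] at h3
    rw [act_ee]
    refine h3.trans ?_
    change ζ * (Pi.single (ix him k) (1 : F) : Fin n → F) (ix him r) =
      ζ * (Pi.single k (1 : F) : Fin 4 → F) r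
    by_cases hrk : r = k
    · subst hrk; simp
    · have : ix him r ≠ ix him k := fun h => hrk (ix_injective him h)
      simp [hrk, this]
  have hagree : ∀ g (hg0 : g ∈ HH F 2 (iv 4 0 3)) (hg1 : g ∈ HH F 2 (iv 4 1 3)),
      (Ψ0.comp f0) ⟨g, hg0⟩ = (Ψ1.comp f1) ⟨g, hg1⟩ := by
    intro g hg0 hg1
    have hg : g ∈ HH F 2 (iv 4 1 2) := by
      intro k hk
      by_cases hk0 : k ∈ iv 4 0 3
      · refine hg1 k ?_
        rw [mem_iv] at hk hk0 ⊢
        omega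
      · exact hg0 k hk0
    have h2 := hmem k12 g hg
    have h3 := hmem k13 g hg1
    have h4 := hmem k03 g hg0
    have h5 := hc _ h2 h3 h4
    have e0 : f0 ⟨g, hg0⟩ = ⟨_, h4⟩ := Subtype.ext (hf0 _)
    have e1 : f1 ⟨g, hg1⟩ = ⟨_, h3⟩ := Subtype.ext (hf1 _)
    rw [MonoidHom.comp_apply, MonoidHom.comp_apply, e0, e1, h5]
  have hcomm : ∀ x ∈ HH F 2 (iv 4 0 2), ∀ (hx : x ∈ HH F 2 (iv 4 0 3)),
      ∀ y ∈ HH F 2 (iv 4 2 2), ∀ (hy : y ∈ HH F 2 (iv 4 1 3)),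
      (Ψ0.comp f0) ⟨x, hx⟩ * (Ψ1.comp f1) ⟨y, hy⟩ =
        (Ψ1.comp f1) ⟨y, hy⟩ * (Ψ0.comp f0) ⟨x, hx⟩ := by
    intro x hx hx' y hy hy'
    rw [MonoidHom.comp_apply, MonoidHom.comp_apply]
    refine hAC _ ((h0.low _).2 ⟨_, ?_, rfl⟩) _ ((h1.up _).2 ⟨_, ?_, rfl⟩)
    · rw [hf0]; exact hmem k02 x hx
    · rw [hf1]; exact hmem k22 y hy
  obtain ⟨i0, i1⟩ := inj_pair hF (Ψ0.comp f0) (Ψ1.comp f1) (by
      intro x hx
      obtain ⟨ζ, hζ⟩ := h0.ker _ hx
      refine ⟨ζ, hscal _ ζ _ _ k03 ?_⟩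
      rw [← hf0]
      exact hζ) (by
      intro x hx
      obtain ⟨ζ, hζ⟩ := h1.ker _ hx
      refine ⟨ζ, hscal _ ζ _ _ k13 ?_⟩
      rw [← hf1]
      exact hζ) hagree hcomm
  -- `γ` is injective
  have hγ : Function.Injective γ := by
    rw [injective_iff_map_eq_one]
    intro x hx
    rcases normal_le_center_or_top hF (by norm_num) (by omega) γ.ker with h | h
    · obtain ⟨c, hc⟩ := (mem_center_SU_iff hF (by norm_num) x).1 (h hx)
      have hcv : ∀ v, act x v = c • v := by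
        intro v
        rw [act_def, hc]
        funext k
        rw [Matrix.mulVec_diagonal]
        rfl
      have h4 := scalar_pow hcv
      have hc0 : c ≠ 0 := by rintro rfl; norm_num at h4
      have h3 := cube_of_ne_zero hF hc0
      rw [pow_succ, h3, one_mul] at h4
      exact act_ext (fun v => by rw [hcv, h4, one_smul, act_one])
    · exfalso
      have h3 : ∀ y, γ y = 1 := by
        intro y
        have : y ∈ γ.ker := by rw [h]; trivial
        exact this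
      obtain ⟨w, hw3, hw1, -⟩ := exists_omega hF
      obtain ⟨t0, ht0, T0⟩ := exists_wt (show (0 : Fin 4) ≠ 1 by decide) hw3
      rw [← iv402] at ht0
      have ht0' : t0 ∈ HH F 2 (iv 4 0 3) := HH_mono (iv_mono le_rfl (by omega)) ht0
      obtain ⟨y, hy⟩ := hγ0 ((Ψ0.comp f0) ⟨t0, ht0'⟩) ((h0.range _).2 ⟨_, rfl⟩)
      rw [h3, ← map_one (Ψ0.comp f0)] at hy
      have h4 := congrArg Subtype.val (i0 hy)
      change 1 = t0 at h4
      have h5 : act t0 (ee F 0) = w • ee F 0 := T0 0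
      rw [← h4, act_one] at h5
      apply hw1
      have := congrFun h5 0
      simpa using this.symm
  -- the homomorphisms to `SU_4(2)`
  have hlift : ∀ {K : Type _} [Group K] (f : K →* G), (∀ x, ∃ y, γ y = f x) →
      ∃ f' : K →* SU 4 F 2, ∀ x, γ (f' x) = f x := by
    intro K _ f hf
    choose g hg using hf
    refine ⟨MonoidHom.mk' g ?_, hg⟩
    intro a b
    apply hγ
    rw [hg, map_mul, map_mul, hg, hg]
  obtain ⟨ψ0, hψ0⟩ := hlift (Ψ0.comp f0) (fun x => hγ0 _ ((h0.range _).2 ⟨_, rfl⟩))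
  obtain ⟨ψ1, hψ1⟩ := hlift (Ψ1.comp f1) (fun x => hγ1 _ ((h1.range _).2 ⟨_, rfl⟩))
  obtain ⟨Φ, hΦ0, hΦ1⟩ := complete2 hF ψ0 ψ1
    (fun x y hxy => i0 (by rw [← hψ0, ← hψ0, hxy])) (fun x y hxy => i1 (by rw [← hψ1, ← hψ1, hxy]))
    (fun g h0 h1 => hγ (by rw [hψ0, hψ1, hagree])) (fun x hx hx' y hy hy' => hγ (by
      rw [map_mul, map_mul, hψ0, hψ1]; exact hcomm x hx hx' y hy hy'))
  refine ⟨γ.comp (Φ.comp (kap him hF).toMonoidHom), ?_, ?_⟩
  · intro g hg hg'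
    have h2 : kap him hF ⟨g, hg⟩ ∈ HH F 2 (iv 4 0 3) := (kap_mem_iff him hF _ k03).2 hg'
    have h3 := hΦ0 ⟨_, h2⟩
    change γ (Φ (kap him hF ⟨g, hg⟩)) = _
    change Φ (kap him hF ⟨g, hg⟩) = _ at h3
    rw [h3, hψ0, MonoidHom.comp_apply]
    congr 1
    apply Subtype.ext
    rw [hf0, MulEquiv.symm_apply_apply]
  · intro g hg hg'
    have h2 : kap him hF ⟨g, hg⟩ ∈ HH F 2 (iv 4 1 3) := (kap_mem_iff him hF _ k13).2 hg'
    have h3 := hΦ1 ⟨_, h2⟩
    change γ (Φ (kap him hF ⟨g, hg⟩)) = _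
    change Φ (kap him hF ⟨g, hg⟩) = _ at h3
    rw [h3, hψ1, MonoidHom.comp_apply]
    congr 1
    apply Subtype.ext
    rw [hf1, MulEquiv.symm_apply_apply]

end Cfsg.Agent.Phan
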